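import Cfsg.Agent.Lib.FischerUnique.Unique
import Cfsg.Prelude.Def_CaseTheorems

/-!
Centralisers of transpositions in Fi22 and their transport to every group of type M(22).
-/

set_option autoImplicit false
set_option maxRecDepth 100000

namespace Cfsg.Agent.FischerUnique

open Cfsg.Agent.CosetCert
open Cfsg.Agent.RigidGraph.He
open Cfsg.Agent.Fischer.Factor
open Cfsg.Agent.FischerPresented
open scoped commutatorElement

local notation "FS" => CosetData.Fi22B.setup

theorem isSimple_psu : IsSimpleGroup (Cfsg.PSU 6 K4 2) := by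
  obtain ⟨σ, -, hf, -⟩ := UnitaryStd.exists_setup (F := K4) (q := 2) (n := 6)
    (by rw [K4.card_K4]; norm_num) (by norm_num)
  exact UnitaryStd.isSimpleGroup_psu hf (by norm_num) (fun h => absurd h (by norm_num))

/-- A subgroup of the stabiliser covering the unitary group is everything. -/
theorem eq_top_of_map {N : Subgroup Fi22.H} (h : N.map U62.θ = ⊤) : N = ⊤ := by
  have hz : U62.hgH 0 ∈ N := by
    by_contra hz
    refine U62.isNonsplitDoubleCover.2.2 N ?_
    rw [U62.center_H]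
    refine Subgroup.isComplement'_of_disjoint_and_mul_eq_univ ?_ ?_
    · rw [disjoint_iff, eq_bot_iff]
      rintro x ⟨h1, h2⟩
      rcases U62.mem_ker h1 with rfl | rfl
      · exact Subgroup.mem_bot.2 rfl
      · exact absurd h2 hz
    · refine Set.eq_univ_of_forall fun x => ?_
      obtain ⟨n, hn, e⟩ : U62.θ x ∈ N.map U62.θ := h ▸ Subgroup.mem_top _
      exact ⟨x * n⁻¹, MonoidHom.mem_ker.2 (by rw [map_mul, map_inv, e, mul_inv_cancel]), n, hn,
        inv_mul_cancel_right x n⟩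
  refine eq_top_iff.2 fun x _ => ?_
  obtain ⟨n, hn, e⟩ : U62.θ x ∈ N.map U62.θ := h ▸ Subgroup.mem_top _
  rcases U62.mem_ker (g := x * n⁻¹) (by rw [map_mul, map_inv, e, mul_inv_cancel]) with h1 | h1
  · rw [mul_inv_eq_one] at h1; exact h1 ▸ hn
  · rw [mul_inv_eq_iff_eq_mul] at h1; exact h1 ▸ mul_mem hz hn

theorem z_eq : (U62.hgH 0 : Setup.G FS) = Fi22Class.z := by
  rw [U62.coe_hgH (show (0 : ℕ) < 9 by norm_num), U62.hg_zero]; rfl

theorem nb_le_H : Subgroup.closure (Nb Fi22Class.D Fi22Class.z) ≤ Fi22.H := by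
  rw [Subgroup.closure_le]
  intro x hx
  refine Fi22Class.centralizer_z.le ?_
  exact Subgroup.mem_centralizer_singleton_iff.2 hx.2.2.symm.eq

theorem D_group : Cfsg.IsThreeTranspositionGroup Fi22Class.D := by
  obtain ⟨h1, -, h3⟩ := Fi22Class.isClass
  refine ⟨h1, fun g d hd => ?_, h3⟩
  obtain ⟨k, rfl⟩ := Fi22Class.mem_D.1 hd
  exact Fi22Class.mem_D.2 ⟨g * k, by group⟩

theorem z_mem : Fi22Class.z ∈ Fi22Class.D := Fi22Class.mem_D.2 ⟨1, by group⟩

theorem closure_nb_z : Subgroup.closure (Nb Fi22Class.D Fi22Class.z) = Fi22.H := by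
  refine le_antisymm nb_le_H ?_
  set N := (Subgroup.closure (Nb Fi22Class.D Fi22Class.z)).subgroupOf Fi22.H with hN
  have hNn : N.Normal := by
    refine ⟨fun n hn g => ?_⟩
    have key : ∀ m ∈ Subgroup.closure (Nb Fi22Class.D Fi22Class.z),
        (g : Setup.G FS) * m * (g : Setup.G FS)⁻¹ ∈ Subgroup.closure (Nb Fi22Class.D Fi22Class.z) := by
      intro m hm
      induction hm using Subgroup.closure_induction with
      | mem x hx =>
        refine Subgroup.subset_closure ?_
        have := nb_conj D_group (g : Setup.G FS) hx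
        rwa [Fischer.conj_eq_self_of_commute (Fi22Class.z_comm g g.2).symm] at this
      | one => simp
      | mul x y _ _ hx hy => simpa [mul_assoc] using mul_mem hx hy
      | inv x _ hx => simpa [mul_assoc] using inv_mem hx
    exact key _ hn
  have htop : N.map U62.θ = ⊤ := by
    have := isSimple_psu
    rcases (hNn.map U62.θ U62.surjective).eq_bot_or_eq_top with h | h
    swap; · exact h
    exfalso
    have hsub : N ≤ U62.θ.ker := (Subgroup.map_eq_bot_iff _).1 h
    have h2 : Nat.card (U62.θ.ker) = 2 := U62.card_ker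
    haveI : Finite U62.θ.ker := Nat.finite_of_card_ne_zero (by omega)
    have hset : (Nb Fi22Class.D Fi22Class.z) ⊆ {1, Fi22Class.z} := by
      intro x hx
      have hxH : x ∈ Fi22.H := nb_le_H (Subgroup.subset_closure hx)
      rcases U62.mem_ker (hsub (show (⟨x, hxH⟩ : Fi22.H) ∈ N from Subgroup.subset_closure hx)) with e | e
      · exact Or.inl (congrArg Subtype.val e)
      · exact Or.inr ((congrArg Subtype.val e).trans z_eq)
    have := card_nb_presented.trans (Set.ncard_le_ncard hset (Set.toFinite _))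
    exact absurd (this.trans (Set.ncard_insert_le _ _)) (by rw [Set.ncard_singleton]; norm_num)
  intro x hx
  have : (⟨x, hx⟩ : Fi22.H) ∈ N := eq_top_of_map htop ▸ Subgroup.mem_top _
  exact this

theorem quasisimple_H : Cfsg.IsQuasisimple Fi22.H := by
  have := isSimple_psu
  refine ⟨⟨eq_top_of_map ?_⟩, ?_⟩
  · rw [commutator_def, Subgroup.map_commutator, Subgroup.map_top_of_surjective _ U62.surjective,
      ← commutator_def]
    rcases ((inferInstance : (commutator (Cfsg.PSU 6 K4 2)).Normal)).eq_bot_or_eq_top with h | h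
    · exfalso
      have hab : ∀ a b : Cfsg.PSU 6 K4 2, a * b = b * a := fun a b => by
        have : ⁅a, b⁆ ∈ commutator (Cfsg.PSU 6 K4 2) := Subgroup.commutator_mem_commutator (Subgroup.mem_top a) (Subgroup.mem_top b)
        rw [h, Subgroup.mem_bot] at this
        exact (commutatorElement_eq_one_iff_commute.1 this).eq
      have hc : Subgroup.center (Cfsg.PSU 6 K4 2) = ⊤ :=
        eq_top_iff.2 fun a _ => Subgroup.mem_center_iff.2 fun b => hab b a
      rw [U62.center_psu] at hc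
      exact bot_ne_top hc
    · exact h
  · obtain ⟨e⟩ := U62.isNonsplitDoubleCover.2.1
    exact e.isSimpleGroup_congr.2 isSimple_psu

theorem center_H_eq : Subgroup.center Fi22.H = (Subgroup.zpowers Fi22Class.z).subgroupOf Fi22.H := by
  rw [U62.center_H]
  ext x
  rw [Subgroup.mem_subgroupOf]
  constructor
  · intro h
    rcases U62.mem_ker h with rfl | rfl
    · exact one_mem _
    · rw [z_eq]; exact Subgroup.mem_zpowers _
  · intro h
    have hz : Fi22Class.z ∈ U62.θ.ker.map Fi22.H.subtype := ⟨U62.hgH 0, U62.θ_hgH_zero, z_eq⟩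
    obtain ⟨y, hy, e⟩ := (Subgroup.zpowers_le.2 hz) h
    rwa [Subtype.ext e] at hy

universe u

variable {G : Type u} [Group G] [Finite G] {D : Set G}

/-- The centraliser of a transposition in a group of type M(22). -/
theorem centralizer_facts (hT : Cfsg.IsThreeTranspositionGroup D) (hprim : Cfsg.IsPrimitiveUnderConj D)
    (ht : Cfsg.IsOfTypeM22 G D) {d : G} (hd : d ∈ D) :
    Subgroup.closure (Nb D d) = Subgroup.centralizer ({d} : Set G) ∧
      d ∈ Subgroup.closure (Nb D d) ∧ Cfsg.IsQuasisimple ↥(Subgroup.closure (Nb D d)) ∧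
      Subgroup.center ↥(Subgroup.closure (Nb D d)) =
        (Subgroup.zpowers d).subgroupOf (Subgroup.closure (Nb D d)) := by
  obtain ⟨Φ, hΦ⟩ := exists_iso hT hprim ht
  obtain ⟨y, hy, rfl⟩ := hΦ.ge hd
  obtain ⟨g, rfl⟩ := Fi22Class.mem_D.1 hy
  obtain ⟨T, hTd⟩ : ∃ T : Setup.G FS ≃* G, T = (MulAut.conj g).trans Φ := ⟨_, rfl⟩
  have hTz : T Fi22Class.z = Φ (g * Fi22Class.z * g⁻¹) := by rw [hTd]; rfl
  rw [← hTz] at hd ⊢
  have hTD : ∀ x, T x ∈ D ↔ x ∈ Fi22Class.D := fun x => by
    rw [← hΦ, hTd]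
    show Φ (g * x * g⁻¹) ∈ Φ '' Fi22Class.D ↔ _
    rw [Set.mem_image]
    constructor
    · rintro ⟨w, hw, e⟩
      rw [Φ.injective e] at hw
      have := D_group.2.1 g⁻¹ _ hw
      simpa [mul_assoc] using this
    · intro hx
      exact ⟨_, D_group.2.1 g x hx, rfl⟩
  have hNb : Nb D (T Fi22Class.z) = T '' Nb Fi22Class.D Fi22Class.z := by
    ext x
    obtain ⟨w, rfl⟩ := T.surjective x
    constructor
    · rintro ⟨h1, h2, h3⟩
      exact ⟨w, ⟨(hTD w).1 h1, fun e => h2 (by rw [e]), by simpa using h3.map T.symm.toMonoidHom⟩, rfl⟩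
    · rintro ⟨v, ⟨h1, h2, h3⟩, e⟩
      rw [← e]
      exact ⟨(hTD v).2 h1, fun e => h2 (T.injective e), h3.map T.toMonoidHom⟩
  have hmap : Subgroup.closure (Nb D (T Fi22Class.z)) = Fi22.H.map T.toMonoidHom := by
    rw [hNb, ← closure_nb_z, MonoidHom.map_closure]; rfl
  obtain ⟨E, hE⟩ : ∃ E : Fi22.H ≃* ↥(Subgroup.closure (Nb D (T Fi22Class.z))),
      ∀ x : Fi22.H, (E x : G) = T x :=
    ⟨(MulEquiv.subgroupMap T Fi22.H).trans (MulEquiv.subgroupCongr hmap.symm), fun x => rfl⟩
  have hEc : (Subgroup.center Fi22.H).map E.toMonoidHom =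
      Subgroup.center ↥(Subgroup.closure (Nb D (T Fi22Class.z))) := by
    ext x
    obtain ⟨w, rfl⟩ := E.surjective x
    rw [Subgroup.mem_center_iff]
    constructor
    · rintro ⟨v, hv, e⟩ k
      rw [E.injective e] at hv
      obtain ⟨k, rfl⟩ := E.surjective k
      rw [← map_mul, ← map_mul, Subgroup.mem_center_iff.1 hv k]
    · intro h
      refine ⟨w, Subgroup.mem_center_iff.2 fun k => E.injective ?_, rfl⟩
      rw [map_mul, map_mul, h (E k)]
  refine ⟨?_, ?_, ?_, ?_⟩
  · rw [hmap, ← Fi22Class.centralizer_z]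
    ext x
    obtain ⟨w, rfl⟩ := T.surjective x
    simp only [Subgroup.mem_map_equiv, T.symm_apply_apply, Subgroup.mem_centralizer_singleton_iff]
    rw [← map_mul, ← map_mul, T.injective.eq_iff]
  · rw [hmap]
    exact ⟨_, Fi22Class.centralizer_z ▸ Subgroup.mem_centralizer_singleton_iff.2 rfl, rfl⟩
  · obtain ⟨h1, h2⟩ := quasisimple_H
    refine ⟨⟨?_⟩, ?_⟩
    · rw [← Subgroup.map_top_of_surjective E.toMonoidHom E.surjective, ← h1.commutator_eq_top,
        commutator_def, commutator_def, Subgroup.map_commutator,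
        Subgroup.map_top_of_surjective E.toMonoidHom E.surjective]
    · exact (QuotientGroup.congr _ _ E hEc).isSimpleGroup_congr.1 h2
  · ext x
    obtain ⟨w, rfl⟩ := E.surjective x
    rw [← hEc, Subgroup.mem_map_equiv, E.symm_apply_apply, center_H_eq, Subgroup.mem_subgroupOf,
      Subgroup.mem_subgroupOf, hE, Subgroup.mem_zpowers_iff, Subgroup.mem_zpowers_iff]
    exact exists_congr fun n => by rw [← map_zpow, T.injective.eq_iff]

/-! ### Width -/

theorem flag_count : (flEx 3).length = 21 ∧ (flEx 2).length = 5 ∧ (flEx 3).Nodup ∧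
    (∀ e ∈ flEx 3, e < 4096 ∧ isPt e = true) ∧
    (∀ e ∈ flEx 3, ∀ e' ∈ flEx 3, Nat.beq (fN e e') 0 = true ∧ (e = e' ∨ indep e e' = true)) ∧
    ∀ a < 4, ∀ b < 4, ∀ c < 4, (isPt (nm (combN a b c)) = true → nm (combN a b c) ∈ flEx 3) := by
  decide +kernel

omit [Finite G] in
/-- Pairwise commuting neighbours are at most twenty-one. -/
theorem clique_le {a : G} (A : View D a) {E : Set G} (hsub : E ⊆ Nb D a) (hfin : E.Finite)
    (hc : ∀ x ∈ E, ∀ y ∈ E, Commute x y) : E.ncard ≤ 21 := by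
  classical
  suffices h : ∃ g : V ≃ₗ[K4] V, ∀ x ∈ E, ∃ e ∈ flEx 3, ∃ k : K4, k ≠ 0 ∧ g (A.toVec x) = k • vec e by
    obtain ⟨g, hg⟩ := h
    choose! F hF k hk he using hg
    have hinj : Set.InjOn F E := fun x hx y hy e => by
      refine A.inj x (hsub hx) y (hsub hy) (k x * (k y)⁻¹) (g.injective ?_)
      rw [map_smul, he x hx, he y hy, e, smul_smul, inv_mul_cancel_right₀ (hk y hy)]
    refine (Set.ncard_le_ncard_of_injOn F (t := ↑(flEx 3).toFinset)
      (fun x hx => List.mem_toFinset.2 (hF x hx)) hinj (Finset.finite_toSet _)).trans ?_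
    rw [Set.ncard_coe_finset]
    exact (List.toFinset_card_le _).trans_eq flag_count.1
  have horth : ∀ x ∈ E, ∀ y ∈ E, hf (A.toVec x) (A.toVec y) = 0 := fun x hx y hy =>
    (A.comm x (hsub hx) y (hsub hy)).1 (hc x hx y hy)
  rcases E.eq_empty_or_nonempty with rfl | ⟨x₀, hx₀⟩
  · exact ⟨LinearEquiv.refl _ _, fun x hx => absurd hx (Set.notMem_empty x)⟩
  obtain ⟨n0, i0⟩ := A.isPoint x₀ (hsub hx₀)
  set v1 : ℕ → V := fun _ => A.toVec x₀
  obtain ⟨g₁, hg₁, -, hm₁⟩ := flag_step (k := 0) (by norm_num) n0 i0 IsIso.refl (v := v1)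
    (fun i hi => absurd hi (Nat.not_lt_zero i)) (fun i hi => absurd hi (Nat.not_lt_zero i))
    (fun a b c hc hb ha e => n0 (by
      rw [e, ha one_pos, hb (by norm_num), hc (by norm_num)]; simp))
  have fin : ∀ {g : V ≃ₗ[K4] V}, IsIso g → ∀ {p : G}, p ∈ E → ∀ {a b c : K4},
      g (A.toVec p) = a • vec 5 + (b • vec 80 + c • vec 1280) →
      ∃ e ∈ flEx 3, ∃ k : K4, k ≠ 0 ∧ g (A.toVec p) = k • vec e := by
    intro g hg p hp a b c he
    have hcomb : vec (combN (toDigit a) (toDigit b) (toDigit c)) = g (A.toVec p) := by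
      rw [combN, vec_addN, vec_addN, vec_smN (toDigit_lt a), vec_smN (toDigit_lt b), vec_smN (toDigit_lt c),
        ofDigit_toDigit, ofDigit_toDigit, ofDigit_toDigit, he]
    obtain ⟨hlt, k, hk, ek⟩ := vec_nm (combN (toDigit a) (toDigit b) (toDigit c))
    rw [hcomb] at ek
    refine ⟨_, flag_count.2.2.2.2.2 _ (toDigit_lt a) _ (toDigit_lt b) _ (toDigit_lt c) ?_,
      k⁻¹, inv_ne_zero hk, by rw [ek, smul_smul, inv_mul_cancel₀ hk, one_smul]⟩
    obtain ⟨h0, hv⟩ := A.isPoint p (hsub hp)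
    have h2 := allBelow_spec pt_ok (show combN (toDigit a) (toDigit b) (toDigit c) < 4096 from addN_lt _ _)
    have hz : isZ (combN (toDigit a) (toDigit b) (toDigit c)) = false := by
      cases e : isZ (combN (toDigit a) (toDigit b) (toDigit c)) with
      | false => rfl
      | true =>
        refine absurd ?_ h0
        rw [Nat.eq_of_beq_eq_true e] at hcomb
        refine g.injective (hcomb.symm.trans ?_)
        rw [map_zero]; funext i; fin_cases i <;> rfl
    have ho : Nat.beq (fN (combN (toDigit a) (toDigit b) (toDigit c)) (combN (toDigit a) (toDigit b) (toDigit c))) 0 = true :=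
      orth_iff.2 (by rw [hcomb, hg]; exact hv)
    simpa [hz, ho] using h2
  by_cases h1 : ∀ x ∈ E, ∃ k : K4, A.toVec x = k • A.toVec x₀
  · refine ⟨g₁, fun x hx => ?_⟩
    obtain ⟨k, hk⟩ := h1 x hx
    obtain ⟨m, -, em⟩ := hm₁
    refine fin hg₁ hx (a := k * m) (b := 0) (c := 0) ?_
    rw [hk, map_smul, em, smul_smul, zero_smul, zero_smul, add_zero, add_zero]; rfl
  push Not at h1
  obtain ⟨x₁, hx₁, hne₁⟩ := h1
  obtain ⟨n1, i1⟩ := A.isPoint x₁ (hsub hx₁)
  set v2 : ℕ → V := fun i => [A.toVec x₀, A.toVec x₁].getD i 0 with hv2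
  obtain ⟨g₂, hg₂, hfix₂, hm₂⟩ := flag_step (k := 1) (by norm_num) n1 i1 hg₁ (v := v2)
    (fun i hi => by obtain rfl : i = 0 := (by omega); exact hm₁)
    (fun i hi => by obtain rfl : i = 0 := (by omega); exact horth x₁ hx₁ x₀ hx₀)
    (fun a b c hc hb _ e => hne₁ a (by
      rw [hb (by norm_num), hc (by norm_num), zero_smul, zero_smul, add_zero, add_zero] at e
      exact e))
  obtain ⟨m0, hm0, e0⟩ := hfix₂ 0 one_pos
  obtain ⟨m1, hm1, e1⟩ := hm₂
  change g₂ (A.toVec x₀) = m0 • vec 5 at e0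
  change g₂ (A.toVec x₁) = m1 • vec 80 at e1
  by_cases h2 : ∀ x ∈ E, ∃ a b : K4, A.toVec x = a • A.toVec x₀ + b • A.toVec x₁
  · refine ⟨g₂, fun x hx => ?_⟩
    obtain ⟨a, b, hab⟩ := h2 x hx
    refine fin hg₂ hx (a := a * m0) (b := b * m1) (c := 0) ?_
    rw [hab, map_add, map_smul, map_smul, e0, e1, smul_smul, smul_smul, zero_smul, add_zero]
  push Not at h2
  obtain ⟨x₂, hx₂, hne₂⟩ := h2
  obtain ⟨n2, i2⟩ := A.isPoint x₂ (hsub hx₂)
  obtain ⟨g₃, hg₃, hfix₃, m2, hm2, e2⟩ := flag_step (k := 2) (by norm_num) n2 i2 hg₂ (v := v2)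
    (fun i hi => by
      rcases Nat.lt_succ_iff_lt_or_eq.1 hi with h | rfl
      · exact hfix₂ i h
      · exact ⟨m1, hm1, e1⟩)
    (fun i hi => by
      interval_cases i
      · exact horth x₂ hx₂ x₀ hx₀
      · exact horth x₂ hx₂ x₁ hx₁)
    (fun a b c hc _ _ e => hne₂ a b (by rw [hc (by norm_num), zero_smul, add_zero] at e; exact e))
  obtain ⟨k0, hk0, f0⟩ := hfix₃ 0 (by norm_num)
  obtain ⟨k1, hk1, f1⟩ := hfix₃ 1 (by norm_num)
  change g₃ (A.toVec x₀) = k0 • vec 5 at f0
  change g₃ (A.toVec x₁) = k1 • vec 80 at f1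
  refine ⟨g₃, fun x hx => ?_⟩
  by_contra hno
  have co : ∀ {y : G} {k : K4} {n : ℕ}, y ∈ E → k ≠ 0 → g₃ (A.toVec y) = k • vec n →
      hf (g₃ (A.toVec x)) (vec n) = 0 := fun {y} {k} {n} hy hk he => by
    have h := horth x hx y hy
    rw [← hg₃, he, hf_smul_right, mul_eq_zero] at h
    exact h.resolve_left fun e => hk ((cj_eq_zero k).1 e)
  obtain ⟨_, hmem, -⟩ := patUniq_spec flag_full (v := g₃ (A.toVec x))
    (fun e => (A.isPoint x (hsub hx)).1 (g₃.injective (by rw [e, map_zero])))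
    (by rw [hg₃]; exact (A.isPoint x (hsub hx)).2)
    (fun a ha => absurd ha List.not_mem_nil)
    (fun a ha => by
      simp only [List.mem_cons, List.not_mem_nil, or_false] at ha
      rcases ha with rfl | rfl | rfl
      exacts [co hx₀ hk0 f0, co hx₁ hk1 f1, co hx₂ hm2 e2])
    (fun e he t ht => hno ⟨e, he, t, fun t0 => (A.isPoint x (hsub hx)).1
      (g₃.injective (by rw [ht, t0, zero_smul, map_zero])), ht⟩)
  exact absurd hmem List.not_mem_nil

/-- The width is twenty-two. -/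
theorem width_eq (hT : Cfsg.IsThreeTranspositionGroup D) (hV : ∀ z ∈ D, Nonempty (View D z))
    (hne : D.Nonempty) : Cfsg.commutingWidth D = 22 := by
  classical
  refine le_antisymm (csSup_le ⟨0, ∅, Set.empty_subset _, Set.finite_empty, fun _ h => absurd h
    (Set.notMem_empty _), Set.ncard_empty _⟩ ?_) ?_
  · rintro n ⟨E, hE, hfin, hc, rfl⟩
    rcases E.eq_empty_or_nonempty with rfl | ⟨a, ha⟩
    · simp
    obtain ⟨A⟩ := hV a (hE ha)
    have h1 := clique_le A (E := E \ {a}) (fun x hx => ⟨hE hx.1, hx.2, hc a ha x hx.1⟩)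
      (hfin.subset Set.sdiff_subset) (fun x hx y hy => hc x hx.1 y hy.1)
    have h2 := Set.ncard_sdiff_singleton_add_one ha hfin
    omega
  · obtain ⟨a, ha⟩ := hne
    obtain ⟨A⟩ := hV a ha
    have key : ∀ e ∈ flEx 3, ∃ x ∈ Nb D a, ∃ k : K4, k ≠ 0 ∧ A.toVec x = k • vec e := fun e he => by
      obtain ⟨h0, h1⟩ := isPt_spec (flag_count.2.2.2.1 e he).1 (flag_count.2.2.2.1 e he).2
      exact A.surj _ h0 h1
    choose! F hF k hk he using key
    have hinj : Set.InjOn F ↑(flEx 3).toFinset := by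
      intro x hx y hy h
      rw [Finset.mem_coe, List.mem_toFinset] at hx hy
      have e1 := he x hx
      rw [h, he y hy] at e1
      rcases (flag_count.2.2.2.2.1 x hx y hy).2 with hxy | hxy
      · exact hxy
      · refine absurd ?_ (of_indep (flag_count.2.2.2.1 x hx).1 hxy ((k x)⁻¹ * k y))
        rw [mul_smul, e1, smul_smul, inv_mul_cancel₀ (hk x hx), one_smul]
        exact add_self' _
    set E0 : Set G := F '' ↑(flEx 3).toFinset with hE0
    have hmemE : ∀ y ∈ E0, ∃ e ∈ flEx 3, F e = y := by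
      rintro _ ⟨e, he', rfl⟩
      exact ⟨e, List.mem_toFinset.1 he', rfl⟩
    have hnot : a ∉ E0 := fun h => by
      obtain ⟨e, he', rfl⟩ := hmemE a h
      exact (hF e he').2.1 rfl
    refine le_csSup ?_ ⟨insert a E0, ?_, Set.toFinite _, ?_, ?_⟩
    · refine ⟨(Set.univ : Set G).ncard, ?_⟩
      rintro n ⟨E, -, -, -, rfl⟩
      exact Set.ncard_le_ncard (Set.subset_univ _) (Set.toFinite _)
    · rintro x (rfl | hx)
      · exact ha
      · obtain ⟨e, he', rfl⟩ := hmemE x hx
        exact (hF e he').1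
    · rintro x (rfl | hx) y (rfl | hy)
      · exact Commute.refl _
      · obtain ⟨e, he', rfl⟩ := hmemE y hy
        exact (hF e he').2.2
      · obtain ⟨e, he', rfl⟩ := hmemE x hx
        exact (hF e he').2.2.symm
      · obtain ⟨e, he1, rfl⟩ := hmemE x hx
        obtain ⟨e', he2, rfl⟩ := hmemE y hy
        rw [A.comm _ (hF e he1) _ (hF e' he2), he e he1, he e' he2, hf_smul_left, hf_smul_right,
          orth_iff.1 (flag_count.2.2.2.2.1 e he1 e' he2).1, mul_zero, mul_zero]
    · rw [Set.ncard_insert_of_notMem hnot, hE0, hinj.ncard_image, Set.ncard_coe_finset,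
        List.toFinset_card_of_nodup flag_count.2.2.1, flag_count.1]

end Cfsg.Agent.FischerUnique
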