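import Cfsg.Agent.Lib.FischerUnique.Relators

/-!
A primitive group of type M(22) is the presented group Fi22 with its class of transpositions.
-/

set_option autoImplicit false
set_option maxRecDepth 100000

namespace Cfsg.Agent.FischerUnique

open Cfsg.Agent.CosetCert
open Cfsg.Agent.RigidGraph.He
open Cfsg.Agent.Fischer.Factor

local notation "FS" => CosetData.Fi22B.setup

universe u

variable {G : Type u} [Group G] [Finite G] {D : Set G}

/-- A group of type M(22) contains nine members in the shape of the diagram. -/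
theorem exists_nine (hT : Cfsg.IsThreeTranspositionGroup D) (hV : ∀ z ∈ D, Nonempty (View D z))
    (hne : D.Nonempty) : ∃ f : ℕ → G, Nine D f := by
  obtain ⟨z, hz⟩ := hne
  obtain ⟨W⟩ := hV z hz
  obtain ⟨p0, p1⟩ := isPt_spec (show 5 < 4096 by norm_num) (by decide +kernel)
  obtain ⟨q0, q1⟩ := isPt_spec (show 9 < 4096 by norm_num) (by decide +kernel)
  obtain ⟨a, ha, ka, hka, ea⟩ := W.surj _ p0 p1
  obtain ⟨b, hb, kb, hkb, eb⟩ := W.surj _ q0 q1
  have hab : ¬ Commute a b := fun h => by
    rw [W.hf_zero ha hb hkb eb |>.symm, ea, hf_smul_left, mul_eq_zero] at h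
    exact absurd (orth_iff.2 (h.resolve_left hka)) (by decide +kernel)
  obtain ⟨A₀⟩ := hV a ha.1
  have hzb : Commute b z := hb.2.2.symm
  have hzA : z ∈ Nb D a := ⟨hz, fun e => ha.2.1 e.symm, ha.2.2.symm⟩
  obtain ⟨g, hg, hpath⟩ := exists_path (isCommonSet hT hV ha.1 hb.1 hab A₀) (comSet_toVec A₀ hzA hzb)
  set A := A₀.comp g.symm hg.symm with hA
  have hfound : ∀ i < 6, ∃ x ∈ Nb D a, Commute b x ∧ ∃ k : K4, k ≠ 0 ∧ A.toVec x = k • vec (pp i) := by
    intro i hi
    obtain ⟨x, hx, hc, k, hk, e⟩ := hpath i hi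
    refine ⟨x, hx, hc, k⁻¹, inv_ne_zero hk, ?_⟩
    show g.symm (A₀.toVec x) = _
    rw [g.symm_apply_eq, map_smul, e, smul_smul, inv_mul_cancel₀ hk, one_smul]
  choose! x hxn hxc kx hkx ex using hfound
  obtain ⟨c0, c1⟩ := isPt_spec (show 80 < 4096 by norm_num) (by decide +kernel)
  obtain ⟨c, hc, kc, hkc, ec⟩ := A.surj _ c0 c1
  have hbc : ¬ Commute b c := fun h => by
    refine not_80 (isCommonSet hT hV ha.1 hb.1 hab A) (fun i hi => ?_) (comSet_scaled A hc h hkc ec)
    exact comSet_scaled A (hxn i hi) (hxc i hi) (hkx i hi) (ex i hi)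
  let f : ℕ → G := fun i => [a, b, c, x 3, x 2, x 1, x 0, x 4, x 5].getD i a
  have hf : ∀ i < 9, 2 ≤ i → f i ∈ Nb D a ∧ ∃ k : K4, k ≠ 0 ∧ A.toVec (f i) = k • vec (cd9 i) := by
    intro i hi h2
    interval_cases i
    · exact ⟨hc, kc, hkc, ec⟩
    · exact ⟨hxn 3 (by norm_num), _, hkx 3 (by norm_num), ex 3 (by norm_num)⟩
    · exact ⟨hxn 2 (by norm_num), _, hkx 2 (by norm_num), ex 2 (by norm_num)⟩
    · exact ⟨hxn 1 (by norm_num), _, hkx 1 (by norm_num), ex 1 (by norm_num)⟩
    · exact ⟨hxn 0 (by norm_num), _, hkx 0 (by norm_num), ex 0 (by norm_num)⟩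
    · exact ⟨hxn 4 (by norm_num), _, hkx 4 (by norm_num), ex 4 (by norm_num)⟩
    · exact ⟨hxn 5 (by norm_num), _, hkx 5 (by norm_num), ex 5 (by norm_num)⟩
  have hfb : ∀ i < 9, 3 ≤ i → Commute b (f i) := by
    intro i hi h3
    interval_cases i
    exacts [hxc 3 (by norm_num), hxc 2 (by norm_num), hxc 1 (by norm_num), hxc 0 (by norm_num),
      hxc 4 (by norm_num), hxc 5 (by norm_num)]
  have hrel : ∀ i < 9, ∀ j < 9, i < j → (Commute (f i) (f j) ↔ edgeB i j = false) ∧ f i ≠ f j := by
    intro i hi j hj hij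
    by_cases h2 : 2 ≤ i
    · obtain ⟨hi', ki, hki, ei⟩ := hf i hi h2
      obtain ⟨hj', kj, hkj, ej⟩ := hf j hj (by omega)
      have hcd : ∀ i < 9, ∀ j < 9, 2 ≤ i → i < j → Nat.beq (fN (cd9 i) (cd9 j)) 0 = !edgeB i j ∧
          indep (cd9 i) (cd9 j) = true := by decide +kernel
      obtain ⟨c1, c2⟩ := hcd i hi j hj h2 hij
      refine ⟨?_, fun e => ?_⟩
      · rw [← A.hf_zero hi' hj' hkj ej, ei, hf_smul_left, mul_eq_zero, or_iff_right hki, ← orth_iff, c1]
        simp
      · have hp := of_indep (cd9_pt i hi h2).1 c2 (ki⁻¹ * kj)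
        rw [e, ej] at ei
        rw [mul_smul, ei, smul_smul, inv_mul_cancel₀ hki, one_smul] at hp
        exact hp (add_self' _)
    · rcases (by omega : i = 0 ∨ i = 1) with rfl | rfl
      · rcases (by omega : j = 1 ∨ 2 ≤ j) with rfl | hj2
        · exact ⟨⟨fun h => absurd h hab, fun h => absurd h (by decide)⟩, fun e => hab (show Commute a b from
            (show a = b from e) ▸ Commute.refl a)⟩
        · obtain ⟨hj', -⟩ := hf j hj hj2
          exact ⟨⟨fun _ => (cd9_pt j hj hj2).2.2, fun _ => hj'.2.2⟩, fun e => hj'.2.1 e.symm⟩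
      · rcases (by omega : j = 2 ∨ 3 ≤ j) with rfl | hj3
        · exact ⟨⟨fun h => absurd h hbc, fun h => absurd h (by decide)⟩, fun e => hbc (show Commute b c from
            (show b = c from e) ▸ Commute.refl b)⟩
        · obtain ⟨hj', -⟩ := hf j hj (by omega)
          refine ⟨⟨fun _ => ?_, fun _ => hfb j hj hj3⟩, fun e => hab ?_⟩
          · have : ∀ j < 9, 3 ≤ j → edgeB 1 j = false := by decide +kernel
            exact this j hj hj3
          · rw [show b = f j from e]; exact hj'.2.2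
  refine ⟨f, fun i hi => ?_, fun i hi j hj hij => ?_, fun i hi j hj hij => ?_⟩
  · rcases (by omega : i = 0 ∨ i = 1 ∨ 2 ≤ i) with rfl | rfl | h2
    · exact ha.1
    · exact hb.1
    · exact (hf i hi h2).1.1
  · rcases Nat.lt_or_ge i j with h | h
    · exact (hrel i hi j hj h).1
    · have hs : edgeB j i = edgeB i j := by
        have : ∀ i < 9, ∀ j < 9, edgeB j i = edgeB i j := by decide +kernel
        exact this i hi j hj
      rw [← hs, ← (hrel j hj i hi (by omega)).1]
      exact ⟨fun h => h.symm, fun h => h.symm⟩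
  · rcases Nat.lt_or_ge i j with h | h
    · exact (hrel i hi j hj h).2
    · exact (hrel j hj i hi (by omega)).2.symm

/-- Elements with the property at the seven and at one further point have it at every neighbour. -/
theorem nb_all {f : ℕ → G} (hT : Cfsg.IsThreeTranspositionGroup D) (h : Nine D f) (P : Placed D f)
    (Pr : G → Prop) (hconj : ∀ x y, Pr x → Pr y → Pr (y * x * y⁻¹)) (h7 : ∀ i < 9, Pr (f i))
    {y : G} {n : ℕ} {k : K4} (hn : n = 1913 ∨ n = 3817) (hy : y ∈ Nb D (f 0)) (hk : k ≠ 0)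
    (ey : P.view.toVec y = k • vec n) (hPy : Pr y) : ∀ x ∈ Nb D (f 0), Pr x := by
  let S : V → Prop := fun v => ∃ x ∈ Nb D (f 0), Pr x ∧ ∃ m : K4, m ≠ 0 ∧ v = m • P.view.toVec x
  have hS : IsClosedLines S := by
    refine ⟨fun v m hm => ?_, fun v w => ?_⟩
    · rintro ⟨x, hx, hp, m', hm', rfl⟩
      exact ⟨x, hx, hp, m * m', mul_ne_zero hm hm', smul_smul m m' _⟩
    · rintro ⟨x, hx, hpx, k, hk, rfl⟩ ⟨z, hz, hpz, m, hm, rfl⟩ hne
      obtain ⟨c, hc, e⟩ := P.view.conj x hx z hz
      have hzx : z * x * z⁻¹ ∈ Nb D (f 0) := by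
        have := nb_conj hT z hx
        rwa [Fischer.conj_eq_self_of_commute hz.2.2.symm] at this
      refine ⟨_, hzx, hconj x z hpx hpz, k * c⁻¹, mul_ne_zero hk (inv_ne_zero hc), ?_⟩
      rw [e, smul_smul (k * c⁻¹) c, inv_mul_cancel_right₀ hc, tv, smul_add, smul_smul, add_right_inj,
        smul_smul]
      congr 1
      have : ∀ m : K4, m ≠ 0 → cj m * m = 1 := by decide
      rw [hf_smul_left, hf_smul_right]
      calc k * (cj m * hf (P.view.toVec x) (P.view.toVec z)) * m =
          k * hf (P.view.toVec x) (P.view.toVec z) * (cj m * m) := by ring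
        _ = k * hf (P.view.toVec x) (P.view.toVec z) := by rw [this m hm, mul_one]
  intro x hx
  have key : S (P.view.toVec x) := by
    refine generates hS hn (fun p hp => ?_) ⟨y, hy, hPy, k⁻¹, inv_ne_zero hk, ?_⟩
      (P.view.isPoint x hx).1 (P.view.isPoint x hx).2
    · obtain ⟨i, hi, h2, rfl⟩ := (by decide +kernel : ∀ p ∈ seven, ∃ i < 9, 2 ≤ i ∧ cd9 i = p) p hp
      obtain ⟨m, hm, e⟩ := P.pos i hi h2
      exact ⟨f i, h.mem_nb (by norm_num) hi (by omega) (cd9_pt i hi h2).2.2, h7 i hi, m⁻¹, inv_ne_zero hm,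
        by rw [e, smul_smul, inv_mul_cancel₀ hm, one_smul]⟩
    · rw [ey, smul_smul, inv_mul_cancel₀ hk, one_smul]
  obtain ⟨x', hx', hp, m, hm, e⟩ := key
  rwa [P.view.inj x hx x' hx' m e]

/-- An element centralising the nine is central. -/
theorem central_of_nine (hT : Cfsg.IsThreeTranspositionGroup D) (hprim : Cfsg.IsPrimitiveUnderConj D)
    (hV : ∀ z ∈ D, Nonempty (View D z)) {f : ℕ → G} (h : Nine D f) {k : G}
    (hk : ∀ i < 9, Commute k (f i)) : k ∈ Subgroup.center G := by
  obtain ⟨P⟩ := nonempty_placed hV h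
  obtain ⟨hS, hp⟩ := P.common_path hT hV h
  obtain ⟨n, hn, hSn⟩ : ∃ n, (n = 1913 ∨ n = 3817) ∧ comSet P.view (f 1) (vec n) := by
    by_cases h1 : comSet P.view (f 1) (vec 1913)
    · exact ⟨_, Or.inl rfl, h1⟩
    · exact ⟨_, Or.inr rfl, by
        by_contra h2
        exact h1 ((pair hS hp).2 h2)⟩
  obtain ⟨y, hy, hby, m, hm, ey⟩ := hSn
  have hfix : Commute k y := by
    have hy' : k * y * k⁻¹ ∈ Nb D (f 0) := by
      have := nb_conj hT k hy
      rwa [Fischer.conj_eq_self_of_commute (hk 0 (by norm_num))] at this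
    have ey' : P.view.toVec y = m⁻¹ • vec n := by rw [ey, smul_smul, inv_mul_cancel₀ hm, one_smul]
    have hinc : ∀ i < 9, 2 ≤ i → (Commute (k * y * k⁻¹) (f i) ↔ Nat.beq (fN 1913 (cd9 i)) 0 = true) ∧
        k * y * k⁻¹ ≠ f i := by
      intro i hi h2
      have hfi := h.mem_nb (i := 0) (by norm_num) hi (by omega) (cd9_pt i hi h2).2.2
      obtain ⟨c, hc, ec⟩ := P.pos i hi h2
      have e1 := (P.view.hf_zero hy hfi hc ec).symm
      rw [ey', hf_smul_left, mul_eq_zero, or_iff_right (inv_ne_zero hm), ← orth_iff] at e1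
      have he : Nat.beq (fN n (cd9 i)) 0 = Nat.beq (fN 1913 (cd9 i)) 0 := by
        rcases hn with rfl | rfl
        · rfl
        · obtain h7 := (by decide +kernel : ∀ i < 9, 2 ≤ i → cd9 i ∈ seven) i hi h2
          exact (sev_pair _ h7).symm
      refine ⟨(conj_rel (hk i hi)).1.trans (e1.trans (by rw [he])), fun e => ?_⟩
      have hyi := (conj_rel (hk i hi)).2.1 e
      rw [hyi, ec] at ey'
      have : ∀ n, (n = 1913 ∨ n = 3817) → ∀ i < 9, 2 ≤ i → n < 4096 ∧ indep n (cd9 i) = true := by
        rintro n (rfl | rfl) <;> decide +kernel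
      obtain ⟨nl, ni⟩ := this n hn i hi h2
      refine of_indep nl ni (m * c) ?_
      rw [mul_smul, ey', smul_smul, mul_inv_cancel₀ hm, one_smul]
      exact add_self' _
    let at_ : ℕ → G := fun p =>
      if p = 80 then f 2 else if p = 144 then f 3 else if p = 85 then f 4 else if p = 9 then f 5
      else if p = 5 then f 6 else if p = 1360 then f 7 else f 8
    have hat : ∀ p ∈ seven, ∃ i < 9, 2 ≤ i ∧ cd9 i = p ∧ at_ p = f i := by
      intro p hp
      simp only [seven, List.mem_cons, List.not_mem_nil, or_false] at hp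
      rcases hp with rfl | rfl | rfl | rfl | rfl | rfl | rfl
      · exact ⟨2, by norm_num, le_rfl, rfl, rfl⟩
      · exact ⟨3, by norm_num, by norm_num, rfl, rfl⟩
      · exact ⟨4, by norm_num, by norm_num, rfl, rfl⟩
      · exact ⟨5, by norm_num, by norm_num, rfl, rfl⟩
      · exact ⟨6, by norm_num, by norm_num, rfl, rfl⟩
      · exact ⟨7, by norm_num, by norm_num, rfl, rfl⟩
      · exact ⟨8, by norm_num, by norm_num, rfl, rfl⟩
    obtain ⟨n', hn', m', hm', e'⟩ := P.view.locate hy' uPair (at_ := at_)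
      (fun p hp => by
        have hp7 : p ∈ seven := (List.mem_append.1 hp).elim List.mem_of_mem_filter List.mem_of_mem_filter
        obtain ⟨i, hi, h2, rfl, he⟩ := hat p hp7
        rw [he]
        exact ⟨h.mem_nb (by norm_num) hi (by omega) (cd9_pt i hi h2).2.2, P.pos i hi h2⟩)
      (fun p hp => by
        obtain ⟨h7, hb⟩ := List.mem_filter.1 hp
        obtain ⟨i, hi, h2, rfl, he⟩ := hat p h7
        rw [he, (hinc i hi h2).1]
        intro e
        rw [e] at hb
        exact Bool.noConfusion hb)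
      (fun p hp => by
        obtain ⟨h7, hb⟩ := List.mem_filter.1 hp
        obtain ⟨i, hi, h2, rfl, he⟩ := hat p h7
        rw [he]
        exact ⟨(hinc i hi h2).1.2 hb, (hinc i hi h2).2⟩)
    simp only [List.mem_cons, List.not_mem_nil, or_false] at hn'
    have hmem' : comSet P.view (f 1) (vec n') := comSet_scaled P.view hy'
      ((conj_rel (x := y) (hk 1 (by norm_num))).1.2 hby.symm).symm hm' e'
    have hmem : comSet P.view (f 1) (vec n) := comSet_scaled P.view hy hby (inv_ne_zero hm) ey'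
    have : n' = n := by
      rcases hn' with rfl | rfl <;> rcases hn with rfl | rfl <;> first | rfl | skip
      · exact absurd hmem ((pair hS hp).1 hmem')
      · exact absurd hmem' ((pair hS hp).1 hmem)
    subst this
    refine commute_of_conj_eq (P.view.inj _ hy' _ hy (m' * m) ?_)
    rw [e', ey', smul_smul, mul_assoc, mul_inv_cancel₀ hm, mul_one]
  have hall : ∀ x ∈ Nb D (f 0), Commute k x := by
    refine nb_all hT h P (Commute k) (fun x z hx hz => (hz.mul_right hx).mul_right hz.inv_right)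
      (fun i hi => hk i hi) hn hy (inv_ne_zero hm) ?_ hfix
    rw [ey, smul_smul, inv_mul_cancel₀ hm, one_smul]
  have hcl : ∀ g ∈ Fischer.commClosure D (f 0), Commute k g := by
    intro g hg
    unfold Fischer.commClosure at hg
    induction hg using Subgroup.closure_induction with
    | mem x hx =>
      by_cases e : x = f 0
      · exact e ▸ hk 0 (by norm_num)
      · exact hall x ⟨hx.1, e, hx.2⟩
    | one => exact Commute.one_right k
    | mul x z _ _ h1 h2 => exact h1.mul_right h2
    | inv x _ h1 => exact h1.inv_right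
  refine Fischer.mem_center_of_commute_gen hT.2.2 fun x hx => ?_
  by_cases hc : Commute (f 0) x
  · exact hcl x (Subgroup.subset_closure ⟨hx, hc⟩)
  obtain ⟨g, hg, rfl⟩ := Fischer.prim_trans_noncommuting hT hprim
    ⟨f 0, h.mem 0 (by norm_num), f 2, h.mem 2 (by norm_num),
      h.ne 0 (by norm_num) 2 (by norm_num) (by norm_num),
      (h.rel 0 (by norm_num) 2 (by norm_num) (by norm_num)).2 (by decide)⟩
    (h.mem 0 (by norm_num)) (f 1) (h.mem 1 (by norm_num)) x hx
    (by rw [h.rel 0 (by norm_num) 1 (by norm_num) (by norm_num)]; decide) hc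
  exact ((hcl g hg).mul_right (hk 1 (by norm_num))).mul_right (hcl g hg).inv_right

/-- In the presented group at least 693 further members commute with the first generator. -/
theorem card_nb_presented :
    693 ≤ (Nb FischerPresented.Fi22Class.D FischerPresented.Fi22Class.z).ncard := by
  obtain ⟨-, e, hq0, he⟩ := Setup.exists_equiv_base FS (H := FischerPresented.Fi22.H) (sw := CosetData.Fi22B.sw) rfl
    (by decide +kernel) CosetData.Fi22B.rots_ok CosetData.Fi22B.cert_ok CosetData.Fi22B.fix_ok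
    CosetData.Fi22B.tree_ok CosetData.Fi22B.tree_len
  obtain ⟨q, hq, hcard, -⟩ := orbit_spec (H := FischerPresented.Fi22.H) (Setup.gen_invol FS) rfl (Setup.hom_gen FS) he
    CosetData.Fi22B.orb1_ok
  set w : List ℕ := [1, 0, 2, 1] with hw
  set r := wprod (Setup.gen FS) w.reverse with hr
  have hrq : (r : Setup.G FS ⧸ FischerPresented.Fi22.H) = q := by
    refine e.injective (Fin.ext ?_)
    have h1 := he r ((1 : Setup.G FS) : Setup.G FS ⧸ FischerPresented.Fi22.H)
    rw [show r • ((1 : Setup.G FS) : Setup.G FS ⧸ FischerPresented.Fi22.H) =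
      (r : Setup.G FS ⧸ FischerPresented.Fi22.H) from congrArg QuotientGroup.mk (mul_one r)] at h1
    have h3 := hom_tact (P := CosetData.Fi22B.P) CosetData.Fi22B.tab_ok (Setup.hom FS) (Setup.hom_gen FS)
      w (by decide) (e ((1 : Setup.G FS) : Setup.G FS ⧸ FischerPresented.Fi22.H))
    rw [hq0] at h3
    rw [h1, hq]
    exact h3.trans (by decide +kernel)
  have hcomm : Commute FischerPresented.Fi22Class.z (r * FischerPresented.Fi22Class.z * r⁻¹) := by
    have h2 := FischerPresented.Fi22.word_one (w := rep 2 ([0] ++ (w.reverse ++ [0] ++ w))) (by decide +kernel)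
    have hri : wprod (Setup.gen FS) w = r⁻¹ := by
      rw [hr, wprod_reverse (Setup.gen_invol FS), inv_inv]
    rw [wprod_rep, wprod_append, wprod_append, wprod_append, hri, ← hr] at h2
    simp only [wprod_cons, wprod_nil, mul_one] at h2
    refine (Fischer.commute_iff_sq_eq_one (Setup.gen_invol FS 0) ?_).2 h2
    calc r * FischerPresented.Fi22Class.z * r⁻¹ * (r * FischerPresented.Fi22Class.z * r⁻¹) = r * (FischerPresented.Fi22Class.z * FischerPresented.Fi22Class.z) * r⁻¹ := by group
      _ = 1 := by rw [FischerPresented.Fi22Class.z_sq, mul_one, mul_inv_cancel]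
  let F : Setup.G FS ⧸ FischerPresented.Fi22.H → Setup.G FS := fun p => p.out * FischerPresented.Fi22Class.z * p.out⁻¹
  have hF : ∀ g : Setup.G FS, F (g : Setup.G FS ⧸ FischerPresented.Fi22.H) = g * FischerPresented.Fi22Class.z * g⁻¹ := by
    intro g
    obtain ⟨k, hk⟩ := QuotientGroup.mk_out_eq_mul FischerPresented.Fi22.H g
    show (g : Setup.G FS ⧸ FischerPresented.Fi22.H).out * FischerPresented.Fi22Class.z *
      (g : Setup.G FS ⧸ FischerPresented.Fi22.H).out⁻¹ = _
    rw [hk, mul_inv_rev, mul_assoc g, ← FischerPresented.Fi22Class.z_comm k k.2]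
    group
  have hinj : Function.Injective F := by
    intro p p' h
    obtain ⟨g, rfl⟩ := QuotientGroup.mk_surjective p
    obtain ⟨g', rfl⟩ := QuotientGroup.mk_surjective p'
    rw [hF, hF] at h
    rw [QuotientGroup.eq]
    refine FischerPresented.Fi22Class.centralizer_z.le (Subgroup.mem_centralizer_iff.2 ?_)
    rintro _ rfl
    calc FischerPresented.Fi22Class.z * (g⁻¹ * g') = g⁻¹ * (g * FischerPresented.Fi22Class.z * g⁻¹) * g' := by group
      _ = g⁻¹ * g' * FischerPresented.Fi22Class.z := by rw [h]; group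
  rw [← hcard, ← Set.ncard_image_of_injective _ hinj]
  refine Set.ncard_le_ncard ?_ (@Set.toFinite _ _ (@Subtype.finite _ FischerPresented.Fi22.order_facts.1 _))
  rintro _ ⟨p, ⟨⟨g, hg⟩, rfl⟩, rfl⟩
  rw [← hrq]
  dsimp only
  rw [show (⟨g, hg⟩ : FischerPresented.Fi22.H) • (r : Setup.G FS ⧸ FischerPresented.Fi22.H) =
    ((g * r : Setup.G FS) : Setup.G FS ⧸ FischerPresented.Fi22.H) from rfl, hF]
  refine ⟨FischerPresented.Fi22Class.mem_D.2 ⟨_, rfl⟩, fun h => ?_, ?_⟩
  · have hne : q ≠ ((1 : Setup.G FS) : Setup.G FS ⧸ FischerPresented.Fi22.H) := fun h' => by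
      rw [h', hq0] at hq; exact absurd hq (by decide)
    refine hne (hrq ▸ QuotientGroup.eq.2 ?_)
    rw [mul_one]
    refine inv_mem (FischerPresented.Fi22Class.centralizer_z.le (Subgroup.mem_centralizer_iff.2 ?_))
    rintro _ rfl
    have hgc : Commute g FischerPresented.Fi22Class.z := (FischerPresented.Fi22Class.z_comm g hg).symm
    have h' : r * FischerPresented.Fi22Class.z * r⁻¹ = FischerPresented.Fi22Class.z := by
      calc r * FischerPresented.Fi22Class.z * r⁻¹ = g⁻¹ * (g * r * FischerPresented.Fi22Class.z * (g * r)⁻¹) * g := by group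
        _ = FischerPresented.Fi22Class.z := by rw [h, mul_assoc, ← hgc.eq, inv_mul_cancel_left]
    exact (mul_inv_eq_iff_eq_mul.1 h').symm
  · have hgc : Commute g FischerPresented.Fi22Class.z := (FischerPresented.Fi22Class.z_comm g hg).symm
    have e1 : g * r * FischerPresented.Fi22Class.z * (g * r)⁻¹ = g * (r * FischerPresented.Fi22Class.z * r⁻¹) * g⁻¹ := by group
    rw [e1]
    conv_lhs => rw [← Fischer.conj_eq_self_of_commute hgc]
    exact (Fischer.commute_conj_iff g _ _).2 hcomm

theorem pts_count : ((List.range 4096).filter isPt).length = 693 := by decide +kernel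

omit [Finite G] in
/-- There are at most 693 neighbours. -/
theorem View.card_nb {a : G} (A : View D a) : (Nb D a).Finite ∧ (Nb D a).ncard ≤ 693 := by
  have key : ∀ x : G, ∃ n, x ∈ Nb D a → n ∈ (List.range 4096).filter isPt ∧
      ∃ k : K4, k ≠ 0 ∧ vec n = k • A.toVec x := fun x => by
    by_cases hx : x ∈ Nb D a
    · obtain ⟨n, hn, hp, h⟩ := exists_pt (A.isPoint x hx).1 (A.isPoint x hx).2
      exact ⟨n, fun _ => ⟨List.mem_filter.2 ⟨List.mem_range.2 hn, hp⟩, h⟩⟩
    · exact ⟨0, fun h => absurd h hx⟩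
  choose F hF using key
  set T : Set ℕ := ↑((List.range 4096).filter isPt).toFinset with hT
  have hmaps : Set.MapsTo F (Nb D a) T := fun x hx => List.mem_toFinset.2 (hF x hx).1
  have hinj : Set.InjOn F (Nb D a) := fun x hx y hy h => by
    obtain ⟨k, hk, e⟩ := (hF x hx).2
    obtain ⟨m, hm, e'⟩ := (hF y hy).2
    refine A.inj x hx y hy (k⁻¹ * m) ?_
    rw [mul_smul, ← e', ← h, e, smul_smul, inv_mul_cancel₀ hk, one_smul]
  have hTfin : T.Finite := Finset.finite_toSet _
  have hfin : (Nb D a).Finite :=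
    Set.Finite.of_finite_image (hTfin.subset (Set.image_subset_iff.2 hmaps)) hinj
  refine ⟨hfin, (Set.ncard_le_ncard_of_injOn F hmaps hinj hTfin).trans ?_⟩
  rw [hT, Set.ncard_coe_finset]
  exact (List.toFinset_card_le _).trans_eq pts_count

theorem base_ok : (CosetData.Fi22B.base.all fun w => relW.any (wordEq w) ||
    (List.range 9).any fun i => (List.range 9).any fun j => !Nat.beq i j &&
      wordEq w (rep (bif edgeB i j then 3 else 2) [i, j])) = true := by decide +kernel

/-- A primitive group of type M(22) is Fi22 with its class of transpositions. -/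
theorem exists_iso (hT : Cfsg.IsThreeTranspositionGroup D) (hprim : Cfsg.IsPrimitiveUnderConj D)
    (ht : Cfsg.IsOfTypeM22 G D) : ∃ Φ : Setup.G FS ≃* G, Φ '' FischerPresented.Fi22Class.D = D := by
  have hV := views hT hprim ht
  obtain ⟨d, hd, -⟩ := hprim.2.1
  obtain ⟨f, h⟩ := exists_nine hT hV ⟨d, hd⟩
  let f' : ℕ → G := fun i => if i < 9 then f i else f 0
  have hf' : ∀ i < 9, f' i = f i := fun i hi => if_pos hi
  have h' : Nine D f' := ⟨fun i hi => hf' i hi ▸ h.mem i hi,
    fun i hi j hj hij => by rw [hf' i hi, hf' j hj]; exact h.rel i hi j hj hij,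
    fun i hi j hj hij => by rw [hf' i hi, hf' j hj]; exact h.ne i hi j hj hij⟩
  have hinv : ∀ i, f' i * f' i = 1 := fun i => by
    refine Fischer.TSet.sq hT.1 ?_
    by_cases hi : i < 9
    · exact h'.mem i hi
    · show (if i < 9 then f i else f 0) ∈ D
      rw [if_neg hi]; exact h.mem 0 (by norm_num)
  have hb : ∀ w ∈ CosetData.Fi22B.base, wprod f' w = 1 := by
    intro w hw
    have := List.all_eq_true.1 base_ok w hw
    simp only [Bool.or_eq_true, List.any_eq_true, Bool.and_eq_true, List.mem_range,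
      Bool.not_eq_true'] at this
    rcases this with ⟨u, hu, e⟩ | ⟨i, hi, j, hj, hij, e⟩
    · rw [eq_of_wordEq e]
      have hc := central_of_nine hT hprim hV h' (relator_commutes hT hV h' u hu)
      rw [ht.1, Subgroup.mem_bot] at hc
      exact hc
    · rw [eq_of_wordEq e, wprod_rep, wprod_cons, wprod_cons, wprod_nil, mul_one]
      have hij' : i ≠ j := fun e => by rw [e] at hij; simp at hij
      cases he : edgeB i j with
      | false =>
        rw [cond_false]
        exact (Fischer.commute_iff_sq_eq_one (hinv i) (hinv j)).1 ((h'.rel i hi j hj hij').2 he)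
      | true =>
        rw [cond_true]
        exact Fischer.TSet.cube hT.1 (h'.mem i hi) (h'.mem j hj) fun hc => by
          rw [(h'.rel i hi j hj hij').1 hc] at he; exact Bool.noConfusion he
  obtain ⟨ψ, hψ⟩ := exists_hom_fin FS f' hinv hb
  have hψ' : ∀ i < 9, ψ (Setup.gen FS i) = f' i := hψ
  have hz : ψ FischerPresented.Fi22Class.z = f' 0 := hψ' 0 (by norm_num)
  have := FischerPresented.Fi22.isSimpleGroup
  have hinj : Function.Injective ψ := by
    rw [← MonoidHom.ker_eq_bot_iff]
    refine (MonoidHom.normal_ker ψ).eq_bot_or_eq_top.resolve_right fun htop => ?_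
    refine Fischer.TSet.ne_one hT.1 (h'.mem 0 (by norm_num)) ?_
    rw [← hz, MonoidHom.ker_eq_top_iff.1 htop]; rfl
  have hDsub : ∀ x ∈ FischerPresented.Fi22Class.D, ψ x ∈ D := by
    intro x hx
    obtain ⟨g, rfl⟩ := FischerPresented.Fi22Class.mem_D.1 hx
    rw [map_mul, map_mul, map_inv, hz]
    exact hT.2.1 _ _ (h'.mem 0 (by norm_num))
  obtain ⟨P⟩ := nonempty_placed hV h'
  have hnb : ψ '' Nb FischerPresented.Fi22Class.D FischerPresented.Fi22Class.z = Nb D (f' 0) := by
    obtain ⟨hfin, hle⟩ := P.view.card_nb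
    refine Set.eq_of_subset_of_ncard_le ?_ ?_ hfin
    · rintro _ ⟨x, ⟨hx, hne, hc⟩, rfl⟩
      exact ⟨hDsub x hx, fun e => hne (hinj (e.trans hz.symm)), hz ▸ hc.map ψ⟩
    · rw [Set.ncard_image_of_injective _ hinj]
      exact hle.trans card_nb_presented
  have hK : ∀ g ∈ Fischer.commClosure D (f' 0), g ∈ ψ.range := by
    intro g hg
    unfold Fischer.commClosure at hg
    induction hg using Subgroup.closure_induction with
    | mem x hx =>
      by_cases e : x = f' 0
      · exact ⟨_, hz.trans e.symm⟩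
      · obtain ⟨y, -, rfl⟩ := hnb.ge ⟨hx.1, e, hx.2⟩
        exact ⟨y, rfl⟩
    | one => exact one_mem _
    | mul x z _ _ h1 h2 => exact mul_mem h1 h2
    | inv x _ h1 => exact inv_mem h1
  have hD : D ⊆ ψ.range := by
    intro x hx
    by_cases hc : Commute (f' 0) x
    · exact hK x (Subgroup.subset_closure ⟨hx, hc⟩)
    obtain ⟨g, hg, rfl⟩ := Fischer.prim_trans_noncommuting hT hprim
      ⟨f' 0, h'.mem 0 (by norm_num), f' 2, h'.mem 2 (by norm_num),
        h'.ne 0 (by norm_num) 2 (by norm_num) (by norm_num),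
        (h'.rel 0 (by norm_num) 2 (by norm_num) (by norm_num)).2 (by decide)⟩
      (h'.mem 0 (by norm_num)) (f' 1) (h'.mem 1 (by norm_num)) x hx
      (by rw [h'.rel 0 (by norm_num) 1 (by norm_num) (by norm_num)]; decide) hc
    exact mul_mem (mul_mem (hK g hg) ⟨_, hψ' 1 (by norm_num)⟩) (inv_mem (hK g hg))
  have hsurj : Function.Surjective ψ := by
    rw [← MonoidHom.range_eq_top, eq_top_iff, ← hT.2.2, Subgroup.closure_le]
    exact hD
  refine ⟨MulEquiv.ofBijective ψ ⟨hinj, hsurj⟩, ?_⟩
  refine Set.Subset.antisymm (Set.image_subset_iff.2 hDsub) fun x hx => ?_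
  obtain ⟨g, hg⟩ := hprim.1 (f' 0) (h'.mem 0 (by norm_num)) x hx
  obtain ⟨g', rfl⟩ := hsurj g
  refine ⟨g' * FischerPresented.Fi22Class.z * g'⁻¹, FischerPresented.Fi22Class.mem_D.2 ⟨g', rfl⟩, ?_⟩
  show ψ _ = x
  rw [map_mul, map_mul, map_inv, hz, hg]

end Cfsg.Agent.FischerUnique
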