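import Cfsg.Agent.Lib.FischerUnique.Unique
import Cfsg.Agent.Lib.FischerPresented.Fi22Two

/-! Involutions of a group of type M(22), moved from the presented group. -/

set_option autoImplicit false

namespace Cfsg.Agent.FischerUnique.InvolutionClasses

open Cfsg.Agent.FischerPresented

variable {G : Type*} [Group G] {D : Set G}

/-- A list of distinct pairwise commuting members of `D` with the given length and product. -/
def Fac (D : Set G) (m : ℕ) (x : G) : Prop :=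
  ∃ l : List G, l.Nodup ∧ l.length = m ∧ (∀ a ∈ l, a ∈ D) ∧ (∀ a ∈ l, ∀ b ∈ l, Commute a b) ∧ l.prod = x

local notation "G₀" => CosetCert.Setup.G CosetData.Fi22B.setup

theorem down (Φ : G₀ ≃* G) (hD : Φ '' Fi22Class.D = D) {m : ℕ} {x : G} (h : Fac D m x) :
    ∃ l : List G₀, Fi22Two.IsFactors l ∧ l.length = m ∧ l.prod = Φ.symm x := by
  obtain ⟨l, h1, h2, h3, h4, rfl⟩ := h
  refine ⟨l.map Φ.symm, ⟨h1.map Φ.symm.injective, ?_, ?_⟩, by rw [List.length_map, h2],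
    (map_list_prod Φ.symm l).symm⟩
  · intro a ha
    obtain ⟨b, hb, rfl⟩ := List.mem_map.1 ha
    obtain ⟨c, hc, rfl⟩ := (hD ▸ h3 b hb : b ∈ Φ '' Fi22Class.D)
    rwa [Φ.symm_apply_apply]
  · intro a ha b hb
    obtain ⟨a', ha', rfl⟩ := List.mem_map.1 ha
    obtain ⟨b', hb', rfl⟩ := List.mem_map.1 hb
    exact (h4 a' ha' b' hb').map Φ.symm.toMonoidHom

theorem up (Φ : G₀ ≃* G) (hD : Φ '' Fi22Class.D = D) {l : List G₀} (h : Fi22Two.IsFactors l) :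
    Fac D l.length (Φ l.prod) := by
  refine ⟨l.map Φ, h.1.map Φ.injective, List.length_map _, ?_, ?_, (map_list_prod Φ l).symm⟩
  · intro a ha
    obtain ⟨b, hb, rfl⟩ := List.mem_map.1 ha
    exact hD ▸ ⟨b, h.2.1 b hb, rfl⟩
  · intro a ha b hb
    obtain ⟨a', ha', rfl⟩ := List.mem_map.1 ha
    obtain ⟨b', hb', rfl⟩ := List.mem_map.1 hb
    exact (h.2.2 a' ha' b' hb').map Φ.toMonoidHom

theorem exists_fac (Φ : G₀ ≃* G) (hD : Φ '' Fi22Class.D = D) (x : G) (hx : orderOf x = 2) :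
    ∃ m, 1 ≤ m ∧ m ≤ 3 ∧ Fac D m x := by
  obtain ⟨l, h1, h3, hl, e⟩ := Fi22Two.exists_factors (Φ.symm x) (by rw [Φ.symm.orderOf_eq, hx])
  refine ⟨l.length, h1, h3, ?_⟩
  have := up Φ hD hl
  rwa [e, Φ.apply_symm_apply] at this

theorem classes (Φ : G₀ ≃* G) (hD : Φ '' Fi22Class.D = D) (m : ℕ) (h1 : 1 ≤ m) (h3 : m ≤ 3) :
    (∃ x : G, orderOf x = 2 ∧ Fac D m x) ∧ ∀ x y : G, Fac D m x → Fac D m y → IsConj x y := by
  obtain ⟨hlen, hf⟩ := Fi22Two.std_factors m h1 h3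
  refine ⟨⟨Φ (Fi22Two.std m).prod, by rw [Φ.orderOf_eq, Fi22Two.std_order h1 h3], ?_⟩, ?_⟩
  · have := up Φ hD hf
    rwa [hlen] at this
  · intro x y hx hy
    obtain ⟨l, hl, hm, e⟩ := down Φ hD hx
    obtain ⟨l', hl', hm', e'⟩ := down Φ hD hy
    have a := Fi22Two.conj_std l hl (hm ▸ h1) (hm ▸ h3)
    have b := Fi22Two.conj_std l' hl' (hm' ▸ h1) (hm' ▸ h3)
    rw [hm] at a
    rw [hm'] at b
    have := (Φ.toMonoidHom.map_isConj (a.symm.trans b))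
    rw [e, e'] at this
    simpa using this

theorem unique_length (Φ : G₀ ≃* G) (hD : Φ '' Fi22Class.D = D) {m m' : ℕ} {x : G} (h1 : 1 ≤ m)
    (h3 : m ≤ 3) (h1' : 1 ≤ m') (h3' : m' ≤ 3) (hx : Fac D m x) (hx' : Fac D m' x) : m = m' := by
  obtain ⟨l, hl, hm, e⟩ := down Φ hD hx
  obtain ⟨l', hl', hm', e'⟩ := down Φ hD hx'
  rw [← hm, ← hm']
  exact Fi22Two.length_unique hl hl' (hm ▸ h1) (hm ▸ h3) (hm' ▸ h1') (hm' ▸ h3') (e.trans e'.symm)

end Cfsg.Agent.FischerUnique.InvolutionClasses
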