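import Cfsg.Agent.Lib.FischerUnique.Model

/-!
Deduction trees for sets of isotropic points closed under the transvection lines and meeting every line
through a member in exactly one further point.
-/

set_option autoImplicit false

namespace Cfsg.Agent.FischerUnique

open Cfsg.Agent.CosetCert
open Cfsg.Agent.RigidGraph.He

/-- The properties of the set of common neighbours of two non-commuting transpositions. -/
structure IsCommonSet (S : V → Prop) : Prop where
  sub : ∀ v, S v → v ≠ 0 ∧ hf v v = 0
  scale : ∀ v (k : K4), k ≠ 0 → S v → S (k • v)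
  close : ∀ v w, S v → S w → hf v w ≠ 0 → S (v + hf v w • w)
  lineEx : ∀ s x, S s → hf x x = 0 → hf x s = 0 → (∀ k : K4, x + k • s ≠ 0) → ∃ k : K4, S (x + k • s)
  lineUniq : ∀ s x (k : K4), S s → S x → hf x s = 0 → (∀ k : K4, x + k • s ≠ 0) → k ≠ 0 →
    ¬ S (x + k • s)

theorem IsCommonSet.comap {S : V → Prop} (hS : IsCommonSet S) {g : V ≃ₗ[K4] V} (hg : IsIso g) :
    IsCommonSet fun v => S (g v) where
  sub v hv := ⟨fun e => (hS.sub _ hv).1 (by rw [e, map_zero]), by rw [← hg]; exact (hS.sub _ hv).2⟩
  scale v k hk hv := by rw [map_smul]; exact hS.scale _ k hk hv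
  close v w hv hw h := by
    have := hS.close _ _ hv hw (by rwa [hg])
    rwa [hg, ← map_smul, ← map_add] at this
  lineEx s x hs hxx hxs hne := by
    obtain ⟨k, hk⟩ := hS.lineEx (g s) (g x) hs (by rwa [hg]) (by rwa [hg]) fun k e =>
      hne k (g.injective (by rw [map_add, map_smul, e, map_zero]))
    exact ⟨k, by rwa [map_add, map_smul]⟩
  lineUniq s x k hs hx hxs hne hk h := by
    rw [map_add, map_smul] at h
    exact hS.lineUniq (g s) (g x) k hs hx (by rwa [hg]) (fun k e =>
      hne k (g.injective (by rw [map_add, map_smul, e, map_zero]))) hk h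

/-- A deduction tree. -/
inductive Cert where
  | leaf (st : List ℕ) (a b : ℕ)
  | node (st : List ℕ) (s x : ℕ) (c0 c1 c2 c3 : Cert)

/-- The line through two codes does not collapse. -/
def indep (x s : ℕ) : Bool :=
  !isZ x && !isZ (addN x s) && !isZ (addN x (smN 2 s)) && !isZ (addN x (smN 3 s))

/-- One deduction. -/
def stepOne (I O e : ℕ) : Option (ℕ × ℕ) :=
  let kind := Nat.mod e 4
  let k := Nat.mod (Nat.shiftRight e 2) 4
  let s := Nat.mod (Nat.shiftRight e 4) 4096
  let t := Nat.shiftRight e 16
  bif Nat.beq kind 0 then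
    bif bit I s && bit I t && !Nat.beq (fN s t) 0 then
      some (insBit I (nm (addN s (smN (fN s t) t))), O) else none
  else bif Nat.beq kind 1 then
    bif bit O s && bit I t && !Nat.beq (fN s t) 0 then
      some (I, insBit O (nm (addN s (smN (fN s t) t)))) else none
  else
    bif bit I s && bit I t && Nat.beq (fN t s) 0 && Nat.blt t 4096 && indep t s && !Nat.beq k 0 then
      some (I, insBit O (nm (addN t (smN k s)))) else none

/-- Several deductions. -/
def stepAll : List ℕ → ℕ → ℕ → Option (ℕ × ℕ)
  | [], I, O => some (I, O)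
  | e :: l, I, O => match stepOne I O e with
    | none => none
    | some r => stepAll l r.1 r.2

/-- The tree proves the goal. -/
def check (goal : ℕ → ℕ → Bool) : Cert → ℕ → ℕ → Bool
  | .leaf st a b, I, O => match stepAll st I O with
    | none => false
    | some r => (bit r.1 a && bit r.2 a) || (bit r.1 a && bit r.1 b && goal a b)
  | .node st s x c0 c1 c2 c3, I, O => match stepAll st I O with
    | none => false
    | some r => bit r.1 s && Nat.blt x 4096 && Nat.beq (fN x x) 0 && Nat.beq (fN x s) 0 && indep x s &&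
        check goal c0 (insBit r.1 (nm x)) r.2 &&
        check goal c1 (insBit r.1 (nm (addN x (smN 1 s)))) r.2 &&
        check goal c2 (insBit r.1 (nm (addN x (smN 2 s)))) r.2 &&
        check goal c3 (insBit r.1 (nm (addN x (smN 3 s)))) r.2

/-- Members and non-members. -/
def Holds (S : V → Prop) (I O : ℕ) : Prop :=
  (∀ p, bit I p = true → S (vec p)) ∧ ∀ p, bit O p = true → ¬ S (vec p)

/-- The set of given codes. -/
def bitsOf (l : List ℕ) : ℕ := l.foldl insBit 0

theorem bit_bitsOf {l : List ℕ} {p : ℕ} (h : bit (bitsOf l) p = true) : p ∈ l := by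
  have aux : ∀ (l : List ℕ) (m : ℕ), bit (l.foldl insBit m) p = true → p ∈ l ∨ bit m p = true := by
    intro l
    induction l with
    | nil => exact fun m h => Or.inr h
    | cons a l ih =>
      intro m h
      rcases ih _ h with h | h
      · exact Or.inl (List.mem_cons_of_mem _ h)
      · rcases bit_insBit h with h | h
        · exact Or.inl (h ▸ List.mem_cons_self)
        · exact Or.inr h
  rcases aux l 0 h with h | h
  · exact h
  · rw [bit_zero] at h; exact Bool.noConfusion h

theorem holds_bitsOf {S : V → Prop} {l l' : List ℕ} (h : ∀ p ∈ l, S (vec p))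
    (h' : ∀ p ∈ l', ¬ S (vec p)) : Holds S (bitsOf l) (bitsOf l') :=
  ⟨fun p hp => h p (bit_bitsOf hp), fun p hp => h' p (bit_bitsOf hp)⟩

theorem of_indep {x s : ℕ} (hx : x < 4096) (h : indep x s = true) : ∀ k : K4, vec x + k • vec s ≠ 0 := by
  simp only [indep, isZ, Bool.and_eq_true, Bool.not_eq_true', ← Bool.not_eq_true, Nat.beq_eq] at h
  obtain ⟨⟨⟨h0, h1⟩, h2⟩, h3⟩ := h
  have e2 : vec (addN x (smN 2 s)) = vec x + K4.w • vec s := by rw [vec_addN, vec_smN (by norm_num)]; rfl
  have e3 : vec (addN x (smN 3 s)) = vec x + K4.v • vec s := by rw [vec_addN, vec_smN (by norm_num)]; rfl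
  intro k e
  cases k with
  | o =>
    refine h0 (eq_zero_of_vec hx ?_)
    rw [show (K4.o : K4) = 0 from rfl, zero_smul, add_zero] at e
    exact e
  | l =>
    refine h1 (eq_zero_of_vec (addN_lt _ _) ?_)
    rw [show (K4.l : K4) = 1 from rfl, one_smul] at e
    rw [vec_addN]; exact e
  | w => exact h2 (eq_zero_of_vec (addN_lt _ _) (e2 ▸ e))
  | v => exact h3 (eq_zero_of_vec (addN_lt _ _) (e3 ▸ e))

theorem S_nm {S : V → Prop} (hS : IsCommonSet S) {x : ℕ} : S (vec (nm x)) ↔ S (vec x) := by
  obtain ⟨-, k, hk, he⟩ := vec_nm x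
  rw [he]
  refine ⟨fun h => ?_, fun h => hS.scale _ k hk h⟩
  have := hS.scale _ k⁻¹ (inv_ne_zero hk) h
  rwa [smul_smul, inv_mul_cancel₀ hk, one_smul] at this

theorem holds_insI {S : V → Prop} {I O p : ℕ} (h : Holds S I O) (hp : S (vec p)) :
    Holds S (insBit I p) O :=
  ⟨fun q hq => (bit_insBit hq).elim (fun e => e ▸ hp) (h.1 q), h.2⟩

theorem holds_insO {S : V → Prop} {I O p : ℕ} (h : Holds S I O) (hp : ¬ S (vec p)) :
    Holds S I (insBit O p) :=
  ⟨h.1, fun q hq => (bit_insBit hq).elim (fun e => e ▸ hp) (h.2 q)⟩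

theorem stepOne_sound {S : V → Prop} (hS : IsCommonSet S) {I O e : ℕ} {r : ℕ × ℕ}
    (h : Holds S I O) (hr : stepOne I O e = some r) : Holds S r.1 r.2 := by
  simp only [stepOne] at hr
  generalize hkk : Nat.mod (Nat.shiftRight e 2) 4 = k at hr
  generalize Nat.mod (Nat.shiftRight e 4) 4096 = s at hr
  generalize Nat.shiftRight e 16 = t at hr
  have hk : k < 4 := hkk ▸ Nat.mod_lt _ (by norm_num)
  generalize Nat.mod e 4 = kind at hr
  cases hc0 : Nat.beq kind 0 with
  | true =>
    rw [hc0, cond_true] at hr
    cases hc : bit I s && bit I t && !Nat.beq (fN s t) 0 with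
    | false => rw [hc] at hr; simp at hr
    | true =>
      rw [hc, cond_true, Option.some.injEq] at hr
      subst hr
      simp only [Bool.and_eq_true, Bool.not_eq_true'] at hc
      obtain ⟨h1, h2⟩ := fN_spec s t
      refine holds_insI h ((S_nm hS).2 ?_)
      rw [vec_addN, vec_smN h1, h2]
      exact hS.close _ _ (h.1 s hc.1.1) (h.1 t hc.1.2) fun e => by
        rw [orth_iff.2 e] at hc; exact Bool.noConfusion hc.2
  | false =>
    rw [hc0, cond_false] at hr
    cases hc1 : Nat.beq kind 1 with
    | true =>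
      rw [hc1, cond_true] at hr
      cases hc : bit O s && bit I t && !Nat.beq (fN s t) 0 with
      | false => rw [hc] at hr; simp at hr
      | true =>
        rw [hc, cond_true, Option.some.injEq] at hr
        subst hr
        simp only [Bool.and_eq_true, Bool.not_eq_true'] at hc
        obtain ⟨h1, h2⟩ := fN_spec s t
        refine holds_insO h fun hy => h.2 s hc.1.1 ?_
        rw [S_nm hS, vec_addN, vec_smN h1, h2] at hy
        have ht := h.1 t hc.1.2
        set a := hf (vec s) (vec t)
        have e1 : hf (vec s + a • vec t) (vec t) = a := by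
          rw [hf_add_left, hf_smul_left, (hS.sub _ ht).2, mul_zero, add_zero]
        have := hS.close _ _ hy ht (by
          rw [e1]; intro e; rw [orth_iff.2 e] at hc; exact Bool.noConfusion hc.2)
        rwa [e1, add_assoc, add_self', add_zero] at this
    | false =>
      rw [hc1, cond_false] at hr
      cases hc : bit I s && bit I t && Nat.beq (fN t s) 0 && Nat.blt t 4096 && indep t s && !Nat.beq k 0 with
      | false => rw [hc] at hr; simp at hr
      | true =>
        rw [hc, cond_true, Option.some.injEq] at hr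
        subst hr
        simp only [Bool.and_eq_true, Bool.not_eq_true', Nat.blt_eq] at hc
        obtain ⟨⟨⟨⟨⟨c1, c2⟩, c3⟩, c4⟩, c5⟩, c6⟩ := hc
        refine holds_insO h fun hy => ?_
        rw [S_nm hS, vec_addN, vec_smN hk] at hy
        have hk' : ∀ d < 4, K4.ofDigit d = 0 → d = 0 := by decide
        refine hS.lineUniq _ _ _ (h.1 s c1) (h.1 t c2) (orth_iff.1 c3) (of_indep c4 c5) (fun e => ?_) hy
        rw [hk' k hk e] at c6; exact Bool.noConfusion c6

theorem stepAll_sound {S : V → Prop} (hS : IsCommonSet S) : ∀ (l : List ℕ) {I O : ℕ} {r : ℕ × ℕ},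
    Holds S I O → stepAll l I O = some r → Holds S r.1 r.2 := by
  intro l
  induction l with
  | nil => intro I O r h hr; rw [stepAll, Option.some.injEq] at hr; exact hr ▸ h
  | cons e l ih =>
    intro I O r h hr
    rw [stepAll] at hr
    cases he : stepOne I O e with
    | none => rw [he] at hr; simp at hr
    | some r' => rw [he] at hr; exact ih (stepOne_sound hS h he) hr

theorem check_sound {S : V → Prop} (hS : IsCommonSet S) {goal : ℕ → ℕ → Bool} :
    ∀ (c : Cert) {I O : ℕ}, Holds S I O → check goal c I O = true →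
      ∃ a b, S (vec a) ∧ S (vec b) ∧ goal a b = true := by
  intro c
  induction c with
  | leaf st a b =>
    intro I O h hc
    rw [check] at hc
    cases hs : stepAll st I O with
    | none => rw [hs] at hc; exact Bool.noConfusion hc
    | some r =>
      rw [hs] at hc
      simp only [Bool.or_eq_true, Bool.and_eq_true] at hc
      have hr := stepAll_sound hS _ h hs
      rcases hc with ⟨h1, h2⟩ | ⟨⟨h1, h2⟩, h3⟩
      · exact absurd (hr.1 a h1) (hr.2 a h2)
      · exact ⟨a, b, hr.1 a h1, hr.1 b h2, h3⟩
  | node st s x c0 c1 c2 c3 i0 i1 i2 i3 =>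
    intro I O h hc
    rw [check] at hc
    cases hs : stepAll st I O with
    | none => rw [hs] at hc; exact Bool.noConfusion hc
    | some r =>
      rw [hs] at hc
      simp only [Bool.and_eq_true, Nat.blt_eq] at hc
      obtain ⟨⟨⟨⟨⟨⟨⟨⟨b1, b2⟩, b3⟩, b4⟩, b5⟩, d0⟩, d1⟩, d2⟩, d3⟩ := hc
      have hr := stepAll_sound hS _ h hs
      obtain ⟨k, hk⟩ := hS.lineEx (vec s) (vec x) (hr.1 s b1) (orth_iff.1 b3) (orth_iff.1 b4)
        (of_indep b2 b5)
      have hd : ∀ d < 4, K4.ofDigit d = k → S (vec (nm (addN x (smN d s)))) := fun d hd e => by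
        rw [S_nm hS, vec_addN, vec_smN hd, e]; exact hk
      cases k with
      | o =>
        refine i0 (holds_insI hr ((S_nm hS).2 ?_)) d0
        rw [show (K4.o : K4) = 0 from rfl, zero_smul, add_zero] at hk
        exact hk
      | l => exact i1 (holds_insI hr (hd 1 (by norm_num) rfl)) d1
      | w => exact i2 (holds_insI hr (hd 2 (by norm_num) rfl)) d2
      | v => exact i3 (holds_insI hr (hd 3 (by norm_num) rfl)) d3

/-- A tree with no goal is a contradiction. -/
theorem check_false {S : V → Prop} (hS : IsCommonSet S) {c : Cert} {l l' : List ℕ}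
    (hl : ∀ p ∈ l, S (vec p)) (hl' : ∀ p ∈ l', ¬ S (vec p))
    (hc : check (fun _ _ => false) c (bitsOf l) (bitsOf l') = true) : False := by
  obtain ⟨a, b, -, -, h⟩ := check_sound hS c (holds_bitsOf hl hl') hc
  exact Bool.noConfusion h

end Cfsg.Agent.FischerUnique
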