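import Cfsg.Agent.Lib.FischerUnique.Normal

/-!
The finite facts about common sets used for the nine generators.
-/

set_option autoImplicit false
set_option maxRecDepth 100000

namespace Cfsg.Agent.FischerUnique

open Cfsg.Agent.CosetCert
open Cfsg.Agent.RigidGraph.He

/-- A set closed under third points. -/
def IsClosedLines (S : V → Prop) : Prop :=
  (∀ v (k : K4), k ≠ 0 → S v → S (k • v)) ∧ ∀ v w, S v → S w → hf v w ≠ 0 → S (v + hf v w • w)

theorem notC_ok : check (fun _ _ => false) notC (bitsOf (pth ++ [80])) (bitsOf []) = true := by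
  decide +kernel

theorem notTheta_ok : check (fun _ _ => false) notTheta (bitsOf (pth ++ [2457])) (bitsOf []) = true := by
  decide +kernel

theorem endI_ok : check (fun _ _ => false) endI0 (bitsOf (pth ++ [3328])) (bitsOf []) = true := by
  decide +kernel

theorem armA_ok : check (fun _ _ => false) armA (bitsOf [5, 9, 85, 1360, 2304, 1280, 1917]) (bitsOf [144]) = true := by
  decide +kernel

theorem armG_ok : check (fun _ _ => false) armG (bitsOf [5, 9, 85, 1360, 2304, 1280, 1689]) (bitsOf [144]) = true := by
  decide +kernel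

theorem pairIn_ok : check (fun _ _ => false) pairIn (bitsOf (pth ++ [1913, 3817])) (bitsOf []) = true := by
  decide +kernel

theorem pairOut_ok : check (fun _ _ => false) pairOut (bitsOf pth) (bitsOf [1913, 3817]) = true := by
  decide +kernel

theorem pth_sub {S : V → Prop} (hp : ∀ i < 6, S (vec (pp i))) : ∀ p ∈ pth, S (vec p) := by
  intro p h
  simp only [pth, List.mem_cons, List.not_mem_nil, or_false] at h
  rcases h with rfl | rfl | rfl | rfl | rfl | rfl
  · exact hp 0 (by norm_num)
  · exact hp 1 (by norm_num)
  · exact hp 2 (by norm_num)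
  · exact hp 3 (by norm_num)
  · exact hp 4 (by norm_num)
  · exact hp 5 (by norm_num)

theorem not_of_check {S : V → Prop} (hS : IsCommonSet S) {c : Cert} {l : List ℕ} {p : ℕ}
    (hl : ∀ q ∈ l, S (vec q)) (hc : check (fun _ _ => false) c (bitsOf (l ++ [p])) (bitsOf []) = true) :
    ¬ S (vec p) := fun h =>
  check_false hS (l' := []) (fun q hq => (List.mem_append.1 hq).elim (hl q) fun e => by
    rw [List.mem_singleton.1 e]; exact h) (fun _ h => absurd h List.not_mem_nil) hc

theorem not_80 {S : V → Prop} (hS : IsCommonSet S) (hp : ∀ i < 6, S (vec (pp i))) : ¬ S (vec 80) :=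
  not_of_check hS (pth_sub hp) notC_ok

theorem not_2457 {S : V → Prop} (hS : IsCommonSet S) (hp : ∀ i < 6, S (vec (pp i))) : ¬ S (vec 2457) :=
  not_of_check hS (pth_sub hp) notTheta_ok

theorem not_3328 {S : V → Prop} (hS : IsCommonSet S) (hp : ∀ i < 6, S (vec (pp i))) : ¬ S (vec 3328) :=
  not_of_check hS (pth_sub hp) endI_ok

theorem arm {U : V → Prop} (hU : IsCommonSet U) (hp : ∀ p ∈ [5, 9, 85, 1360, 2304, 1280], U (vec p))
    (hd : ¬ U (vec 144)) : ¬ U (vec 1917) ∧ ¬ U (vec 1689) := by
  have key : ∀ (c : Cert) (p : ℕ),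
      check (fun _ _ => false) c (bitsOf ([5, 9, 85, 1360, 2304, 1280] ++ [p])) (bitsOf [144]) = true →
        ¬ U (vec p) := fun c p hc h =>
    check_false hU (l' := [144]) (fun q hq => (List.mem_append.1 hq).elim (hp q) fun e => by
      rw [List.mem_singleton.1 e]; exact h) (fun q hq => by rw [List.mem_singleton.1 hq]; exact hd) hc
  exact ⟨key _ _ armA_ok, key _ _ armG_ok⟩

theorem pair {S : V → Prop} (hS : IsCommonSet S) (hp : ∀ i < 6, S (vec (pp i))) :
    S (vec 1913) ↔ ¬ S (vec 3817) := by
  refine ⟨fun h1 h2 => check_false hS (l' := []) (fun q hq => (List.mem_append.1 hq).elim (pth_sub hp q)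
    fun e => ?_) (fun _ h => absurd h List.not_mem_nil) pairIn_ok, fun h2 => ?_⟩
  · simp only [List.mem_cons, List.not_mem_nil, or_false] at e
    rcases e with rfl | rfl <;> assumption
  · by_contra h1
    refine check_false hS (l := pth) (l' := [1913, 3817]) (pth_sub hp) (fun q hq => ?_) pairOut_ok
    simp only [List.mem_cons, List.not_mem_nil, or_false] at hq
    rcases hq with rfl | rfl <;> assumption

/-! ### Points singled out by incidences -/

theorem uC : patUniq [144] [5, 9, 85, 1360, 2304] [5, 9, 85, 1360, 2304] [80] = true := by decide +kernel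

theorem uI : patUniq [1360] [80, 144, 85, 9] [80, 144, 85, 9] [2304, 3328] = true := by decide +kernel

theorem uG : patUniq [9] [80, 144, 85, 1360, 2304] [80, 144, 85, 1360, 2304] [5] = true := by decide +kernel

theorem uA : patUniq [9] [85, 144, 1360, 2304] [85, 144, 1360, 2304] [5, 1917] = true := by decide +kernel

theorem uG7 : patUniq [2304] [5, 9, 85, 144, 1360] [5, 9, 85, 144, 1360] [1280] = true := by decide +kernel

theorem uB : patUniq [2304] [9, 85, 144, 1360] [9, 85, 144, 1360] [1280, 1689] = true := by decide +kernel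

/-- The seven points c, …, i. -/
def seven : List ℕ := [80, 144, 85, 9, 5, 1360, 2304]

/-- The points meeting the seven like the pair. -/
def sevNc : List ℕ := seven.filter fun a => !Nat.beq (fN 1913 a) 0

/-- The others. -/
def sevCo : List ℕ := seven.filter fun a => Nat.beq (fN 1913 a) 0

theorem uPair : patUniq sevNc sevCo sevCo [1913, 3817] = true := by decide +kernel

theorem sev_pair : ∀ a ∈ seven, Nat.beq (fN 1913 a) 0 = Nat.beq (fN 3817 a) 0 := by decide +kernel

/-! ### Generation -/

/-- Close along coded lines. -/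
def genGo : List ℕ → ℕ → Option ℕ
  | [], M => some M
  | e :: l, M =>
    let a := Nat.mod e 4096
    let b := Nat.shiftRight e 12
    bif bit M a && bit M b && !Nat.beq (fN a b) 0 then
      genGo l (insBit M (nm (addN a (smN (fN a b) b)))) else none

/-- The lines reach every point. -/
def genAll (seeds tab : List ℕ) : Bool :=
  match genGo tab (bitsOf seeds) with
  | none => false
  | some M => allBelow (fun n => bif isPt n then bit M n else true) 4096

theorem genGo_sound {S : V → Prop} (hS : IsClosedLines S) : ∀ (l : List ℕ) (M M' : ℕ),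
    (∀ p, bit M p = true → S (vec p)) → genGo l M = some M' → ∀ p, bit M' p = true → S (vec p) := by
  intro l
  induction l with
  | nil => intro M M' h hr; rw [genGo, Option.some.injEq] at hr; exact hr ▸ h
  | cons e l ih =>
    intro M M' h hr
    simp only [genGo] at hr
    generalize Nat.mod e 4096 = a at hr
    generalize Nat.shiftRight e 12 = b at hr
    cases hc : bit M a && bit M b && !Nat.beq (fN a b) 0 with
    | false => rw [hc] at hr; simp at hr
    | true =>
      rw [hc, cond_true] at hr
      refine ih _ M' (fun p hp => ?_) hr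
      rcases bit_insBit hp with rfl | hp
      swap; · exact h p hp
      simp only [Bool.and_eq_true, Bool.not_eq_true'] at hc
      obtain ⟨-, m, hm, he⟩ := vec_nm (addN a (smN (fN a b) b))
      obtain ⟨h1, h2⟩ := fN_spec a b
      rw [he, vec_addN, vec_smN h1, h2]
      refine hS.1 _ _ hm (hS.2 _ _ (h a hc.1.1) (h b hc.1.2) fun e => ?_)
      rw [orth_iff.2 e] at hc; exact Bool.noConfusion hc.2

theorem gen_ok : genAll (seven ++ [1913]) gen1 = true ∧ genAll (seven ++ [3817]) gen2 = true := by
  decide +kernel

/-- The seven points with either of the pair generate everything. -/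
theorem generates {S : V → Prop} (hS : IsClosedLines S) {y : ℕ} (hy : y = 1913 ∨ y = 3817)
    (h7 : ∀ p ∈ seven, S (vec p)) (hyS : S (vec y)) {v : V} (h0 : v ≠ 0) (hv : hf v v = 0) : S v := by
  obtain ⟨n, hn, hp, k, hk, he⟩ := exists_pt h0 hv
  suffices h : S (vec n) by
    have := hS.1 _ k⁻¹ (inv_ne_zero hk) h
    rwa [he, smul_smul, inv_mul_cancel₀ hk, one_smul] at this
  obtain ⟨tab, hg⟩ : ∃ tab, genAll (seven ++ [y]) tab = true := by
    rcases hy with rfl | rfl
    · exact ⟨_, gen_ok.1⟩
    · exact ⟨_, gen_ok.2⟩
  rw [genAll] at hg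
  cases hr : genGo tab (bitsOf (seven ++ [y])) with
  | none => rw [hr] at hg; exact Bool.noConfusion hg
  | some M =>
    rw [hr] at hg
    have hb := allBelow_spec hg hn
    simp only [hp, cond_true] at hb
    refine genGo_sound hS _ _ M (fun p hp => ?_) hr n hb
    rcases List.mem_append.1 (bit_bitsOf hp) with h | h
    · exact h7 p h
    · rw [List.mem_singleton.1 h]; exact hyS

end Cfsg.Agent.FischerUnique
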