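import Cfsg.Agent.Lib.FischerUnique.Normal
import Cfsg.Agent.Lib.FischerUnique.FlagData

/-!
An isometric involution which is not a transvection has a conjugate such that the product moves a point in
each of its first three powers.
-/

set_option autoImplicit false
set_option maxRecDepth 100000

namespace Cfsg.Agent.FischerUnique

open Cfsg.Agent.CosetCert
open Cfsg.Agent.RigidGraph.He

/-- The transvection at a vector. -/
def tv (v x : V) : V := x + hf x v • v

/-- A product of transvections, the first one applied last. -/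
def tvs : List V → V → V
  | [], x => x
  | v :: l, x => tv v (tvs l x)

theorem map_tv {g : V ≃ₗ[K4] V} (hg : IsIso g) (v x : V) : g (tv v x) = tv (g v) (g x) := by
  rw [tv, tv, map_add, map_smul, hg]

theorem map_tvs {g : V ≃ₗ[K4] V} (hg : IsIso g) : ∀ (l : List V) (x : V),
    g (tvs l x) = tvs (l.map g) (g x) := by
  intro l
  induction l with
  | nil => exact fun _ => rfl
  | cons v l ih => exact fun x => by rw [tvs, map_tv hg, ih, List.map_cons, tvs]

theorem tv_smul {v : V} {k : K4} (hk : k ≠ 0) (x : V) : tv (k • v) x = tv v x := by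
  rw [tv, tv, hf_smul_right, smul_smul]
  congr 2
  have : ∀ k : K4, k ≠ 0 → cj k * k = 1 := by decide
  rw [mul_comm (cj k), mul_assoc, this k hk, mul_one]

theorem tv_smul_arg (v : V) (k : K4) (x : V) : tv v (k • x) = k • tv v x := by
  rw [tv, tv, hf_smul_left, smul_add, smul_smul]

/-- An isometric involution. -/
structure IsInvol (B : V → V) : Prop where
  add : ∀ x y, B (x + y) = B x + B y
  smul : ∀ (k : K4) x, B (k • x) = k • B x
  iso : ∀ x y, hf (B x) (B y) = hf x y
  sq : ∀ x, B (B x) = x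

theorem IsInvol.adj {B : V → V} (hB : IsInvol B) (x y : V) : hf (B x) y = hf x (B y) := by
  conv_lhs => rw [← hB.sq y, hB.iso]

/-- Split a transvection off an involution. -/
theorem peel {B : V → V} (hB : IsInvol B) {x₀ : V} (hne : B x₀ ≠ x₀) :
    ∃ v x : V, v ≠ 0 ∧ hf v v = 0 ∧ hf v x = 1 ∧ v = B x + x ∧ IsInvol (fun z => tv v (B z)) ∧
      tv v (B x) = x ∧ (∀ z, hf (B z + z) v = 0) ∧
      ∀ z, tv v (B z) + z = (B z + z) + hf z v • v := by
  set h : V → V → K4 := fun x y => hf (B x + x) y with hh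
  have hherm : ∀ x y, h y x = cj (h x y) := fun x y => by
    simp only [hh, hf_add_left, cj_add, ← hf_herm]
    rw [hB.adj y x]
  obtain ⟨x, hx⟩ : ∃ x, h x x ≠ 0 := by
    by_contra! hall
    obtain ⟨w, hw⟩ : ∃ w, hf (B x₀ + x₀) w ≠ 0 := by
      by_contra! h0
      refine hne ?_
      have := eq_zero_of_hf h0
      rw [add_eq_zero_iff_eq_neg] at this
      exact this.trans (funext fun _ => rfl)
    set s := hf (B x₀ + x₀) w with hs
    have := hall ((K4.w / s) • x₀ + w)
    have e : h ((K4.w / s) • x₀ + w) ((K4.w / s) • x₀ + w) =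
        K4.w / s * cj (K4.w / s) * h x₀ x₀ + K4.w / s * h x₀ w +
        cj (K4.w / s) * h w x₀ + h w w := by
      simp only [hh, hB.add, hB.smul, hf_add_left, hf_add_right, hf_smul_left, hf_smul_right]
      ring
    rw [e, hall x₀, hall w, hherm x₀ w, show h x₀ w = s from rfl, ← cj_mul, div_mul_cancel₀ _ hw,
      mul_zero, zero_add, add_zero] at this
    exact absurd this (by decide)
  have hxx : h x x = 1 := by
    have : ∀ a : K4, a ≠ 0 → a = cj a → a = 1 := by decide
    exact this _ hx (hherm x x)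
  set v := B x + x with hv
  have hBv : B v = v := by rw [hv, hB.add, hB.sq, add_comm]
  have hrange : ∀ z, hf (B z + z) v = 0 := fun z => by
    rw [hf_add_left, hB.adj, hBv, K4.add_self]
  have hvv : hf v v = 0 := hrange x
  have hvx : hf v x = 1 := hxx
  have hxv : hf x v = 1 := by rw [hf_herm, hvx]; decide
  have hv0 : v ≠ 0 := fun e => by rw [e, hf_zero_left] at hvx; exact one_ne_zero hvx.symm
  have hN : ∀ z, tv v (B z) + z = (B z + z) + hf z v • v := fun z => by
    rw [tv, hB.adj, hBv]; abel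
  refine ⟨v, x, hv0, hvv, hvx, hv, ⟨fun a b => ?_, fun k a => ?_, fun a b => ?_, fun a => ?_⟩, ?_,
    hrange, hN⟩
  · simp only [tv, hB.add, hf_add_left, add_smul]; abel
  · simp only [hB.smul, tv_smul_arg]
  · show hf (tv v (B a)) (tv v (B b)) = hf a b
    simp only [tv, hf_add_left, hf_add_right, hf_smul_left, hf_smul_right, hvv, hB.iso, mul_zero,
      add_zero, ← hf_herm]
    rw [mul_comm (hf v (B b)) (hf (B a) v), add_assoc, K4.add_self, add_zero]
  · show tv v (B (tv v (B a))) = a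
    rw [tv, tv, hB.add, hB.smul, hB.sq, hBv, hf_add_left, hf_smul_left, hvv, mul_zero, add_zero,
      hB.adj, hBv, add_assoc, add_self', add_zero]
  · have := hN x
    rw [← hv, hxv, one_smul, add_self', add_eq_zero_iff_eq_neg] at this
    exact this.trans (funext fun _ => rfl)

/-- The standard flag. -/
def fl (i : ℕ) : ℕ := [5, 80, 1280].getD i 0

/-- All combinations of the given length of the flag. -/
def flEx : ℕ → List ℕ
  | 0 => []
  | 1 => [5]
  | 2 => [5, 80, 85, 165, 245]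
  | _ => [5, 80, 85, 165, 245, 1280, 1285, 1360, 1365, 1445, 1525, 2565, 2640, 2645, 2725, 2805, 3845, 3920,
      3925, 4005, 4085]

/-- The tables of the flag. -/
def flTab : ℕ → List ℕ
  | 0 => flag0 | 1 => flag1 | _ => flag2

/-- Combination of the flag. -/
def combN (a b c : ℕ) : ℕ := addN (smN a 5) (addN (smN b 80) (smN c 1280))

theorem flag_ok : ∀ k < 3,
    orbitAll ((List.range k).map fl) [] ((List.range k).map fl) (flEx k) (fl k) (flTab k) = true := by
  decide +kernel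

theorem flag_full : patUniq [] [5, 80, 1280] (flEx 3) [] = true := by decide +kernel

theorem flEx_comb : ∀ k ≤ 3, ∀ e ∈ flEx k, ∃ a < 4, ∃ b < 4, ∃ c < 4,
    e = combN a b c ∧ (k < 3 → c = 0) ∧ (k < 2 → b = 0) := by decide +kernel

/-- Vectors pairing triangularly with others. -/
theorem not_comb {u v₀ v₁ v₂ x₀ x₁ x₂ : V} (h00 : hf v₀ x₀ = 1) (h10 : hf v₁ x₀ = 0) (h20 : hf v₂ x₀ = 0)
    (h11 : hf v₁ x₁ = 1) (h21 : hf v₂ x₁ = 0) (h22 : hf v₂ x₂ = 1) (u0 : hf u x₀ = 0) (u1 : hf u x₁ = 0)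
    (u2 : hf u x₂ = 0) {a b c : K4} (h : u = a • v₀ + (b • v₁ + c • v₂)) : u = 0 := by
  have e0 : a = 0 := by
    rw [h] at u0
    simpa only [hf_add_left, hf_smul_left, h00, h10, h20, mul_one, mul_zero, add_zero] using u0
  have e1 : b = 0 := by
    rw [h, e0, zero_smul, zero_add] at u1
    simpa only [hf_add_left, hf_smul_left, h11, h21, mul_one, mul_zero, add_zero] using u1
  have e2 : c = 0 := by
    rw [h, e0, e1, zero_smul, zero_smul, zero_add, zero_add] at u2
    simpa only [hf_smul_left, h22, mul_one] using u2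
  rw [h, e0, e1, e2]; simp

/-- Moving three points of a flag. -/
theorem flag_step {k : ℕ} (hk : k < 3) {u : V} (h0 : u ≠ 0) (hu : hf u u = 0)
    {g : V ≃ₗ[K4] V} (hg : IsIso g) {v : ℕ → V}
    (hfix : ∀ i < k, ∃ m : K4, m ≠ 0 ∧ g (v i) = m • vec (fl i)) (hco : ∀ i < k, hf u (v i) = 0)
    (hcomb : ∀ a b c : K4, (k < 3 → c = 0) → (k < 2 → b = 0) → (k < 1 → a = 0) →
      u ≠ a • v 0 + (b • v 1 + c • v 2)) :
    ∃ g' : V ≃ₗ[K4] V, IsIso g' ∧ (∀ i < k, ∃ m : K4, m ≠ 0 ∧ g' (v i) = m • vec (fl i)) ∧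
      ∃ m : K4, m ≠ 0 ∧ g' u = m • vec (fl k) := by
  obtain ⟨g', hg', hfix', hm⟩ := orbitAll_spec (flag_ok k hk) (v := g u)
    (fun e => h0 (g.injective (by rw [e, map_zero]))) (by rw [hg]; exact hu)
    (fun a ha => absurd ha List.not_mem_nil) (fun a ha => by
      simp only [List.mem_map, List.mem_range] at ha
      obtain ⟨i, hi, rfl⟩ := ha
      obtain ⟨m, hm, he⟩ := hfix i hi
      have := hco i hi
      rw [← hg, he, hf_smul_right, mul_eq_zero] at this
      exact this.resolve_left fun e => hm ((cj_eq_zero m).1 e))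
    (fun e he t ht => by
      obtain ⟨a, ha, b, hb, c, hc, rfl, hc0, hb0⟩ := flEx_comb k hk.le e he
      have hk0 : 1 ≤ k := by
        rcases Nat.eq_zero_or_pos k with rfl | h
        · exact absurd he List.not_mem_nil
        · exact h
      obtain ⟨m₀, hm₀, e₀⟩ := hfix 0 (by omega)
      have hv : ∀ i (d : ℕ), d < 4 → (k < i + 1 → d = 0) → ∃ r : K4,
          K4.ofDigit d • vec (fl i) = g (r • v i) ∧ (k < i + 1 → r = 0) := by
        intro i d hd hd0
        by_cases hik : i < k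
        · obtain ⟨m, hm, he'⟩ := hfix i hik
          refine ⟨K4.ofDigit d * m⁻¹, ?_, fun h => by omega⟩
          rw [map_smul, he', smul_smul, inv_mul_cancel_right₀ hm]
        · refine ⟨0, ?_, fun _ => rfl⟩
          rw [hd0 (by omega), show K4.ofDigit 0 = 0 from rfl, zero_smul, zero_smul, map_zero]
      obtain ⟨r0, f0, g0⟩ := hv 0 a ha (fun h => by omega)
      obtain ⟨r1, f1, g1⟩ := hv 1 b hb hb0
      obtain ⟨r2, f2, g2⟩ := hv 2 c hc hc0
      refine hcomb (t * r0) (t * r1) (t * r2) (fun h => by rw [g2 h, mul_zero])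
        (fun h => by rw [g1 h, mul_zero]) (fun h => by rw [g0 h, mul_zero]) (g.injective ?_)
      rw [ht, combN, vec_addN, vec_addN, vec_smN ha, vec_smN hb, vec_smN hc,
        show (5 : ℕ) = fl 0 from rfl, show (80 : ℕ) = fl 1 from rfl, show (1280 : ℕ) = fl 2 from rfl,
        f0, f1, f2, ← map_add, ← map_add, ← map_smul, smul_add, smul_add, smul_smul, smul_smul, smul_smul])
  refine ⟨g.trans g', hg.trans hg', fun i hi => ?_, hm⟩
  obtain ⟨m, hm, he⟩ := hfix i hi
  exact ⟨m, hm, by rw [LinearEquiv.trans_apply, he, map_smul,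
    hfix' _ (List.mem_map.2 ⟨i, List.mem_range.2 hi, rfl⟩)]⟩

/-- Product of transvections on codes. -/
def tvN : List ℕ → ℕ → ℕ
  | [], x => x
  | v :: l, x => rN v 1 (tvN l x)

theorem vec_tvN : ∀ (l : List ℕ) (x : ℕ), vec (tvN l x) = tvs (l.map vec) (vec x) := by
  intro l
  induction l with
  | nil => exact fun _ => rfl
  | cons v l ih =>
    intro x
    rw [tvN, vec_rN (by norm_num), show K4.ofDigit 1 = 1 from rfl, one_mul, ih, List.map_cons, tvs, tv]

/-- The product with the conjugate. -/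
def prodN (Q W : List ℕ) (x : ℕ) : ℕ := tvN Q (tvN W (tvN Q (tvN W.reverse x)))

/-- The product moves the point in its first three powers. -/
def witN (Q W : List ℕ) (p : ℕ) : Bool :=
  (W.all fun w => Nat.blt w 4096 && isPt w) &&
    (let x1 := prodN Q W p
     let x2 := prodN Q W x1
     let x3 := prodN Q W x2
     Nat.blt x1 4096 && Nat.blt x2 4096 && Nat.blt x3 4096 && indep x1 p && indep x2 p && indep x3 p)

/-- The product of an involution with a conjugate. -/
def prodW (B : V → V) (W : List V) (x : V) : V := B (tvs W (B (tvs W.reverse x)))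

/-- What a witness gives. -/
def HasWitness (B : V → V) : Prop :=
  ∃ (W : List V) (p : V), (∀ w ∈ W, w ≠ 0 ∧ hf w w = 0) ∧
    ∀ m, 1 ≤ m → m ≤ 3 → ∀ k : K4, (prodW B W)^[m] p ≠ k • p

theorem hasWitness_of_code {B : V → V} {g : V ≃ₗ[K4] V} (hg : IsIso g) {Q : List ℕ} {W : List ℕ} {p : ℕ}
    (hB : ∀ x, g (B x) = tvs (Q.map vec) (g x)) (h : witN Q W p = true) : HasWitness B := by
  simp only [witN, Bool.and_eq_true, List.all_eq_true, Nat.blt_eq] at h
  obtain ⟨hW, ⟨⟨⟨⟨b1, b2⟩, b3⟩, i1⟩, i2⟩, i3⟩ := h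
  refine ⟨W.map fun w => g.symm (vec w), g.symm (vec p), fun w hw => ?_, fun m h1 h3 k e => ?_⟩
  · simp only [List.mem_map] at hw
    obtain ⟨n, hn, rfl⟩ := hw
    obtain ⟨e0, e1⟩ := isPt_spec (hW n hn).1 (hW n hn).2
    exact ⟨fun e => e0 (by rw [← g.apply_symm_apply (vec n), e, map_zero]), by rw [hg.symm]; exact e1⟩
  · set W' := W.map fun w => g.symm (vec w) with hW'
    have hmap : W'.map g = W.map vec := by
      rw [hW', List.map_map]; exact List.map_congr_left fun w _ => g.apply_symm_apply _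
    have step : ∀ (x : V) (n : ℕ), g x = vec n → g (prodW B W' x) = vec (prodN Q W n) := fun x n hx => by
      rw [prodW, hB, map_tvs hg, hB, map_tvs hg, List.map_reverse, hmap, hx, prodN, vec_tvN, vec_tvN,
        vec_tvN, vec_tvN, List.map_reverse]
    have s1 := step _ p (g.apply_symm_apply _)
    have s2 := step _ _ s1
    have s3 := step _ _ s2
    have key : ∀ {n : ℕ}, n < 4096 → indep n p = true → ∀ t : K4, vec n ≠ t • vec p := fun hn hi t e =>
      of_indep hn hi t (by rw [e, add_self'])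
    have e' : g ((prodW B W')^[m] (g.symm (vec p))) = k • vec p := by
      rw [e, map_smul, g.apply_symm_apply]
    interval_cases m
    · rw [Function.iterate_one, s1] at e'; exact key b1 i1 k e'
    · rw [Function.iterate_succ_apply', Function.iterate_one, s2] at e'; exact key b2 i2 k e'
    · rw [Function.iterate_succ_apply', Function.iterate_succ_apply', Function.iterate_one, s3] at e'
      exact key b3 i3 k e'

theorem wit2_ok : witN [5, 80] [2276, 3685] 5 = true := by decide +kernel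

theorem wit3_ok : witN [5, 80, 1280] [3801, 3541, 389, 3693] 5 = true := by decide +kernel

/-- An isometric involution is a transvection or has a witness. -/
theorem transvection_or_witness {B : V → V} (hB : IsInvol B) {x₀ : V} (hne : B x₀ ≠ x₀) :
    (∃ v : V, v ≠ 0 ∧ hf v v = 0 ∧ ∀ x, B x = tv v x) ∨ HasWitness B := by
  obtain ⟨v₁, x₁, n1, i1, p1, -, hB1, fx1, r1, N1⟩ := peel hB hne
  set B1 := fun z => tv v₁ (B z) with hB1def
  have tv2 : ∀ (v : V), hf v v = 0 → ∀ y, tv v (tv v y) = y := fun v hv y => by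
    rw [tv, tv, hf_add_left, hf_smul_left, hv, mul_zero, add_zero, add_assoc, add_self', add_zero]
  have back1 : ∀ z, B z = tv v₁ (B1 z) := fun z => (tv2 v₁ i1 (B z)).symm
  by_cases h1 : ∀ z, B1 z = z
  · exact Or.inl ⟨v₁, n1, i1, fun z => by rw [back1, h1]⟩
  refine Or.inr ?_
  push Not at h1
  obtain ⟨x₀', hx₀'⟩ := h1
  obtain ⟨v₂, x₂, n2, i2, p2, hv2, hB2, fx2, r2, N2⟩ := peel hB1 hx₀'
  set B2 := fun z => tv v₂ (B1 z) with hB2def
  have back2 : ∀ z, B z = tv v₁ (tv v₂ (B2 z)) := fun z => by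
    rw [back1, hB2def]; simp only; rw [tv2 v₂ i2]
  -- the range of B1 is orthogonal to v₁ and x₁
  have R1 : ∀ z, hf (B1 z + z) v₁ = 0 ∧ hf (B1 z + z) x₁ = 0 := fun z => by
    refine ⟨by rw [N1, hf_add_left, hf_smul_left, r1, i1, mul_zero, add_zero], ?_⟩
    rw [hf_add_left, hB1.adj, show B1 x₁ = x₁ from fx1, K4.add_self]
  have o21 : hf v₂ v₁ = 0 := hv2 ▸ (R1 x₂).1
  have q21 : hf v₂ x₁ = 0 := hv2 ▸ (R1 x₂).2
  set v : ℕ → V := fun i => [v₁, v₂].getD i 0 with hvdef
  obtain ⟨g₁, hg₁, -, hm₁⟩ := flag_step (k := 0) (by norm_num) n1 i1 IsIso.refl (v := v)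
    (fun i hi => absurd hi (Nat.not_lt_zero i)) (fun i hi => absurd hi (Nat.not_lt_zero i))
    (fun a b c hc hb ha e => n1 (by
      rw [e, ha one_pos, hb (by norm_num), hc (by norm_num), zero_smul, zero_smul, zero_smul,
        add_zero, add_zero]))
  obtain ⟨g₂, hg₂, hfix₂, hm₂⟩ := flag_step (k := 1) (by norm_num) n2 i2 hg₁ (v := v)
    (fun i hi => by obtain rfl : i = 0 := (by omega); exact hm₁)
    (fun i hi => by obtain rfl : i = 0 := (by omega); exact o21)
    (fun a b c hc hb _ e => n2 (by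
      rw [hb (by norm_num), hc (by norm_num), zero_smul, zero_smul, add_zero, add_zero] at e
      change v₂ = a • v₁ at e
      have := q21
      rw [e, hf_smul_left, p1, mul_one] at this
      rw [e, this, zero_smul]))
  by_cases h2 : ∀ z, B2 z = z
  · obtain ⟨a, ha, ea⟩ := hfix₂ 0 one_pos
    obtain ⟨b, hb, eb⟩ := hm₂
    refine hasWitness_of_code hg₂ (fun z => ?_) wit2_ok
    rw [back2, h2, map_tv hg₂, map_tv hg₂]
    change tv (g₂ (v 0)) (tv (g₂ v₂) (g₂ z)) = _
    rw [ea, eb, tv_smul ha, tv_smul hb]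
    rfl
  push Not at h2
  obtain ⟨x₀'', hx₀''⟩ := h2
  obtain ⟨v₃, x₃, n3, i3, p3, hv3, hB3, fx3, r3, N3⟩ := peel hB2 hx₀''
  set B3 := fun z => tv v₃ (B2 z) with hB3def
  have R2 : ∀ z, hf (B2 z + z) v₁ = 0 ∧ hf (B2 z + z) x₁ = 0 ∧ hf (B2 z + z) v₂ = 0 ∧
      hf (B2 z + z) x₂ = 0 := fun z => by
    refine ⟨by rw [N2, hf_add_left, hf_smul_left, (R1 z).1, o21, mul_zero, add_zero],
      by rw [N2, hf_add_left, hf_smul_left, (R1 z).2, q21, mul_zero, add_zero],
      by rw [N2, hf_add_left, hf_smul_left, r2, i2, mul_zero, add_zero], ?_⟩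
    rw [hf_add_left, hB2.adj, show B2 x₂ = x₂ from fx2, K4.add_self]
  have o31 : hf v₃ v₁ = 0 := hv3 ▸ (R2 x₃).1
  have o32 : hf v₃ v₂ = 0 := hv3 ▸ (R2 x₃).2.2.1
  have q31 : hf v₃ x₁ = 0 := hv3 ▸ (R2 x₃).2.1
  have q32 : hf v₃ x₂ = 0 := hv3 ▸ (R2 x₃).2.2.2
  obtain ⟨g₃, hg₃, hfix₃, hm₃⟩ := flag_step (k := 2) (by norm_num) n3 i3 hg₂ (v := v)
    (fun i hi => by
      rcases Nat.lt_succ_iff_lt_or_eq.1 hi with h | rfl
      · exact hfix₂ i h
      · exact hm₂)
    (fun i hi => by interval_cases i <;> assumption)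
    (fun a b c hc _ _ e => n3 (by
      rw [hc (by norm_num), zero_smul, add_zero] at e
      change v₃ = a • v₁ + b • v₂ at e
      have h1 := q31
      rw [e, hf_add_left, hf_smul_left, hf_smul_left, p1, q21, mul_one, mul_zero, add_zero] at h1
      have h2 := q32
      rw [e, h1, zero_smul, zero_add, hf_smul_left, p2, mul_one] at h2
      rw [e, h1, h2, zero_smul, zero_smul, add_zero]))
  have h3 : ∀ z, B3 z = z := by
    by_contra h
    push Not at h
    obtain ⟨x₀''', hx₀'''⟩ := h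
    obtain ⟨v₄, x₄, n4, i4, p4, hv4, -, -, -, -⟩ := peel hB3 hx₀'''
    have R3 : ∀ z, hf (B3 z + z) v₁ = 0 ∧ hf (B3 z + z) x₁ = 0 ∧ hf (B3 z + z) v₂ = 0 ∧
        hf (B3 z + z) x₂ = 0 ∧ hf (B3 z + z) v₃ = 0 ∧ hf (B3 z + z) x₃ = 0 := fun z => by
      refine ⟨by rw [N3, hf_add_left, hf_smul_left, (R2 z).1, o31, mul_zero, add_zero],
        by rw [N3, hf_add_left, hf_smul_left, (R2 z).2.1, q31, mul_zero, add_zero],
        by rw [N3, hf_add_left, hf_smul_left, (R2 z).2.2.1, o32, mul_zero, add_zero],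
        by rw [N3, hf_add_left, hf_smul_left, (R2 z).2.2.2, q32, mul_zero, add_zero],
        by rw [N3, hf_add_left, hf_smul_left, r3, i3, mul_zero, add_zero], ?_⟩
      rw [hf_add_left, hB3.adj, show B3 x₃ = x₃ from fx3, K4.add_self]
    obtain ⟨a1, ha1, e1⟩ := hfix₃ 0 (by norm_num)
    obtain ⟨a2, ha2, e2⟩ := hfix₃ 1 (by norm_num)
    obtain ⟨a3, ha3, e3⟩ := hm₃
    change g₃ v₁ = _ at e1
    change g₃ v₂ = _ at e2
    have co : ∀ {w : V} {m : K4} {n : ℕ}, m ≠ 0 → g₃ w = m • vec n → hf v₄ w = 0 →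
        hf (g₃ v₄) (vec n) = 0 := fun hm he h => by
      rw [← hg₃, he, hf_smul_right, mul_eq_zero] at h
      exact h.resolve_left fun e => hm ((cj_eq_zero _).1 e)
    obtain ⟨_, hmem, -⟩ := patUniq_spec flag_full (v := g₃ v₄)
      (fun e => n4 (g₃.injective (by rw [e, map_zero]))) (by rw [hg₃]; exact i4)
      (fun a ha => absurd ha List.not_mem_nil) (fun a ha => by
        simp only [List.mem_cons, List.not_mem_nil, or_false] at ha
        rcases ha with rfl | rfl | rfl
        · exact co ha1 e1 (hv4 ▸ (R3 x₄).1)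
        · exact co ha2 e2 (hv4 ▸ (R3 x₄).2.2.1)
        · exact co ha3 e3 (hv4 ▸ (R3 x₄).2.2.2.2.1))
      (fun e he t ht => by
        obtain ⟨a, ha, b, hb, c, hc, rfl, -, -⟩ := flEx_comb 3 le_rfl e he
        refine n4 (not_comb (a := t * (K4.ofDigit a * a1⁻¹)) (b := t * (K4.ofDigit b * a2⁻¹))
          (c := t * (K4.ofDigit c * a3⁻¹)) p1 q21 q31 p2 q32 p3
          (hv4 ▸ (R3 x₄).2.1) (hv4 ▸ (R3 x₄).2.2.2.1) (hv4 ▸ (R3 x₄).2.2.2.2.2) (g₃.injective ?_))
        simp only [map_add, map_smul, e1, e2, e3, smul_smul, mul_assoc, inv_mul_cancel₀ ha1,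
          inv_mul_cancel₀ ha2, inv_mul_cancel₀ ha3, mul_one]
        rw [ht, combN, vec_addN, vec_addN, vec_smN ha, vec_smN hb, vec_smN hc, smul_add, smul_add,
          smul_smul, smul_smul, smul_smul]
        rfl)
    exact absurd hmem List.not_mem_nil
  obtain ⟨a, ha, ea⟩ := hfix₃ 0 (by norm_num)
  obtain ⟨b, hb, eb⟩ := hfix₃ 1 (by norm_num)
  obtain ⟨c, hc, ec⟩ := hm₃
  refine hasWitness_of_code hg₃ (fun z => ?_) wit3_ok
  rw [back2, show B2 z = tv v₃ z by
    have := congrArg (tv v₃) (h3 z)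
    rwa [hB3def, tv2 v₃ i3] at this, map_tv hg₃, map_tv hg₃, map_tv hg₃]
  change tv (g₃ (v 0)) (tv (g₃ (v 1)) (tv (g₃ v₃) (g₃ z))) = _
  rw [ea, eb, ec, tv_smul ha, tv_smul hb, tv_smul hc]
  rfl

end Cfsg.Agent.FischerUnique
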