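import Mathlib
import Cfsg.Agent.Lib.RigidGraph.He.FieldFour
import Cfsg.Agent.Lib.Compute.CosetCert

/-!
Coded vectors of the hermitian space of dimension six over the field with four elements, and isometries
given as products of steps `x ↦ x + l f(x,v) v`.
-/

set_option autoImplicit false
set_option maxRecDepth 100000

namespace Cfsg.Agent.FischerUnique

open Cfsg.Agent.CosetCert
open Cfsg.Agent.RigidGraph.He

/-- The space. -/
abbrev V : Type := Fin 6 → K4

/-- The conjugation of the field. -/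
def cj (a : K4) : K4 := a * a

theorem cj_add : ∀ a b : K4, cj (a + b) = cj a + cj b := by decide

theorem cj_mul : ∀ a b : K4, cj (a * b) = cj a * cj b := by decide

theorem cj_cj : ∀ a : K4, cj (cj a) = a := by decide

theorem cj_eq_zero : ∀ a : K4, cj a = 0 ↔ a = 0 := by decide

/-- The hermitian form. -/
def hf (x y : V) : K4 := ∑ i, x i * cj (y i)

theorem hf_add_left (x y z : V) : hf (x + y) z = hf x z + hf y z := by
  simp [hf, add_mul, Finset.sum_add_distrib]

theorem hf_add_right (x y z : V) : hf x (y + z) = hf x y + hf x z := by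
  simp [hf, cj_add, mul_add, Finset.sum_add_distrib]

theorem hf_smul_left (k : K4) (x y : V) : hf (k • x) y = k * hf x y := by
  simp [hf, Finset.mul_sum, mul_assoc]

theorem hf_smul_right (k : K4) (x y : V) : hf x (k • y) = cj k * hf x y := by
  simp only [hf, Pi.smul_apply, smul_eq_mul, cj_mul, Finset.mul_sum]
  exact Finset.sum_congr rfl fun i _ => by ring

theorem cj_sum (g : Fin 6 → K4) : cj (∑ i, g i) = ∑ i, cj (g i) := by
  simp [Fin.sum_univ_six, cj_add]

theorem hf_herm (x y : V) : hf y x = cj (hf x y) := by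
  rw [hf, hf, cj_sum]
  exact Finset.sum_congr rfl fun i _ => by rw [cj_mul, cj_cj, mul_comm]

theorem hf_zero_comm {x y : V} : hf x y = 0 ↔ hf y x = 0 := by
  rw [hf_herm x y, cj_eq_zero]

theorem hf_zero_left (y : V) : hf 0 y = 0 := by simp [hf]

/-- The form is nondegenerate. -/
theorem eq_zero_of_hf {x : V} (h : ∀ y, hf x y = 0) : x = 0 := by
  funext i
  have := h (Pi.single i 1)
  rw [hf, Finset.sum_eq_single i (fun j _ hj => by simp [Pi.single_eq_of_ne hj, cj]) (by simp)] at this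
  simpa [cj] using this

theorem add_self' (x : V) : x + x = 0 := funext fun i => K4.add_self (x i)

/-! ### Codes -/

/-- A digit of a coded vector. -/
def dg (x i : ℕ) : ℕ := Nat.mod (Nat.shiftRight x (2 * i)) 4

/-- The code of six digits. -/
def enc (F : ℕ → ℕ) : ℕ :=
  F 0 + 4 * (F 1 + 4 * (F 2 + 4 * (F 3 + 4 * (F 4 + 4 * F 5))))

/-- Product of digits. -/
def mD (a b : ℕ) : ℕ := Nat.mod (Nat.shiftRight 2625168384 (2 * (4 * a + b))) 4

/-- Conjugate of a digit. -/
def cD (a : ℕ) : ℕ := Nat.mod (Nat.shiftRight 180 (2 * a)) 4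

/-- The digit of an element. -/
def toDigit : K4 → ℕ
  | .o => 0 | .l => 1 | .w => 2 | .v => 3

theorem toDigit_lt : ∀ a : K4, toDigit a < 4 := by decide

theorem ofDigit_toDigit : ∀ a : K4, K4.ofDigit (toDigit a) = a := by decide

theorem toDigit_ofDigit : ∀ a < 4, toDigit (K4.ofDigit a) = a := by decide

theorem mD_spec : ∀ a < 4, ∀ b < 4, mD a b < 4 ∧ K4.ofDigit (mD a b) = K4.ofDigit a * K4.ofDigit b := by
  decide

theorem cD_spec : ∀ a < 4, cD a < 4 ∧ K4.ofDigit (cD a) = cj (K4.ofDigit a) := by decide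

theorem xD_spec : ∀ a < 4, ∀ b < 4,
    Nat.xor a b < 4 ∧ K4.ofDigit (Nat.xor a b) = K4.ofDigit a + K4.ofDigit b := by decide

theorem dg_lt (x i : ℕ) : dg x i < 4 := Nat.mod_lt _ (by norm_num)

theorem dg_eq (x i : ℕ) : dg x i = x / 2 ^ (2 * i) % 4 := by
  show (x >>> (2 * i)) % 4 = _
  rw [Nat.shiftRight_eq_div_pow]

theorem enc_lt {F : ℕ → ℕ} (h : ∀ i, F i < 4) : enc F < 4096 := by
  have := h 0; have := h 1; have := h 2; have := h 3; have := h 4; have := h 5
  simp only [enc]; omega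

theorem dg_enc {F : ℕ → ℕ} (h : ∀ i, F i < 4) (i : Fin 6) : dg (enc F) i = F i := by
  have := h 0; have := h 1; have := h 2; have := h 3; have := h 4; have := h 5
  rw [dg_eq]
  fin_cases i <;> simp only [enc] <;> norm_num <;> omega

/-- The vector of a code. -/
def vec (n : ℕ) : V := fun i => K4.ofDigit (dg n i)

/-- The code of a vector. -/
def code (v : V) : ℕ :=
  enc fun i => if h : i < 6 then toDigit (v ⟨i, h⟩) else 0

theorem code_lt (v : V) : code v < 4096 := enc_lt fun i => by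
  split
  · exact toDigit_lt _
  · norm_num

theorem vec_code (v : V) : vec (code v) = v := by
  funext i
  rw [vec, code, dg_enc (fun i => by split; exact toDigit_lt _; norm_num) i, dif_pos i.2]
  exact ofDigit_toDigit _

theorem eq_zero_of_vec {n : ℕ} (hn : n < 4096) (h : vec n = 0) : n = 0 := by
  have h' : ∀ i : Fin 6, dg n i = 0 := fun i => by
    have := congrArg toDigit (congrFun h i)
    rwa [vec, toDigit_ofDigit _ (dg_lt _ _)] at this
  have e0 := h' 0; have e1 := h' 1; have e2 := h' 2; have e3 := h' 3; have e4 := h' 4; have e5 := h' 5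
  rw [dg_eq] at e0 e1 e2 e3 e4 e5
  norm_num at e0 e1 e2 e3 e4 e5
  omega

/-- Sum of coded vectors. -/
def addN (a b : ℕ) : ℕ := enc fun i => Nat.xor (dg a i) (dg b i)

/-- Scalar multiple of a coded vector. -/
def smN (k x : ℕ) : ℕ := enc fun i => mD k (dg x i)

/-- The form on codes. -/
def fN (x y : ℕ) : ℕ :=
  Nat.xor (Nat.xor (Nat.xor (Nat.xor (Nat.xor (mD (dg x 0) (cD (dg y 0))) (mD (dg x 1) (cD (dg y 1))))
    (mD (dg x 2) (cD (dg y 2)))) (mD (dg x 3) (cD (dg y 3)))) (mD (dg x 4) (cD (dg y 4))))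
    (mD (dg x 5) (cD (dg y 5)))

theorem addN_lt (a b : ℕ) : addN a b < 4096 :=
  enc_lt fun i => (xD_spec _ (dg_lt a i) _ (dg_lt b i)).1

theorem vec_addN (a b : ℕ) : vec (addN a b) = vec a + vec b := by
  funext i
  rw [vec, addN, dg_enc (fun i => (xD_spec _ (dg_lt a i) _ (dg_lt b i)).1) i]
  exact (xD_spec _ (dg_lt a i) _ (dg_lt b i)).2

theorem vec_smN {k : ℕ} (hk : k < 4) (x : ℕ) : vec (smN k x) = K4.ofDigit k • vec x := by
  funext i
  rw [vec, smN, dg_enc (fun i => (mD_spec k hk _ (dg_lt x i)).1) i]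
  exact (mD_spec k hk _ (dg_lt x i)).2

theorem fN_spec (x y : ℕ) : fN x y < 4 ∧ K4.ofDigit (fN x y) = hf (vec x) (vec y) := by
  have hm : ∀ i, mD (dg x i) (cD (dg y i)) < 4 ∧
      K4.ofDigit (mD (dg x i) (cD (dg y i))) = K4.ofDigit (dg x i) * cj (K4.ofDigit (dg y i)) := fun i => by
    obtain ⟨h1, h2⟩ := cD_spec _ (dg_lt y i)
    obtain ⟨h3, h4⟩ := mD_spec _ (dg_lt x i) _ h1
    exact ⟨h3, by rw [h4, h2]⟩
  have h1 := xD_spec _ (hm 0).1 _ (hm 1).1
  have h2 := xD_spec _ h1.1 _ (hm 2).1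
  have h3 := xD_spec _ h2.1 _ (hm 3).1
  have h4 := xD_spec _ h3.1 _ (hm 4).1
  have h5 := xD_spec _ h4.1 _ (hm 5).1
  refine ⟨h5.1, h5.2.trans ?_⟩
  rw [h4.2, h3.2, h2.2, h1.2, (hm 0).2, (hm 1).2, (hm 2).2, (hm 3).2, (hm 4).2, (hm 5).2, hf,
    Fin.sum_univ_six]
  rfl

theorem orth_iff {x y : ℕ} : Nat.beq (fN x y) 0 = true ↔ hf (vec x) (vec y) = 0 := by
  rw [Nat.beq_eq, ← (fN_spec x y).2]
  refine ⟨fun h => by rw [h]; rfl, fun h => ?_⟩
  have := congrArg toDigit h
  rwa [toDigit_ofDigit _ (fN_spec x y).1] at this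

/-- The leading digit. -/
def lead (x : ℕ) : ℕ :=
  bif !Nat.beq (dg x 0) 0 then dg x 0 else bif !Nat.beq (dg x 1) 0 then dg x 1 else
  bif !Nat.beq (dg x 2) 0 then dg x 2 else bif !Nat.beq (dg x 3) 0 then dg x 3 else
  bif !Nat.beq (dg x 4) 0 then dg x 4 else bif !Nat.beq (dg x 5) 0 then dg x 5 else 1

/-- The normalised code of a line. -/
def nm (x : ℕ) : ℕ := smN (cD (lead x)) x

theorem nm_lt (x : ℕ) (h : cD (lead x) < 4) : nm x < 4096 :=
  enc_lt fun i => (mD_spec _ h _ (dg_lt x i)).1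

theorem lead_spec (x : ℕ) : lead x < 4 ∧ lead x ≠ 0 := by
  have aux : ∀ (d r : ℕ), d < 4 → (r < 4 ∧ r ≠ 0) →
      (bif !Nat.beq d 0 then d else r) < 4 ∧ (bif !Nat.beq d 0 then d else r) ≠ 0 := by
    intro d r hd hr
    cases e : Nat.beq d 0 with
    | true => simpa [e] using hr
    | false =>
      simp only [Bool.not_false, cond_true]
      exact ⟨hd, fun h => by rw [h] at e; exact Bool.noConfusion e⟩
  exact aux _ _ (dg_lt x 0) (aux _ _ (dg_lt x 1) (aux _ _ (dg_lt x 2) (aux _ _ (dg_lt x 3)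
    (aux _ _ (dg_lt x 4) (aux _ _ (dg_lt x 5) (by decide))))))

theorem vec_nm (x : ℕ) : nm x < 4096 ∧ ∃ k : K4, k ≠ 0 ∧ vec (nm x) = k • vec x := by
  obtain ⟨h1, h2⟩ := lead_spec x
  have h3 : ∀ d < 4, d ≠ 0 → cD d < 4 ∧ K4.ofDigit (cD d) ≠ 0 := by decide
  obtain ⟨h4, h5⟩ := h3 _ h1 h2
  exact ⟨nm_lt x h4, _, h5, vec_smN h4 x⟩

/-- The code is zero. -/
def isZ (n : ℕ) : Bool := Nat.beq n 0

/-- The code of an isotropic point. -/
def isPt (n : ℕ) : Bool := !isZ n && Nat.beq (fN n n) 0 && Nat.beq (nm n) n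

theorem isPt_spec {n : ℕ} (hn : n < 4096) (h : isPt n = true) : vec n ≠ 0 ∧ hf (vec n) (vec n) = 0 := by
  simp only [isPt, isZ, Bool.and_eq_true, Bool.not_eq_true'] at h
  refine ⟨fun e => ?_, orth_iff.1 h.1.2⟩
  rw [eq_zero_of_vec hn e] at h
  exact Bool.noConfusion h.1.1

theorem pt_ok : allBelow (fun n => bif (!isZ n && Nat.beq (fN n n) 0) then isPt (nm n) else true) 4096 = true := by
  decide +kernel

/-- Every isotropic vector has a point code. -/
theorem exists_pt {v : V} (h0 : v ≠ 0) (hv : hf v v = 0) :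
    ∃ n < 4096, isPt n = true ∧ ∃ k : K4, k ≠ 0 ∧ vec n = k • v := by
  obtain ⟨hlt, k, hk, he⟩ := vec_nm (code v)
  rw [vec_code] at he
  refine ⟨_, hlt, ?_, k, hk, he⟩
  have h := allBelow_spec pt_ok (code_lt v)
  have h1 : isZ (code v) = false := by
    cases e : isZ (code v) with
    | false => rfl
    | true =>
      refine absurd ?_ h0
      rw [← vec_code v, Nat.eq_of_beq_eq_true e]
      funext i; fin_cases i <;> rfl
  have h2 : Nat.beq (fN (code v) (code v)) 0 = true := orth_iff.2 (by rwa [vec_code])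
  simpa [h1, h2] using h

/-! ### Isometries -/

/-- The isometries. -/
def IsIso (g : V ≃ₗ[K4] V) : Prop := ∀ x y, hf (g x) (g y) = hf x y

theorem IsIso.refl : IsIso (LinearEquiv.refl K4 V) := fun _ _ => rfl

theorem IsIso.trans {g h : V ≃ₗ[K4] V} (hg : IsIso g) (hh : IsIso h) : IsIso (g.trans h) := fun x y => by
  simp only [LinearEquiv.trans_apply]
  rw [hh, hg]

theorem IsIso.symm {g : V ≃ₗ[K4] V} (hg : IsIso g) : IsIso g.symm := fun x y => by
  conv_rhs => rw [← g.apply_symm_apply x, ← g.apply_symm_apply y, hg]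

/-- The condition for a step to be an isometry. -/
def StepOK (v : V) (l : K4) : Prop := cj l + l + l * cj l * hf v v = 0

/-- The linear step. -/
def rMap (v : V) (l : K4) : V →ₗ[K4] V where
  toFun x := x + (l * hf x v) • v
  map_add' x y := by simp only [hf_add_left, mul_add, add_smul]; abel
  map_smul' k x := by
    simp only [hf_smul_left, RingHom.id_apply, smul_add, smul_smul]
    congr 2; ring

theorem rMap_iso {v : V} {l : K4} (h : StepOK v l) (x y : V) :
    hf (rMap v l x) (rMap v l y) = hf x y := by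
  have e : hf v y = cj (hf y v) := hf_herm y v
  show hf (x + (l * hf x v) • v) (y + (l * hf y v) • v) = hf x y
  simp only [hf_add_left, hf_add_right, hf_smul_left, hf_smul_right, cj_mul, e]
  unfold StepOK at h
  linear_combination (hf x v * cj (hf y v)) * h

/-- The step as an equivalence. -/
noncomputable def rEquiv {v : V} {l : K4} (h : StepOK v l) : V ≃ₗ[K4] V :=
  LinearEquiv.ofBijective (rMap v l) <| by
    refine Finite.injective_iff_bijective.1 ((injective_iff_map_eq_zero (rMap v l)).2 fun x hx => ?_)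
    refine eq_zero_of_hf fun y => ?_
    rw [← rMap_iso h x y, hx, hf_zero_left]

theorem rEquiv_apply {v : V} {l : K4} (h : StepOK v l) (x : V) :
    rEquiv h x = x + (l * hf x v) • v := rfl

theorem rEquiv_iso {v : V} {l : K4} (h : StepOK v l) : IsIso (rEquiv h) := rMap_iso h

/-- The step on codes. -/
def rN (v l x : ℕ) : ℕ := addN x (smN (mD l (fN x v)) v)

/-- The isometry condition on codes. -/
def stepN (v l : ℕ) : Bool :=
  Nat.blt l 4 && Nat.beq (Nat.xor (Nat.xor (cD l) l) (mD (mD l (cD l)) (fN v v))) 0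

theorem stepN_spec {v l : ℕ} (h : stepN v l = true) : l < 4 ∧ StepOK (vec v) (K4.ofDigit l) := by
  simp only [stepN, Bool.and_eq_true, Nat.blt_eq, Nat.beq_eq] at h
  obtain ⟨hl, h⟩ := h
  obtain ⟨h1, h2⟩ := cD_spec l hl
  obtain ⟨h3, h4⟩ := mD_spec l hl _ h1
  obtain ⟨h5, h6⟩ := fN_spec v v
  obtain ⟨h7, h8⟩ := mD_spec _ h3 _ h5
  obtain ⟨h9, h10⟩ := xD_spec _ h1 _ hl
  obtain ⟨-, h12⟩ := xD_spec _ h9 _ h7
  refine ⟨hl, ?_⟩
  rw [h, h10, h8, h4, h2, h6] at h12
  exact h12.symm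

theorem vec_rN {v l : ℕ} (hl : l < 4) (x : ℕ) :
    vec (rN v l x) = vec x + (K4.ofDigit l * hf (vec x) (vec v)) • vec v := by
  obtain ⟨h1, h2⟩ := fN_spec x v
  obtain ⟨h3, h4⟩ := mD_spec l hl _ h1
  rw [rN, vec_addN, vec_smN h3, h4, h2]

end Cfsg.Agent.FischerUnique
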