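import Cfsg.Agent.Lib.FischerPresented.Chain
import Cfsg.Agent.Lib.Compute.CosetLower
import Cfsg.Agent.Lib.Compute.CosetPres
import Cfsg.Agent.Lib.Compute.CosetData.ChainAff729
import Cfsg.Agent.Lib.Compute.CosetData.ChainAff729Base

/-!
A certified sub-diagram group of the M(22) diagram, faithful on its table; it shows that the extra
relator of the sub-diagram commutes with the seven generators.
-/

set_option autoImplicit false
set_option maxRecDepth 100000

namespace Cfsg.Agent.FischerUnique.SubAff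

open Cfsg.Agent.CosetCert
open Cfsg.Agent.CosetData
open Cfsg.Agent.FischerPresented

/-- the edges -/
def edges : List (Fin 7 × ℕ × Fin 7) := [(0, 3, 1), (1, 3, 2), (2, 3, 3), (3, 3, 4), (2, 3, 5), (5, 3, 6)]

/-- the extra relator -/
def extra : List (FreeGroup (Fin 7)) := [(FreeGroup.of (0 : Fin 7) * FreeGroup.of (1 : Fin 7) * FreeGroup.of (2 : Fin 7) * FreeGroup.of (5 : Fin 7) * FreeGroup.of (6 : Fin 7) * FreeGroup.of (3 : Fin 7) * FreeGroup.of (2 : Fin 7) * FreeGroup.of (5 : Fin 7) * FreeGroup.of (4 : Fin 7) * FreeGroup.of (3 : Fin 7) * FreeGroup.of (2 : Fin 7) * FreeGroup.of (1 : Fin 7) * FreeGroup.of (2 : Fin 7) * FreeGroup.of (3 : Fin 7) * FreeGroup.of (4 : Fin 7) * FreeGroup.of (5 : Fin 7) * FreeGroup.of (2 : Fin 7) * FreeGroup.of (3 : Fin 7) * FreeGroup.of (6 : Fin 7) * FreeGroup.of (5 : Fin 7) * FreeGroup.of (2 : Fin 7) * FreeGroup.of (1 : Fin 7)) ^ 3]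

/-- generator by number -/
def gi (x : ℕ) : Fin 7 := Fin.ofNat 7 x

/-- the set-up -/
noncomputable def setup : Setup (Fin 7) where
  edges := edges
  extra := extra
  gi := gi
  ix := Fin.val
  P := ChainAff729.P
  n := 729
  base := ChainAff729.base
  extraW := [rep 3 [0, 1, 2, 5, 6, 3, 2, 5, 4, 3, 2, 1, 2, 3, 4, 5, 2, 3, 6, 5, 2, 1]]
  gi_ix := fun a => by simp [gi]
  ix_lt := fun a => a.2
  ix_gi := fun i (hi : i < 7) => by simp [gi, Nat.mod_eq_of_lt hi]
  pairs := by decide +kernel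
  bases := by decide +kernel
  extras := by decide +kernel
  tab := ChainAff729.tab_ok
  fix_base := ChainAff729.base_ok
  spec := fun f hf => by
    simp only [extra]
    repeat' constructor
    all_goals simp [wprod_cons, wprod_rep, wprod_nil, gi, map_mul, map_pow, mul_assoc]

theorem cardLe : CardLe (⊤ : Subgroup setup.G) 37791360 := by
  have h1 := cardLe_e6 setup.gen_invol setup.base_one (e6 := [6, 5, 2, 3, 4, 1]) (d5 := [6, 5, 2, 3, 1])
    (a4 := [6, 5, 2, 3]) (by decide +kernel)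
  have h2 := cardLe_step (emb := [0, 1, 2, 3, 4, 5, 6]) (base := ChainAff729.base) (sw := ChainAff729.sw)
    setup.gen_invol setup.base_one (by decide +kernel) ChainAff729.rots_ok (by decide +kernel) (by decide +kernel)
    ChainAff729.cert_ok ChainAff729.tab_ok h1 (by decide +kernel)
  refine h2.mono ?_
  rw [← setup.closure_gen]
  exact closure_le_pick (by decide +kernel)

/-- The base points of the table. -/
def pts : List ℕ := chainPts [] ChainAff729.levels

theorem word_one {w : List ℕ} (hw : wordFixPts ChainAff729.P 729 pts w = true) : wprod setup.gen w = 1 :=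
  wprod_eq_one_of_base (P := ChainAff729.P) ChainAff729.tab_ok setup.gen_invol setup.hom_gen
    (order_of_chain (P := ChainAff729.P) ChainAff729.tab_ok setup.hom setup.hom_gen cardLe ChainAff729.levels_ok
      ChainAff729.levels_size).2.2.2 hw

/-- the relator commutes with generator 0 -/
theorem comm0 : wprod setup.gen (rep 10 [2, 1, 0, 2, 3, 4, 2, 5, 6] ++ [0] ++ (rep 10 [2, 1, 0, 2, 3, 4, 2, 5, 6]).reverse ++ [0]) = 1 :=
  word_one (by decide +kernel)

/-- the relator commutes with generator 1 -/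
theorem comm1 : wprod setup.gen (rep 10 [2, 1, 0, 2, 3, 4, 2, 5, 6] ++ [1] ++ (rep 10 [2, 1, 0, 2, 3, 4, 2, 5, 6]).reverse ++ [1]) = 1 :=
  word_one (by decide +kernel)

/-- the relator commutes with generator 2 -/
theorem comm2 : wprod setup.gen (rep 10 [2, 1, 0, 2, 3, 4, 2, 5, 6] ++ [2] ++ (rep 10 [2, 1, 0, 2, 3, 4, 2, 5, 6]).reverse ++ [2]) = 1 :=
  word_one (by decide +kernel)

/-- the relator commutes with generator 3 -/
theorem comm3 : wprod setup.gen (rep 10 [2, 1, 0, 2, 3, 4, 2, 5, 6] ++ [3] ++ (rep 10 [2, 1, 0, 2, 3, 4, 2, 5, 6]).reverse ++ [3]) = 1 :=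
  word_one (by decide +kernel)

/-- the relator commutes with generator 4 -/
theorem comm4 : wprod setup.gen (rep 10 [2, 1, 0, 2, 3, 4, 2, 5, 6] ++ [4] ++ (rep 10 [2, 1, 0, 2, 3, 4, 2, 5, 6]).reverse ++ [4]) = 1 :=
  word_one (by decide +kernel)

/-- the relator commutes with generator 5 -/
theorem comm5 : wprod setup.gen (rep 10 [2, 1, 0, 2, 3, 4, 2, 5, 6] ++ [5] ++ (rep 10 [2, 1, 0, 2, 3, 4, 2, 5, 6]).reverse ++ [5]) = 1 :=
  word_one (by decide +kernel)

/-- the relator commutes with generator 6 -/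
theorem comm6 : wprod setup.gen (rep 10 [2, 1, 0, 2, 3, 4, 2, 5, 6] ++ [6] ++ (rep 10 [2, 1, 0, 2, 3, 4, 2, 5, 6]).reverse ++ [6]) = 1 :=
  word_one (by decide +kernel)

end Cfsg.Agent.FischerUnique.SubAff
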