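import Cfsg.Agent.Lib.FischerUnique.View
import Cfsg.Agent.Lib.FischerUnique.SubE7
import Cfsg.Agent.Lib.FischerUnique.SubAff

/-!
Nine transpositions in the shape of the diagram of Fi22 inside a group of type M(22) satisfy the three further
relations.
-/

set_option autoImplicit false
set_option maxRecDepth 100000

namespace Cfsg.Agent.FischerUnique

open Cfsg.Agent.CosetCert
open Cfsg.Agent.RigidGraph.He
open Cfsg.Agent.Fischer.Factor

universe u

variable {G : Type u} [Group G] [Finite G] {D : Set G}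

/-- The edges of the diagram on a, …, i. -/
def edgeB (i j : ℕ) : Bool :=
  [(0, 1), (1, 2), (2, 3), (3, 4), (4, 5), (5, 6), (3, 7), (7, 8)].any fun p =>
    (Nat.beq p.1 i && Nat.beq p.2 j) || (Nat.beq p.1 j && Nat.beq p.2 i)

/-- Nine members in the shape of the diagram. -/
structure Nine (D : Set G) (f : ℕ → G) : Prop where
  mem : ∀ i < 9, f i ∈ D
  rel : ∀ i < 9, ∀ j < 9, i ≠ j → (Commute (f i) (f j) ↔ edgeB i j = false)
  ne : ∀ i < 9, ∀ j < 9, i ≠ j → f i ≠ f j

/-- The reflection of the diagram exchanging the two long arms. -/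
def flipIx (i : ℕ) : ℕ := [6, 5, 4, 3, 2, 1, 0, 7, 8].getD i i

theorem flipIx_ok : ∀ i < 9, flipIx i < 9 ∧ ∀ j < 9, i ≠ j →
    flipIx i ≠ flipIx j ∧ edgeB (flipIx i) (flipIx j) = edgeB i j := by decide +kernel

omit [Finite G] in
theorem Nine.flip {f : ℕ → G} (h : Nine D f) : Nine D fun i => f (flipIx i) where
  mem i hi := h.mem _ (flipIx_ok i hi).1
  rel i hi j hj hij := by
    obtain ⟨h1, h2⟩ := (flipIx_ok i hi).2 j hj hij
    rw [h.rel _ (flipIx_ok i hi).1 _ (flipIx_ok j hj).1 h1, h2]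
  ne i hi j hj hij := h.ne _ (flipIx_ok i hi).1 _ (flipIx_ok j hj).1 ((flipIx_ok i hi).2 j hj hij).1

omit [Finite G] in
theorem Nine.mem_nb {f : ℕ → G} (h : Nine D f) {i j : ℕ} (hi : i < 9) (hj : j < 9) (hij : i ≠ j)
    (he : edgeB i j = false) : f j ∈ Nb D (f i) :=
  ⟨h.mem j hj, fun e => h.ne i hi j hj hij e.symm, (h.rel i hi j hj hij).2 he⟩

/-- The codes of c, …, i. -/
def cd9 (i : ℕ) : ℕ := [0, 0, 80, 144, 85, 9, 5, 1360, 2304].getD i 0

/-- The members of the standard path among a, …, i. -/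
def pix (i : ℕ) : ℕ := [6, 5, 4, 3, 7, 8].getD i 0

theorem pix_ok : ∀ i < 6, pix i < 9 ∧ 2 ≤ pix i ∧ cd9 (pix i) = pp i ∧ edgeB 0 (pix i) = false ∧
    edgeB 1 (pix i) = false ∧ pix i ≠ 0 ∧ pix i ≠ 1 ∧
    ∀ j < 6, i ≠ j → pix i ≠ pix j ∧ edgeB (pix i) (pix j) = adjP i j := by decide +kernel

theorem c_rel : ∀ i < 6, edgeB 2 (pix i) = Nat.beq (pix i) 3 := by decide +kernel

theorem cd9_pt : ∀ i < 9, 2 ≤ i → cd9 i < 4096 ∧ isPt (cd9 i) = true ∧ edgeB 0 i = false := by
  decide +kernel

/-- A labelling in which the nine have their standard places. -/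
structure Placed (D : Set G) (f : ℕ → G) where
  view : View D (f 0)
  pos : ∀ i < 9, 2 ≤ i → ∃ k : K4, k ≠ 0 ∧ view.toVec (f i) = k • vec (cd9 i)

omit [Finite G] in
/-- Normalising a labelling on six members forming a path. -/
theorem exists_normal {a : G} (A : View D a) (x : ℕ → G) (hx : ∀ i < 6, x i ∈ Nb D a)
    (hrel : ∀ i < 6, ∀ j < 6, i ≠ j → (Commute (x i) (x j) ↔ adjP i j = false)) :
    ∃ B : View D a, ∀ i < 6, ∃ k : K4, k ≠ 0 ∧ B.toVec (x i) = k • vec (pp i) := by
  obtain ⟨g, hg, h⟩ := normalise (fun i => A.toVec (x i)) (fun i hi => (A.isPoint _ (hx i hi)).1)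
    (fun i hi => (A.isPoint _ (hx i hi)).2) (fun i hi j hj hij => by
      rw [← A.comm _ (hx i hi) _ (hx j hj)]; exact hrel i hi j hj hij)
  exact ⟨A.comp g hg, h⟩

omit [Finite G] in
theorem View.hf_zero {a x y : G} (A : View D a) (hx : x ∈ Nb D a) (hy : y ∈ Nb D a) {n : ℕ} {k : K4}
    (hk : k ≠ 0) (e : A.toVec y = k • vec n) : hf (A.toVec x) (vec n) = 0 ↔ Commute x y := by
  rw [A.comm x hx y hy, e, hf_smul_right, mul_eq_zero, or_iff_right fun h => hk ((cj_eq_zero k).1 h)]

omit [Finite G] in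
theorem View.ne_smul {a x y : G} (A : View D a) (hx : x ∈ Nb D a) (hy : y ∈ Nb D a) (hne : x ≠ y) {n : ℕ}
    {k : K4} (hk : k ≠ 0) (e : A.toVec y = k • vec n) (m : K4) : A.toVec x ≠ m • vec n := fun h =>
  hne (A.inj x hx y hy (m * k⁻¹) (by rw [h, e, smul_smul, inv_mul_cancel_right₀ hk]))

omit [Finite G] in
/-- The member singled out by incidences with members at known places. -/
theorem View.locate {a x : G} (A : View D a) (hx : x ∈ Nb D a) {nc co allowed : List ℕ}
    (hu : patUniq nc co co allowed = true) {at_ : ℕ → G}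
    (hat : ∀ n ∈ nc ++ co, at_ n ∈ Nb D a ∧ ∃ k : K4, k ≠ 0 ∧ A.toVec (at_ n) = k • vec n)
    (hnc : ∀ n ∈ nc, ¬ Commute x (at_ n)) (hco : ∀ n ∈ co, Commute x (at_ n) ∧ x ≠ at_ n) :
    ∃ n ∈ allowed, ∃ k : K4, k ≠ 0 ∧ A.toVec x = k • vec n :=
  patUniq_spec hu (A.isPoint x hx).1 (A.isPoint x hx).2
    (fun n hn h => by
      obtain ⟨h1, k, hk, e⟩ := hat n (List.mem_append_left _ hn)
      exact hnc n hn ((A.hf_zero hx h1 hk e).1 h))
    (fun n hn => by
      obtain ⟨h1, k, hk, e⟩ := hat n (List.mem_append_right _ hn)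
      exact (A.hf_zero hx h1 hk e).2 (hco n hn).1)
    (fun n hn => by
      obtain ⟨h1, k, hk, e⟩ := hat n (List.mem_append_right _ hn)
      exact A.ne_smul hx h1 (hco n hn).2 hk e)

omit [Finite G] in
theorem nonempty_placed (hV : ∀ z ∈ D, Nonempty (View D z)) {f : ℕ → G} (h : Nine D f) :
    Nonempty (Placed D f) := by
  obtain ⟨A⟩ := hV _ (h.mem 0 (by norm_num))
  have hnb : ∀ i < 9, 2 ≤ i → f i ∈ Nb D (f 0) := fun i hi h2 =>
    h.mem_nb (by norm_num) hi (by omega) (cd9_pt i hi h2).2.2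
  obtain ⟨B, hB⟩ := exists_normal A (fun i => f (pix i))
    (fun i hi => hnb _ (pix_ok i hi).1 (pix_ok i hi).2.1)
    (fun i hi j hj hij => by
      obtain ⟨h1, h2⟩ := (pix_ok i hi).2.2.2.2.2.2.2 j hj hij
      rw [h.rel _ (pix_ok i hi).1 _ (pix_ok j hj).1 h1, h2])
  let at_ : ℕ → G := fun n =>
    if n = 144 then f 3 else if n = 5 then f 6 else if n = 9 then f 5 else if n = 85 then f 4
    else if n = 1360 then f 7 else f 8
  have hc : ∃ k : K4, k ≠ 0 ∧ B.toVec (f 2) = k • vec 80 := by
    obtain ⟨n, hn, hk⟩ := B.locate (hnb 2 (by norm_num) le_rfl) uC (at_ := at_)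
      (fun n hn => by
        simp only [List.cons_append, List.nil_append, List.mem_cons, List.not_mem_nil, or_false] at hn
        rcases hn with rfl | rfl | rfl | rfl | rfl | rfl
        · exact ⟨hnb 3 (by norm_num) (by norm_num), hB 3 (by norm_num)⟩
        · exact ⟨hnb 6 (by norm_num) (by norm_num), hB 0 (by norm_num)⟩
        · exact ⟨hnb 5 (by norm_num) (by norm_num), hB 1 (by norm_num)⟩
        · exact ⟨hnb 4 (by norm_num) (by norm_num), hB 2 (by norm_num)⟩
        · exact ⟨hnb 7 (by norm_num) (by norm_num), hB 4 (by norm_num)⟩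
        · exact ⟨hnb 8 (by norm_num) (by norm_num), hB 5 (by norm_num)⟩)
      (fun n hn => by
        rw [List.mem_singleton.1 hn, show at_ 144 = f 3 from rfl,
          h.rel 2 (by norm_num) 3 (by norm_num) (by norm_num)]
        decide)
      (fun n hn => by
        simp only [List.mem_cons, List.not_mem_nil, or_false] at hn
        have key : ∀ j < 9, 2 ≠ j → edgeB 2 j = false → Commute (f 2) (f j) ∧ f 2 ≠ f j := fun j hj h1 h2 =>
          ⟨(h.rel 2 (by norm_num) j hj h1).2 h2, h.ne 2 (by norm_num) j hj h1⟩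
        rcases hn with rfl | rfl | rfl | rfl | rfl
        · exact key 6 (by norm_num) (by norm_num) (by decide)
        · exact key 5 (by norm_num) (by norm_num) (by decide)
        · exact key 4 (by norm_num) (by norm_num) (by decide)
        · exact key 7 (by norm_num) (by norm_num) (by decide)
        · exact key 8 (by norm_num) (by norm_num) (by decide))
    rwa [List.mem_singleton.1 hn] at hk
  exact ⟨⟨B, fun i hi h2 => by
    interval_cases i
    · exact hc
    · exact hB 3 (by norm_num)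
    · exact hB 2 (by norm_num)
    · exact hB 1 (by norm_num)
    · exact hB 0 (by norm_num)
    · exact hB 4 (by norm_num)
    · exact hB 5 (by norm_num)⟩⟩

omit [Finite G] in
theorem comSet_scaled {a b : G} (A : View D a) {x : G} (hx : x ∈ Nb D a) (hb : Commute b x) {n : ℕ} {k : K4}
    (hk : k ≠ 0) (e : A.toVec x = k • vec n) : comSet A b (vec n) :=
  ⟨x, hx, hb, k⁻¹, inv_ne_zero hk, by rw [e, smul_smul, inv_mul_cancel₀ hk, one_smul]⟩

omit [Finite G] in
theorem not_comSet_scaled {a b : G} (A : View D a) {x : G} (hx : x ∈ Nb D a) (hb : ¬ Commute b x) {n : ℕ}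
    {k : K4} (hk : k ≠ 0) (e : A.toVec x = k • vec n) : ¬ comSet A b (vec n) := by
  rintro ⟨y, hy, hc, m, hm, he⟩
  refine hb ?_
  rwa [A.inj x hx y hy (k * m) (by rw [e, he, smul_smul])]

theorem Placed.common_path (hT : Cfsg.IsThreeTranspositionGroup D) (hV : ∀ z ∈ D, Nonempty (View D z))
    {f : ℕ → G} (h : Nine D f) (P : Placed D f) :
    IsCommonSet (comSet P.view (f 1)) ∧ ∀ i < 6, comSet P.view (f 1) (vec (pp i)) := by
  refine ⟨isCommonSet hT hV (h.mem 0 (by norm_num)) (h.mem 1 (by norm_num))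
    (by rw [h.rel 0 (by norm_num) 1 (by norm_num) (by norm_num)]; decide) P.view, fun i hi => ?_⟩
  obtain ⟨h1, h2, h3, h4, h5, h6, h7, -⟩ := pix_ok i hi
  obtain ⟨k, hk, e⟩ := P.pos _ h1 h2
  rw [← h3]
  exact comSet_scaled P.view (h.mem_nb (by norm_num) h1 (Ne.symm h6) h4)
    ((h.rel 1 (by norm_num) _ h1 (Ne.symm h7)).2 h5) hk e

omit [Finite G] in
/-- Conjugating by an element commuting with a member keeps its relations. -/
theorem conj_rel {k x z : G} (hz : Commute k z) :
    (Commute (k * x * k⁻¹) z ↔ Commute x z) ∧ (k * x * k⁻¹ = z ↔ x = z) := by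
  have e : k * z * k⁻¹ = z := Fischer.conj_eq_self_of_commute hz
  refine ⟨?_, ?_⟩
  · conv_lhs => rw [← e]
    exact Fischer.commute_conj_iff k x z
  · conv_lhs => rw [← e]
    exact ⟨fun h => mul_left_cancel (mul_right_cancel h), fun h => by rw [h]⟩

omit [Finite G] in
theorem commute_of_conj_eq {k x : G} (h : k * x * k⁻¹ = x) : Commute k x := by
  show k * x = x * k
  rw [← mul_inv_eq_iff_eq_mul]
  exact h

/-- An element centralising a, …, f, h centralises g and i. -/
theorem fix_ends (hT : Cfsg.IsThreeTranspositionGroup D) (hV : ∀ z ∈ D, Nonempty (View D z))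
    {f : ℕ → G} (h : Nine D f) {k : G} (hk : ∀ i ∈ [0, 1, 2, 3, 4, 5, 7], Commute k (f i)) :
    Commute k (f 6) ∧ Commute k (f 8) := by
  obtain ⟨P⟩ := nonempty_placed hV h
  obtain ⟨hS, hp⟩ := P.common_path hT hV h
  have hnb : ∀ i < 9, 2 ≤ i → f i ∈ Nb D (f 0) := fun i hi h2 =>
    h.mem_nb (by norm_num) hi (by omega) (cd9_pt i hi h2).2.2
  have hconj : ∀ {x : G}, x ∈ Nb D (f 0) → k * x * k⁻¹ ∈ Nb D (f 0) := fun {x} hx => by
    have := nb_conj hT k hx
    rwa [Fischer.conj_eq_self_of_commute (hk 0 (by simp))] at this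
  let at_ : ℕ → G := fun n =>
    if n = 80 then f 2 else if n = 144 then f 3 else if n = 85 then f 4 else if n = 9 then f 5
    else if n = 1360 then f 7 else f 8
  have hrel : ∀ i < 9, ∀ j < 9, i ≠ j → Commute k (f j) →
      (Commute (k * f i * k⁻¹) (f j) ↔ edgeB i j = false) ∧ k * f i * k⁻¹ ≠ f j := fun i hi j hj hij hc =>
    ⟨(conj_rel hc).1.trans (h.rel i hi j hj hij), fun e => h.ne i hi j hj hij ((conj_rel hc).2.1 e)⟩
  have hi8 : Commute k (f 8) := by
    have hx := hconj (hnb 8 (by norm_num) (by norm_num))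
    obtain ⟨n, hn, m, hm, e⟩ := P.view.locate hx uI (at_ := at_)
      (fun n hn => by
        simp only [List.cons_append, List.nil_append, List.mem_cons, List.not_mem_nil, or_false] at hn
        rcases hn with rfl | rfl | rfl | rfl | rfl
        · exact ⟨hnb 7 (by norm_num) (by norm_num), P.pos 7 (by norm_num) (by norm_num)⟩
        · exact ⟨hnb 2 (by norm_num) le_rfl, P.pos 2 (by norm_num) le_rfl⟩
        · exact ⟨hnb 3 (by norm_num) (by norm_num), P.pos 3 (by norm_num) (by norm_num)⟩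
        · exact ⟨hnb 4 (by norm_num) (by norm_num), P.pos 4 (by norm_num) (by norm_num)⟩
        · exact ⟨hnb 5 (by norm_num) (by norm_num), P.pos 5 (by norm_num) (by norm_num)⟩)
      (fun n hn => by
        rw [List.mem_singleton.1 hn, show at_ 1360 = f 7 from rfl,
          (hrel 8 (by norm_num) 7 (by norm_num) (by norm_num) (hk 7 (by simp))).1]
        decide)
      (fun n hn => by
        have key : ∀ j ∈ [2, 3, 4, 5], Commute (k * f 8 * k⁻¹) (f j) ∧ k * f 8 * k⁻¹ ≠ f j := by
          intro j hj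
          obtain ⟨j1, j2, j3, j4⟩ := (by decide +kernel : ∀ j ∈ [2, 3, 4, 5], j < 9 ∧ 8 ≠ j ∧ edgeB 8 j = false ∧
            j ∈ [0, 1, 2, 3, 4, 5, 7]) j hj
          obtain ⟨h1, h2⟩ := hrel 8 (by norm_num) j j1 j2 (hk j j4)
          exact ⟨h1.2 j3, h2⟩
        simp only [List.mem_cons, List.not_mem_nil, or_false] at hn
        rcases hn with rfl | rfl | rfl | rfl
        · exact key 2 (by simp)
        · exact key 3 (by simp)
        · exact key 4 (by simp)
        · exact key 5 (by simp))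
    have hb : Commute (f 1) (k * f 8 * k⁻¹) :=
      ((hrel 8 (by norm_num) 1 (by norm_num) (by norm_num) (hk 1 (by simp))).1.2 (by decide)).symm
    simp only [List.mem_cons, List.not_mem_nil, or_false] at hn
    rcases hn with rfl | rfl
    · obtain ⟨m', hm', e'⟩ := P.pos 8 (by norm_num) (by norm_num)
      refine commute_of_conj_eq (P.view.inj _ hx _ (hnb 8 (by norm_num) (by norm_num)) (m * m'⁻¹) ?_)
      rw [e', show cd9 8 = 2304 from rfl, smul_smul, inv_mul_cancel_right₀ hm', e]
    · exact absurd (comSet_scaled P.view hx hb hm e) (not_3328 hS hp)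
  refine ⟨?_, hi8⟩
  have hx := hconj (hnb 6 (by norm_num) (by norm_num))
  obtain ⟨n, hn, m, hm, e⟩ := P.view.locate hx uG (at_ := at_)
    (fun n hn => by
      simp only [List.cons_append, List.nil_append, List.mem_cons, List.not_mem_nil, or_false] at hn
      rcases hn with rfl | rfl | rfl | rfl | rfl | rfl
      · exact ⟨hnb 5 (by norm_num) (by norm_num), P.pos 5 (by norm_num) (by norm_num)⟩
      · exact ⟨hnb 2 (by norm_num) le_rfl, P.pos 2 (by norm_num) le_rfl⟩
      · exact ⟨hnb 3 (by norm_num) (by norm_num), P.pos 3 (by norm_num) (by norm_num)⟩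
      · exact ⟨hnb 4 (by norm_num) (by norm_num), P.pos 4 (by norm_num) (by norm_num)⟩
      · exact ⟨hnb 7 (by norm_num) (by norm_num), P.pos 7 (by norm_num) (by norm_num)⟩
      · exact ⟨hnb 8 (by norm_num) (by norm_num), P.pos 8 (by norm_num) (by norm_num)⟩)
    (fun n hn => by
      rw [List.mem_singleton.1 hn, show at_ 9 = f 5 from rfl,
        (hrel 6 (by norm_num) 5 (by norm_num) (by norm_num) (hk 5 (by simp))).1]
      decide)
    (fun n hn => by
      have key : ∀ j ∈ [2, 3, 4, 7, 8], Commute (k * f 6 * k⁻¹) (f j) ∧ k * f 6 * k⁻¹ ≠ f j := by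
        intro j hj
        obtain ⟨j1, j2, j3, j4⟩ := (by decide +kernel : ∀ j ∈ [2, 3, 4, 7, 8], j < 9 ∧ 6 ≠ j ∧
          edgeB 6 j = false ∧ (j = 8 ∨ j ∈ [0, 1, 2, 3, 4, 5, 7])) j hj
        obtain ⟨h1, h2⟩ := hrel 6 (by norm_num) j j1 j2 (j4.elim (fun e => e ▸ hi8) (hk j))
        exact ⟨h1.2 j3, h2⟩
      simp only [List.mem_cons, List.not_mem_nil, or_false] at hn
      rcases hn with rfl | rfl | rfl | rfl | rfl
      · exact key 2 (by simp)
      · exact key 3 (by simp)
      · exact key 4 (by simp)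
      · exact key 7 (by simp)
      · exact key 8 (by simp))
  rw [List.mem_singleton.1 hn] at e
  obtain ⟨m', hm', e'⟩ := P.pos 6 (by norm_num) (by norm_num)
  refine commute_of_conj_eq (P.view.inj _ hx _ (hnb 6 (by norm_num) (by norm_num)) (m * m'⁻¹) ?_)
  rw [e', show cd9 6 = 5 from rfl, smul_smul, inv_mul_cancel_right₀ hm', e]

/-- An element centralising b, c, d, e, f, h, i centralises a and g. -/
theorem fix_tips (hT : Cfsg.IsThreeTranspositionGroup D) (hV : ∀ z ∈ D, Nonempty (View D z))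
    {f : ℕ → G} (h : Nine D f) {k : G} (hk : ∀ i ∈ [1, 2, 3, 4, 5, 7, 8], Commute k (f i)) :
    Commute k (f 0) ∧ Commute k (f 6) := by
  obtain ⟨B₀⟩ := hV _ (h.mem 8 (by norm_num))
  have h8 : ∀ i < 7, f i ∈ Nb D (f 8) := fun i hi =>
    h.mem_nb (by norm_num) (by omega) (by omega) (by interval_cases i <;> decide)
  obtain ⟨B, hB⟩ := exists_normal B₀ f (fun i hi => h8 i (by omega))
    (fun i hi j hj hij => by
      have e : ∀ i < 6, ∀ j < 6, i ≠ j → edgeB i j = adjP i j := by decide +kernel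
      rw [h.rel i (by omega) j (by omega) hij, e i hi j hj hij])
  let at_ : ℕ → G := fun n =>
    if n = 5 then f 0 else if n = 9 then f 1 else if n = 85 then f 2 else if n = 144 then f 3
    else if n = 1360 then f 4 else f 5
  have hg7 : ∃ m : K4, m ≠ 0 ∧ B.toVec (f 6) = m • vec 1280 := by
    obtain ⟨n, hn, hm⟩ := B.locate (h8 6 (by norm_num)) uG7 (at_ := at_)
      (fun n hn => by
        simp only [List.cons_append, List.nil_append, List.mem_cons, List.not_mem_nil, or_false] at hn
        rcases hn with rfl | rfl | rfl | rfl | rfl | rfl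
        · exact ⟨h8 5 (by norm_num), hB 5 (by norm_num)⟩
        · exact ⟨h8 0 (by norm_num), hB 0 (by norm_num)⟩
        · exact ⟨h8 1 (by norm_num), hB 1 (by norm_num)⟩
        · exact ⟨h8 2 (by norm_num), hB 2 (by norm_num)⟩
        · exact ⟨h8 3 (by norm_num), hB 3 (by norm_num)⟩
        · exact ⟨h8 4 (by norm_num), hB 4 (by norm_num)⟩)
      (fun n hn => by
        rw [List.mem_singleton.1 hn, show at_ 2304 = f 5 from rfl,
          h.rel 6 (by norm_num) 5 (by norm_num) (by norm_num)]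
        decide)
      (fun n hn => by
        have key : ∀ j < 5, Commute (f 6) (f j) ∧ f 6 ≠ f j := fun j hj =>
          ⟨(h.rel 6 (by norm_num) j (by omega) (by omega)).2 (by interval_cases j <;> decide),
            h.ne 6 (by norm_num) j (by omega) (by omega)⟩
        simp only [List.mem_cons, List.not_mem_nil, or_false] at hn
        rcases hn with rfl | rfl | rfl | rfl | rfl
        · exact key 0 (by norm_num)
        · exact key 1 (by norm_num)
        · exact key 2 (by norm_num)
        · exact key 3 (by norm_num)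
        · exact key 4 (by norm_num))
    rw [List.mem_singleton.1 hn] at hm
    exact hm
  set U := comSet B (f 7) with hUdef
  have hU : IsCommonSet U := isCommonSet hT hV (h.mem 8 (by norm_num)) (h.mem 7 (by norm_num))
    (by rw [h.rel 8 (by norm_num) 7 (by norm_num) (by norm_num)]; decide) B
  have inU : ∀ i ∈ [0, 1, 2, 4, 5, 6], ∀ (n : ℕ) (m : K4), m ≠ 0 → B.toVec (f i) = m • vec n → U (vec n) := by
    intro i hi n m hm e
    obtain ⟨i1, i2, i3⟩ := (by decide +kernel : ∀ i ∈ [0, 1, 2, 4, 5, 6], i < 7 ∧ 7 ≠ i ∧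
      edgeB 7 i = false) i hi
    exact comSet_scaled B (h8 i i1) ((h.rel 7 (by norm_num) i (by omega) i2).2 i3) hm e
  have hd : ¬ U (vec 144) := by
    obtain ⟨m, hm, e⟩ := hB 3 (by norm_num)
    refine not_comSet_scaled B (h8 3 (by norm_num)) ?_ hm e
    rw [h.rel 7 (by norm_num) 3 (by norm_num) (by norm_num)]; decide
  obtain ⟨hnA, hnG⟩ := arm hU (fun p hp => by
    simp only [List.mem_cons, List.not_mem_nil, or_false] at hp
    rcases hp with rfl | rfl | rfl | rfl | rfl | rfl
    · obtain ⟨m, hm, e⟩ := hB 0 (by norm_num); exact inU 0 (by simp) _ m hm e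
    · obtain ⟨m, hm, e⟩ := hB 1 (by norm_num); exact inU 1 (by simp) _ m hm e
    · obtain ⟨m, hm, e⟩ := hB 2 (by norm_num); exact inU 2 (by simp) _ m hm e
    · obtain ⟨m, hm, e⟩ := hB 4 (by norm_num); exact inU 4 (by simp) _ m hm e
    · obtain ⟨m, hm, e⟩ := hB 5 (by norm_num); exact inU 5 (by simp) _ m hm e
    · obtain ⟨m, hm, e⟩ := hg7; exact inU 6 (by simp) _ m hm e) hd
  have hconj : ∀ {x : G}, x ∈ Nb D (f 8) → k * x * k⁻¹ ∈ Nb D (f 8) := fun {x} hx => by
    have := nb_conj hT k hx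
    rwa [Fischer.conj_eq_self_of_commute (hk 8 (by simp))] at this
  have hrel : ∀ i < 9, ∀ j < 9, i ≠ j → Commute k (f j) →
      (Commute (k * f i * k⁻¹) (f j) ↔ edgeB i j = false) ∧ k * f i * k⁻¹ ≠ f j := fun i hi j hj hij hc =>
    ⟨(conj_rel hc).1.trans (h.rel i hi j hj hij), fun e => h.ne i hi j hj hij ((conj_rel hc).2.1 e)⟩
  constructor
  · have hx := hconj (h8 0 (by norm_num))
    obtain ⟨n, hn, m, hm, e⟩ := B.locate hx uA (at_ := at_)
      (fun n hn => by
        simp only [List.cons_append, List.nil_append, List.mem_cons, List.not_mem_nil, or_false] at hn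
        rcases hn with rfl | rfl | rfl | rfl | rfl
        · exact ⟨h8 1 (by norm_num), hB 1 (by norm_num)⟩
        · exact ⟨h8 2 (by norm_num), hB 2 (by norm_num)⟩
        · exact ⟨h8 3 (by norm_num), hB 3 (by norm_num)⟩
        · exact ⟨h8 4 (by norm_num), hB 4 (by norm_num)⟩
        · exact ⟨h8 5 (by norm_num), hB 5 (by norm_num)⟩)
      (fun n hn => by
        rw [List.mem_singleton.1 hn, show at_ 9 = f 1 from rfl,
          (hrel 0 (by norm_num) 1 (by norm_num) (by norm_num) (hk 1 (by simp))).1]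
        decide)
      (fun n hn => by
        have key : ∀ j ∈ [2, 3, 4, 5], Commute (k * f 0 * k⁻¹) (f j) ∧ k * f 0 * k⁻¹ ≠ f j := by
          intro j hj
          obtain ⟨j1, j2, j3, j4⟩ := (by decide +kernel : ∀ j ∈ [2, 3, 4, 5], j < 9 ∧ 0 ≠ j ∧ edgeB 0 j = false ∧
            j ∈ [1, 2, 3, 4, 5, 7, 8]) j hj
          obtain ⟨h1, h2⟩ := hrel 0 (by norm_num) j j1 j2 (hk j j4)
          exact ⟨h1.2 j3, h2⟩
        simp only [List.mem_cons, List.not_mem_nil, or_false] at hn
        rcases hn with rfl | rfl | rfl | rfl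
        · exact key 2 (by simp)
        · exact key 3 (by simp)
        · exact key 4 (by simp)
        · exact key 5 (by simp))
    simp only [List.mem_cons, List.not_mem_nil, or_false] at hn
    rcases hn with rfl | rfl
    · obtain ⟨m', hm', e'⟩ := hB 0 (by norm_num)
      refine commute_of_conj_eq (B.inj _ hx _ (h8 0 (by norm_num)) (m * m'⁻¹) ?_)
      rw [e', show pp 0 = 5 from rfl, smul_smul, inv_mul_cancel_right₀ hm', e]
    · exact absurd (comSet_scaled B hx
        ((hrel 0 (by norm_num) 7 (by norm_num) (by norm_num) (hk 7 (by simp))).1.2 (by decide)).symm hm e) hnA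
  · have hx := hconj (h8 6 (by norm_num))
    obtain ⟨n, hn, m, hm, e⟩ := B.locate hx uB (at_ := at_)
      (fun n hn => by
        simp only [List.cons_append, List.nil_append, List.mem_cons, List.not_mem_nil, or_false] at hn
        rcases hn with rfl | rfl | rfl | rfl | rfl
        · exact ⟨h8 5 (by norm_num), hB 5 (by norm_num)⟩
        · exact ⟨h8 1 (by norm_num), hB 1 (by norm_num)⟩
        · exact ⟨h8 2 (by norm_num), hB 2 (by norm_num)⟩
        · exact ⟨h8 3 (by norm_num), hB 3 (by norm_num)⟩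
        · exact ⟨h8 4 (by norm_num), hB 4 (by norm_num)⟩)
      (fun n hn => by
        rw [List.mem_singleton.1 hn, show at_ 2304 = f 5 from rfl,
          (hrel 6 (by norm_num) 5 (by norm_num) (by norm_num) (hk 5 (by simp))).1]
        decide)
      (fun n hn => by
        have key : ∀ j ∈ [1, 2, 3, 4], Commute (k * f 6 * k⁻¹) (f j) ∧ k * f 6 * k⁻¹ ≠ f j := by
          intro j hj
          obtain ⟨j1, j2, j3, j4⟩ := (by decide +kernel : ∀ j ∈ [1, 2, 3, 4], j < 9 ∧ 6 ≠ j ∧ edgeB 6 j = false ∧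
            j ∈ [1, 2, 3, 4, 5, 7, 8]) j hj
          obtain ⟨h1, h2⟩ := hrel 6 (by norm_num) j j1 j2 (hk j j4)
          exact ⟨h1.2 j3, h2⟩
        simp only [List.mem_cons, List.not_mem_nil, or_false] at hn
        rcases hn with rfl | rfl | rfl | rfl
        · exact key 1 (by simp)
        · exact key 2 (by simp)
        · exact key 3 (by simp)
        · exact key 4 (by simp))
    simp only [List.mem_cons, List.not_mem_nil, or_false] at hn
    rcases hn with rfl | rfl
    · obtain ⟨m', hm', e'⟩ := hg7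
      refine commute_of_conj_eq (B.inj _ hx _ (h8 6 (by norm_num)) (m * m'⁻¹) ?_)
      rw [e', smul_smul, inv_mul_cancel_right₀ hm', e]
    · exact absurd (comSet_scaled B hx
        ((hrel 6 (by norm_num) 7 (by norm_num) (by norm_num) (hk 7 (by simp))).1.2 (by decide)).symm hm e) hnG

end Cfsg.Agent.FischerUnique
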