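import Cfsg.Agent.Lib.FischerUnique.Data

/-!
Paths of six points are unique up to isometries; every common set contains one; the points singled out by
incidences with a path.
-/

set_option autoImplicit false
set_option maxRecDepth 100000

namespace Cfsg.Agent.FischerUnique

open Cfsg.Agent.CosetCert
open Cfsg.Agent.RigidGraph.He

/-- The standard path g, f, e, d, h, i. -/
def pth : List ℕ := [5, 9, 85, 144, 1360, 2304]

/-- A point of the standard path. -/
def pp (i : ℕ) : ℕ := pth.getD i 0

/-- The sum of the first and third point. -/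
def cc : ℕ := 80

/-- Adjacency in the path. -/
def adjP (i j : ℕ) : Bool := Nat.beq (i + 1) j || Nat.beq (j + 1) i

/-- A point with prescribed incidences. -/
def pat (nc co ex : List ℕ) (n : ℕ) : Bool :=
  isPt n && nc.all (fun a => !Nat.beq (fN n a) 0) && co.all (fun a => Nat.beq (fN n a) 0) &&
    ex.all fun a => !Nat.beq n a

theorem pat_spec {nc co ex : List ℕ} {n : ℕ} (h : pat nc co ex n = true) :
    isPt n = true ∧ (∀ a ∈ nc, hf (vec n) (vec a) ≠ 0) ∧ ∀ a ∈ co, hf (vec n) (vec a) = 0 := by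
  simp only [pat, Bool.and_eq_true, List.all_eq_true, Bool.not_eq_true'] at h
  refine ⟨h.1.1.1, fun a ha e => ?_, fun a ha => orth_iff.1 (h.1.2 a ha)⟩
  have := h.1.1.2 a ha
  rw [orth_iff.2 e] at this
  exact Bool.noConfusion this

theorem exists_pat {nc co ex : List ℕ} {v : V} (h0 : v ≠ 0) (hv : hf v v = 0)
    (h1 : ∀ a ∈ nc, hf v (vec a) ≠ 0) (h2 : ∀ a ∈ co, hf v (vec a) = 0)
    (h3 : ∀ a ∈ ex, ∀ k : K4, v ≠ k • vec a) :
    ∃ n < 4096, pat nc co ex n = true ∧ ∃ k : K4, k ≠ 0 ∧ vec n = k • v := by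
  obtain ⟨n, hn, hp, k, hk, he⟩ := exists_pt h0 hv
  refine ⟨n, hn, ?_, k, hk, he⟩
  simp only [pat, hp, Bool.true_and, Bool.and_eq_true, List.all_eq_true, Bool.not_eq_true']
  refine ⟨⟨fun a ha => ?_, fun a ha => orth_iff.2 (by rw [he, hf_smul_left, h2 a ha, mul_zero])⟩,
    fun a ha => ?_⟩
  · cases e : Nat.beq (fN n a) 0 with
    | false => rfl
    | true =>
      have := orth_iff.1 e
      rw [he, hf_smul_left] at this
      exact absurd ((mul_eq_zero.1 this).resolve_left hk) (h1 a ha)
  · cases e : Nat.beq n a with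
    | false => rfl
    | true =>
      refine absurd ?_ (h3 a ha k⁻¹)
      rw [← Nat.eq_of_beq_eq_true e, he, smul_smul, inv_mul_cancel₀ hk, one_smul]

/-- The incidences determine a member of the list. -/
def patUniq (nc co ex allowed : List ℕ) : Bool :=
  allBelow (fun n => bif pat nc co ex n then allowed.any (fun a => Nat.beq n a) else true) 4096

theorem patUniq_spec {nc co ex allowed : List ℕ} (hu : patUniq nc co ex allowed = true) {v : V}
    (h0 : v ≠ 0) (hv : hf v v = 0) (h1 : ∀ a ∈ nc, hf v (vec a) ≠ 0) (h2 : ∀ a ∈ co, hf v (vec a) = 0)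
    (h3 : ∀ a ∈ ex, ∀ k : K4, v ≠ k • vec a) : ∃ a ∈ allowed, ∃ k : K4, k ≠ 0 ∧ v = k • vec a := by
  obtain ⟨n, hn, hp, k, hk, he⟩ := exists_pat h0 hv h1 h2 h3
  have := allBelow_spec hu hn
  simp only [hp, cond_true, List.any_eq_true] at this
  obtain ⟨a, ha, e⟩ := this
  refine ⟨a, ha, k⁻¹, inv_ne_zero hk, ?_⟩
  rw [← Nat.eq_of_beq_eq_true e, he, smul_smul, inv_mul_cancel₀ hk, one_smul]

/-! ### Orbits -/

/-- Check an orbit table. -/
def orbitGo (fixed : List ℕ) : List ℕ → ℕ → Option ℕ
  | [], M => some M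
  | e :: l, M =>
    let y := Nat.mod e 4096
    let v := Nat.mod (Nat.shiftRight e 12) 4096
    let c := Nat.shiftRight e 24
    bif stepN v c && (fixed.all fun p => Nat.beq (fN p v) 0) && bit M (nm (rN v c y)) then
      orbitGo fixed l (insBit M y) else none

/-- The table reaches every point with the incidences. -/
def orbitAll (fixed nc co ex : List ℕ) (t : ℕ) (tab : List ℕ) : Bool :=
  match orbitGo fixed tab (insBit 0 t) with
  | none => false
  | some M => allBelow (fun n => bif pat nc co ex n then bit M n else true) 4096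

/-- An isometry fixing the listed vectors takes the point to the target. -/
def Moves (fixed : List ℕ) (t p : ℕ) : Prop :=
  ∃ g : V ≃ₗ[K4] V, IsIso g ∧ (∀ a ∈ fixed, g (vec a) = vec a) ∧
    ∃ k : K4, k ≠ 0 ∧ g (vec p) = k • vec t

theorem orbitGo_sound (fixed : List ℕ) (t : ℕ) : ∀ (l : List ℕ) (M M' : ℕ),
    (∀ p, bit M p = true → Moves fixed t p) → orbitGo fixed l M = some M' →
      ∀ p, bit M' p = true → Moves fixed t p := by
  intro l
  induction l with
  | nil => intro M M' h hr; rw [orbitGo, Option.some.injEq] at hr; exact hr ▸ h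
  | cons e l ih =>
    intro M M' h hr
    simp only [orbitGo] at hr
    generalize Nat.mod e 4096 = y at hr
    generalize Nat.mod (Nat.shiftRight e 12) 4096 = v at hr
    generalize Nat.shiftRight e 24 = c at hr
    cases hc : stepN v c && (fixed.all fun p => Nat.beq (fN p v) 0) && bit M (nm (rN v c y)) with
    | false => rw [hc] at hr; simp at hr
    | true =>
      rw [hc, cond_true] at hr
      refine ih _ M' (fun p hp => ?_) hr
      rcases bit_insBit hp with rfl | hp
      swap; · exact h p hp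
      simp only [Bool.and_eq_true, List.all_eq_true] at hc
      obtain ⟨⟨h1, h2⟩, h3⟩ := hc
      obtain ⟨hl, hok⟩ := stepN_spec h1
      obtain ⟨g, hg, hfix, k, hk, he⟩ := h _ h3
      refine ⟨(rEquiv hok).trans g, (rEquiv_iso hok).trans hg, fun a ha => ?_, ?_⟩
      · rw [LinearEquiv.trans_apply, rEquiv_apply, orth_iff.1 (h2 a ha), mul_zero, zero_smul, add_zero,
          hfix a ha]
      · obtain ⟨-, m, hm, hme⟩ := vec_nm (rN v c p)
        refine ⟨m⁻¹ * k, mul_ne_zero (inv_ne_zero hm) hk, ?_⟩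
        rw [hme, vec_rN hl] at he
        rw [LinearEquiv.trans_apply, rEquiv_apply, mul_smul m⁻¹ k (vec t), ← he, map_smul, smul_smul,
          inv_mul_cancel₀ hm, one_smul]

theorem orbitAll_spec {fixed nc co ex : List ℕ} {t : ℕ} {tab : List ℕ}
    (h : orbitAll fixed nc co ex t tab = true) {v : V}
    (h0 : v ≠ 0) (hv : hf v v = 0) (h1 : ∀ a ∈ nc, hf v (vec a) ≠ 0) (h2 : ∀ a ∈ co, hf v (vec a) = 0)
    (h3 : ∀ a ∈ ex, ∀ k : K4, v ≠ k • vec a) :
    ∃ g : V ≃ₗ[K4] V, IsIso g ∧ (∀ a ∈ fixed, g (vec a) = vec a) ∧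
      ∃ k : K4, k ≠ 0 ∧ g v = k • vec t := by
  obtain ⟨n, hn, hp, m, hm, he⟩ := exists_pat h0 hv h1 h2 h3
  rw [orbitAll] at h
  cases hg : orbitGo fixed tab (insBit 0 t) with
  | none => rw [hg] at h; exact Bool.noConfusion h
  | some M =>
    rw [hg] at h
    have hb := allBelow_spec h hn
    simp only [hp, cond_true] at hb
    obtain ⟨g, h4, h5, k, hk, h6⟩ := orbitGo_sound fixed t tab _ M (fun p hp => by
      rcases bit_insBit hp with rfl | hp
      · exact ⟨LinearEquiv.refl _ _, IsIso.refl, fun _ _ => rfl, 1, one_ne_zero, (one_smul _ _).symm⟩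
      · rw [bit_zero] at hp; exact Bool.noConfusion hp) hg n hb
    refine ⟨g, h4, h5, m⁻¹ * k, mul_ne_zero (inv_ne_zero hm) hk, ?_⟩
    rw [he, map_smul] at h6
    rw [mul_smul, ← h6, smul_smul, inv_mul_cancel₀ hm, one_smul]

/-- The first points of the path. -/
def pre (k : ℕ) : List ℕ := (List.range k).map pp

/-- The neighbours among them of the next point. -/
def preNc : ℕ → List ℕ
  | 0 => []
  | k + 1 => [pp k]

/-- The other ones. -/
def preCo (k : ℕ) : List ℕ := (List.range (k - 1)).map pp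

/-- The points to avoid. -/
def preEx : ℕ → List ℕ
  | 4 => cc :: pre 4
  | k => pre k

/-- The tables of the six steps. -/
def orbTab : ℕ → List ℕ
  | 0 => orbit0 | 1 => orbit1 | 2 => orbit2 | 3 => orbit3 | 4 => orbit4 | _ => orbit5

theorem orbits_ok : ∀ k < 6, orbitAll (pre k) (preNc k) (preCo k) (preEx k) (pp k) (orbTab k) = true := by
  decide +kernel

theorem orbit5_ok : orbitAll (pre 5) (preNc 5) (preCo 5) [] (pp 5) orbit5 = true := by
  decide +kernel

theorem cc_eq : vec cc = vec (pp 0) + vec (pp 2) := by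
  rw [← vec_addN]; rfl

theorem pp_rel : ∀ i < 6, ∀ j < 6, Nat.beq (fN (pp i) (pp j)) 0 = !adjP i j := by decide +kernel

theorem hf_pp {i j : ℕ} (hi : i < 6) (hj : j < 6) :
    hf (vec (pp i)) (vec (pp j)) = 0 ↔ adjP i j = false := by
  rw [← orth_iff, pp_rel i hi j hj]; simp

theorem pp_pt : ∀ i < 6, pp i < 4096 ∧ isPt (pp i) = true := by decide +kernel

theorem mem_pre {k a : ℕ} (h : a ∈ pre k) : ∃ i < k, a = pp i := by
  simp only [pre, List.mem_map, List.mem_range] at h
  obtain ⟨i, hi, rfl⟩ := h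
  exact ⟨i, hi, rfl⟩

theorem pp_mem_pre {k i : ℕ} (h : i < k) : pp i ∈ pre k :=
  List.mem_map.2 ⟨i, List.mem_range.2 h, rfl⟩

/-- A path of six points is the standard one up to an isometry. -/
theorem normalise (v : ℕ → V) (h0 : ∀ i < 6, v i ≠ 0) (hvv : ∀ i < 6, hf (v i) (v i) = 0)
    (hrel : ∀ i < 6, ∀ j < 6, i ≠ j → (hf (v i) (v j) = 0 ↔ adjP i j = false)) :
    ∃ g : V ≃ₗ[K4] V, IsIso g ∧ ∀ i < 6, ∃ k : K4, k ≠ 0 ∧ g (v i) = k • vec (pp i) := by
  suffices main : ∀ k ≤ 6, ∃ g : V ≃ₗ[K4] V, IsIso g ∧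
      ∀ i < k, ∃ m : K4, m ≠ 0 ∧ g (v i) = m • vec (pp i) from main 6 le_rfl
  intro k
  induction k with
  | zero => exact fun _ => ⟨LinearEquiv.refl _ _, IsIso.refl, fun i hi => absurd hi (Nat.not_lt_zero i)⟩
  | succ k ih =>
    intro hk
    obtain ⟨g, hg, hfix⟩ := ih (by omega)
    have hk6 : k < 6 := hk
    have hrel' : ∀ i < k, (hf (g (v k)) (vec (pp i)) = 0 ↔ adjP k i = false) := fun i hi => by
      obtain ⟨m, hm, he⟩ := hfix i hi
      rw [← hrel k hk6 i (by omega) (by omega), ← hg (v k) (v i), he, hf_smul_right, mul_eq_zero,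
        or_iff_right (fun e => hm ((cj_eq_zero m).1 e))]
    have hdist : ∀ i < k, ∀ m : K4, g (v k) ≠ m • vec (pp i) := fun i hi m e => by
      obtain ⟨j, hj, hji, hjk, hd⟩ := (by decide +kernel : ∀ i < 6, ∀ k < 6, i ≠ k →
        ∃ j < 6, j ≠ i ∧ j ≠ k ∧ adjP i j ≠ adjP k j) i (by omega) k hk6 (by omega)
      obtain ⟨n, hn, he⟩ := hfix i hi
      have e' : v k = (m * n⁻¹) • v i := g.injective (by
        rw [e, map_smul, he, smul_smul, inv_mul_cancel_right₀ hn])
      have hm0 : m * n⁻¹ ≠ 0 := fun h => h0 k hk6 (by rw [e', h, zero_smul])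
      refine hd (Bool.eq_iff_iff.2 ?_)
      rw [← not_iff_not, Bool.not_eq_true, Bool.not_eq_true, ← hrel i (by omega) j hj hji.symm,
        ← hrel k hk6 j hj hjk.symm, e', hf_smul_left, mul_eq_zero, or_iff_right hm0]
    obtain ⟨g', hg', hfix', m, hm, he⟩ := orbitAll_spec (orbits_ok k hk6) (v := g (v k))
      (fun e => h0 k hk6 (g.injective (by rw [e, map_zero]))) (by rw [hg]; exact hvv k hk6)
      (fun a ha => by
        match k, ha with
        | k + 1, ha =>
          simp only [preNc, List.mem_singleton] at ha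
          subst ha
          rw [ne_eq, hrel' k (by omega)]
          simp [adjP])
      (fun a ha => by
        simp only [preCo, List.mem_map, List.mem_range] at ha
        obtain ⟨i, hi, rfl⟩ := ha
        rw [hrel' i (by omega)]
        have e1 : Nat.beq (k + 1) i = false := by
          cases e : Nat.beq (k + 1) i with
          | false => rfl
          | true => have := Nat.eq_of_beq_eq_true e; omega
        have e2 : Nat.beq (i + 1) k = false := by
          cases e : Nat.beq (i + 1) k with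
          | false => rfl
          | true => have := Nat.eq_of_beq_eq_true e; omega
        rw [adjP, e1, e2]; rfl)
      (fun a ha m' e => by
        by_cases hk4 : k = 4
        · subst hk4
          rw [preEx, List.mem_cons] at ha
          rcases ha with rfl | ha
          · obtain ⟨a0, ha0, e0⟩ := hfix 0 (by omega)
            obtain ⟨a2, ha2, e2⟩ := hfix 2 (by omega)
            have e' : g (v 4) = g ((m' * a0⁻¹) • v 0 + (m' * a2⁻¹) • v 2) := by
              rw [e, cc_eq, map_add, map_smul, map_smul, e0, e2, smul_smul, smul_smul, mul_assoc, mul_assoc,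
                inv_mul_cancel₀ ha0, inv_mul_cancel₀ ha2, mul_one, smul_add]
            have := (hrel 4 (by norm_num) 5 (by norm_num) (by norm_num)).not
            refine this.2 (by decide) ?_
            rw [g.injective e', hf_add_left, hf_smul_left, hf_smul_left,
              (hrel 0 (by norm_num) 5 (by norm_num) (by norm_num)).2 (by decide),
              (hrel 2 (by norm_num) 5 (by norm_num) (by norm_num)).2 (by decide), mul_zero, mul_zero,
              add_zero]
          · obtain ⟨i, hi, rfl⟩ := mem_pre ha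
            exact hdist i hi m' e
        · have hex : preEx k = pre k := by
            rcases k with _|_|_|_|_|k <;> first | rfl | exact absurd rfl hk4
          rw [hex] at ha
          obtain ⟨i, hi, rfl⟩ := mem_pre ha
          exact hdist i hi m' e)
    refine ⟨g.trans g', hg.trans hg', fun i hi => ?_⟩
    rcases Nat.lt_succ_iff_lt_or_eq.1 hi with hi | rfl
    · obtain ⟨n, hn, hne⟩ := hfix i hi
      exact ⟨n, hn, by rw [LinearEquiv.trans_apply, hne, map_smul, hfix' _ (pp_mem_pre hi)]⟩
    · exact ⟨m, hm, he⟩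

/-! ### Common sets -/

/-- The goal of one step. -/
def goalK (k a _b : ℕ) : Bool := Nat.blt a 4096 && pat (preNc k) (preCo k) (preEx k) a

/-- The goal of the last two steps. -/
def goal4 (a b : ℕ) : Bool :=
  Nat.blt a 4096 && pat (preNc 4) (preCo 4) (preEx 4) a && Nat.blt b 4096 && pat [a] (pre 4) [] b

/-- The trees of the steps. -/
def extTab : ℕ → Cert
  | 1 => extend1 | 2 => extend2 | 3 => extend3 | _ => extend4

theorem ext_ok : ∀ k < 4, 0 < k → check (goalK k) (extTab k) (bitsOf (pre k)) (bitsOf []) = true := by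
  decide +kernel

theorem ext4_ok : check goal4 extend4 (bitsOf (pre 4)) (bitsOf []) = true := by decide +kernel

theorem exclude_of_pat {nc co ex : List ℕ} {n : ℕ} (hn : n < 4096) (h : pat nc co ex n = true) :
    vec n ≠ 0 ∧ hf (vec n) (vec n) = 0 := isPt_spec hn (pat_spec h).1

/-- An isometry moving the standard step. -/
theorem step_of_pat {k : ℕ} (hk : k < 6) {a : ℕ} (ha : a < 4096)
    (hp : pat (preNc k) (preCo k) (preEx k) a = true) :
    ∃ g : V ≃ₗ[K4] V, IsIso g ∧ (∀ i < k, g (vec (pp i)) = vec (pp i)) ∧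
      ∃ m : K4, m ≠ 0 ∧ g (vec a) = m • vec (pp k) := by
  obtain ⟨h0, hv⟩ := exclude_of_pat ha hp
  have h := orbits_ok k hk
  rw [orbitAll] at h
  cases hg : orbitGo (pre k) (orbTab k) (insBit 0 (pp k)) with
  | none => rw [hg] at h; exact Bool.noConfusion h
  | some M =>
    rw [hg] at h
    have hb := allBelow_spec h ha
    simp only [hp, cond_true] at hb
    obtain ⟨g, h4, h5, h6⟩ := orbitGo_sound (pre k) (pp k) (orbTab k) _ M (fun p hp => by
      rcases bit_insBit hp with rfl | hp
      · exact ⟨LinearEquiv.refl _ _, IsIso.refl, fun _ _ => rfl, 1, one_ne_zero, (one_smul _ _).symm⟩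
      · rw [bit_zero] at hp; exact Bool.noConfusion hp) hg a hb
    exact ⟨g, h4, fun i hi => h5 _ (pp_mem_pre hi), h6⟩

/-- Every common set contains a path. -/
theorem exists_path {S : V → Prop} (hS : IsCommonSet S) {v : V} (hv : S v) :
    ∃ g : V ≃ₗ[K4] V, IsIso g ∧ ∀ i < 6, S (g (vec (pp i))) := by
  have key : ∀ k ≤ 4, ∃ g : V ≃ₗ[K4] V, IsIso g ∧ ∀ i < k, S (g (vec (pp i))) := by
    intro k
    induction k with
    | zero => exact fun _ => ⟨LinearEquiv.refl _ _, IsIso.refl, fun i hi => absurd hi (Nat.not_lt_zero i)⟩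
    | succ k ih =>
      intro hk
      obtain ⟨g, hg, hfix⟩ := ih (by omega)
      have hS' := hS.comap hg
      obtain ⟨a, ha, hpa, hSa⟩ : ∃ a < 4096, pat (preNc k) (preCo k) (preEx k) a = true ∧ S (g (vec a)) := by
        rcases Nat.eq_zero_or_pos k with rfl | hpos
        · obtain ⟨h1, h2⟩ := hS.sub v hv
          obtain ⟨n, hn, hp, m, hm, he⟩ := exists_pat (nc := preNc 0) (co := preCo 0) (ex := preEx 0)
            (v := g.symm v) (fun e => h1 (by rw [← g.apply_symm_apply v, e, map_zero]))
            (by rw [hg.symm]; exact h2) (fun a ha => by simp [preNc] at ha)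
            (fun a ha => by simp [preCo] at ha) (fun a ha => by simp [preEx, pre] at ha)
          exact ⟨n, hn, hp, by rw [he, map_smul, g.apply_symm_apply]; exact hS.scale v m hm hv⟩
        · obtain ⟨a, b, hSa, -, hgo⟩ := check_sound hS' _ (holds_bitsOf (l' := []) (fun p hp => by
            obtain ⟨i, hi, rfl⟩ := mem_pre hp; exact hfix i hi) (fun p hp => absurd hp List.not_mem_nil))
            (ext_ok k (by omega) hpos)
          simp only [goalK, Bool.and_eq_true, Nat.blt_eq] at hgo
          exact ⟨a, hgo.1, hgo.2, hSa⟩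
      obtain ⟨g', hg', hfix', m, hm, he⟩ := step_of_pat (show k < 6 by omega) ha hpa
      refine ⟨g'.symm.trans g, hg'.symm.trans hg, fun i hi => ?_⟩
      rcases Nat.lt_succ_iff_lt_or_eq.1 hi with hi | rfl
      · rw [LinearEquiv.trans_apply, show g'.symm (vec (pp i)) = vec (pp i) from
          g'.symm_apply_eq.2 (hfix' i hi).symm]
        exact hfix i hi
      · have e : g'.symm (vec (pp i)) = m⁻¹ • vec a := g'.injective (by
          rw [g'.apply_symm_apply, map_smul, he, smul_smul, inv_mul_cancel₀ hm, one_smul])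
        rw [LinearEquiv.trans_apply, e, map_smul]
        exact hS.scale _ _ (inv_ne_zero hm) hSa
  obtain ⟨g, hg, hfix⟩ := key 4 le_rfl
  obtain ⟨a, b, hSa, hSb, hgo⟩ := check_sound (hS.comap hg) _ (holds_bitsOf (l' := []) (fun p hp => by
    obtain ⟨i, hi, rfl⟩ := mem_pre hp; exact hfix i hi) (fun p hp => absurd hp List.not_mem_nil)) ext4_ok
  simp only [goal4, Bool.and_eq_true, Nat.blt_eq] at hgo
  obtain ⟨⟨⟨ha, hpa⟩, hb⟩, hpb⟩ := hgo
  obtain ⟨g', hg', hfix', m, hm, he⟩ := step_of_pat (show 4 < 6 by norm_num) ha hpa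
  have hfixs : ∀ i < 4, g'.symm (vec (pp i)) = vec (pp i) := fun i hi =>
    g'.symm_apply_eq.2 (hfix' i hi).symm
  have ea : g'.symm (vec (pp 4)) = m⁻¹ • vec a := g'.injective (by
    rw [g'.apply_symm_apply, map_smul, he, smul_smul, inv_mul_cancel₀ hm, one_smul])
  obtain ⟨-, hb1, hb2⟩ := pat_spec hpb
  obtain ⟨b0, bb⟩ := exclude_of_pat hb hpb
  obtain ⟨g'', hg'', hfix'', n, hn, he'⟩ := orbitAll_spec orbit5_ok (v := g' (vec b))
    (fun e => b0 (g'.injective (by rw [e, map_zero]))) (by rw [hg']; exact bb)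
    (fun x hx => by
      simp only [preNc, List.mem_singleton] at hx
      subst hx
      intro e
      rw [← g'.apply_symm_apply (vec (pp 4)), hg', ea, hf_smul_right] at e
      exact hb1 a (by simp) ((mul_eq_zero.1 e).resolve_left fun h => inv_ne_zero hm ((cj_eq_zero _).1 h)))
    (fun x hx => by
      simp only [preCo, List.mem_map, List.mem_range] at hx
      obtain ⟨i, hi, rfl⟩ := hx
      rw [← g'.apply_symm_apply (vec (pp i)), hg', hfixs i (by omega)]
      exact hb2 _ (pp_mem_pre (by omega)))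
    (fun x hx => absurd hx List.not_mem_nil)
  refine ⟨g''.symm.trans (g'.symm.trans g), hg''.symm.trans (hg'.symm.trans hg), fun i hi => ?_⟩
  rcases Nat.lt_succ_iff_lt_or_eq.1 (show i < 5 + 1 from hi) with hi | rfl
  · rw [LinearEquiv.trans_apply, LinearEquiv.trans_apply,
      show g''.symm (vec (pp i)) = vec (pp i) from g''.symm_apply_eq.2 (hfix'' _ (pp_mem_pre hi)).symm]
    rcases Nat.lt_succ_iff_lt_or_eq.1 (show i < 4 + 1 from hi) with hi | rfl
    · rw [hfixs i hi]; exact hfix i hi
    · rw [ea, map_smul]; exact hS.scale _ _ (inv_ne_zero hm) hSa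
  · have eb : g''.symm (vec (pp 5)) = n⁻¹ • g' (vec b) := g''.injective (by
      rw [g''.apply_symm_apply, map_smul, he', smul_smul, inv_mul_cancel₀ hn, one_smul])
    rw [LinearEquiv.trans_apply, LinearEquiv.trans_apply, eb, map_smul, g'.symm_apply_apply, map_smul]
    exact hS.scale _ _ (inv_ne_zero hn) hSb

end Cfsg.Agent.FischerUnique
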