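import Cfsg.Agent.Lib.FischerUnique.Unique
import Cfsg.Agent.Lib.FischerPresented.Fi22Pair

/-!
The centraliser of a product of two commuting transpositions in a group of type M(22).
-/

set_option autoImplicit false
set_option maxRecDepth 100000

namespace Cfsg.Agent.FischerUnique.PairProduct

open Cfsg.Agent.CosetCert Cfsg.Agent.CosetData Cfsg.Agent.FischerPresented
open Cfsg.Agent.FischerPresented.Fi22TwoTwo Cfsg.Agent.FischerPresented.Fi22Pair
open Cfsg.Agent.AutPSU.FourTwo (cox)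

local notation "G₀" => Setup.G Fi22B.setup
local notation "Wg" => CoxeterMatrix.E₆.Group

/-- The joint centraliser. -/
noncomputable def K0 : Subgroup G₀ := Subgroup.centralizer ({Fi22Class.z, e0} : Set G₀)

theorem mem_K0 {g : G₀} : g ∈ K0 ↔ Commute g Fi22Class.z ∧ Commute g e0 := by
  rw [K0, Subgroup.mem_centralizer_iff]
  exact ⟨fun h => ⟨(h _ (Or.inl rfl)).symm, (h _ (Or.inr rfl)).symm⟩, by
    rintro ⟨h1, h2⟩ y (rfl | rfl)
    · exact h1.symm.eq
    · exact h2.symm.eq⟩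

theorem K0_le : K0 ≤ C0 := fun _ hg =>
  Subgroup.mem_centralizer_singleton_iff.2 (((mem_K0.1 hg).1.mul_right (mem_K0.1 hg).2).eq)

theorem exists_swap_C0 : ∃ s ∈ C0, s * Fi22Class.z * s⁻¹ = e0 := by
  obtain ⟨he, hne, hze⟩ := pair_facts
  obtain ⟨g, hg⟩ := Fi22Class.mem_D.1 he
  set u := g⁻¹ * Fi22Class.z * g with hu
  have hug : g * u * g⁻¹ = Fi22Class.z := by rw [hu]; group
  have huD : u ∈ Fi22Class.D := Fi22Class.mem_D.2 ⟨g⁻¹, by rw [hu, inv_inv]⟩
  have hune : u ≠ Fi22Class.z := fun h => hne (hg.symm.trans (h ▸ hug))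
  have huc : Commute Fi22Class.z u := by
    have h : Commute (MulAut.conj g Fi22Class.z) (MulAut.conj g u) := by
      simp only [MulAut.conj_apply, hg, hug]; exact hze.symm
    exact (MulAut.conj g).injective (by simpa only [map_mul] using h.eq)
  obtain ⟨-, h, hhz, hh⟩ := Fi22Two.nb_conj huD hune huc
  have hh' : h * e0 * h⁻¹ = u := hh
  refine ⟨g * h, Fi22Pair.mem_C0.2 (mem_centralizer_iff_fix.2 ?_), ?_⟩
  · show g * h * (Fi22Class.z * e0) * (g * h)⁻¹ = Fi22Class.z * e0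
    calc g * h * (Fi22Class.z * e0) * (g * h)⁻¹
        = (g * (h * Fi22Class.z * h⁻¹) * g⁻¹) * (g * (h * e0 * h⁻¹) * g⁻¹) := by group
      _ = e0 * Fi22Class.z := by rw [hhz.eq, mul_inv_cancel_right, hg, hh', hug]
      _ = Fi22Class.z * e0 := hze.symm.eq
  · show g * h * Fi22Class.z * (g * h)⁻¹ = e0
    calc g * h * Fi22Class.z * (g * h)⁻¹ = g * (h * Fi22Class.z * h⁻¹) * g⁻¹ := by group
      _ = e0 := by rw [hhz.eq, mul_inv_cancel_right, hg]

theorem index_K0 : (K0.subgroupOf C0).index = 2 := by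
  obtain ⟨s, hs, hsz⟩ := exists_swap_C0
  have hse : s * e0 * s⁻¹ = Fi22Class.z := by
    have := image_e0 (mem_C0.1 hs)
    rw [MulAut.conj_apply, MulAut.conj_apply, hsz, e0_j0] at this
    exact this
  refine Subgroup.index_eq_two_iff.2 ⟨⟨s, hs⟩, fun b => ?_⟩
  simp only [Subgroup.mem_subgroupOf, Subgroup.coe_mul]
  by_cases hb : (b : G₀) ∈ K0
  · refine Or.inr ⟨hb, fun h => pair_facts.2.1 ?_⟩
    have hs' : s ∈ K0 := by simpa [← mul_assoc] using K0.mul_mem (K0.inv_mem hb) h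
    rw [(mem_K0.1 hs').1.eq, mul_inv_cancel_right] at hsz
    exact hsz.symm
  · refine Or.inl ⟨?_, hb⟩
    have hbj := mem_C0.1 b.2
    have hbe := image_e0 hbj
    rcases image_z hbj with e | e <;> rw [e] at hbe
    · refine absurd (mem_K0.2 ⟨?_, ?_⟩) hb
      · rwa [MulAut.conj_apply, mul_inv_eq_iff_eq_mul] at e
      · rwa [MulAut.conj_apply, z_e0.symm, ← mul_assoc, Fi22Pair.z_sq, one_mul, mul_inv_eq_iff_eq_mul] at hbe
    · rw [e0_j0] at hbe
      rw [MulAut.conj_apply] at e hbe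
      refine mem_K0.2 ⟨mul_inv_eq_iff_eq_mul.1 ?_, mul_inv_eq_iff_eq_mul.1 ?_⟩
      · rw [show (b : G₀) * s * Fi22Class.z * ((b : G₀) * s)⁻¹ = b * (s * Fi22Class.z * s⁻¹) * (b : G₀)⁻¹ by group,
          hsz, hbe]
      · rw [show (b : G₀) * s * e0 * ((b : G₀) * s)⁻¹ = b * (s * e0 * s⁻¹) * (b : G₀)⁻¹ by group, hse, e]

theorem center_K0 : (Subgroup.center K0).map K0.subtype = Subgroup.closure ({Fi22Class.z, e0} : Set G₀) := by
  haveI := Fi22TwoTwo.finite_G
  refine le_antisymm ?_ ?_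
  · haveI hK : (K0.subgroupOf C0).Normal := Subgroup.normal_of_index_eq_two index_K0
    set Z : Subgroup C0 := (Subgroup.center ↥(K0.subgroupOf C0)).map (K0.subgroupOf C0).subtype with hZ
    haveI : Z.Normal := inferInstance
    haveI : Group.IsNilpotent Z := by
      let cg : CommGroup Z := { (inferInstance : Group Z) with
        mul_comm := fun a b => by
          obtain ⟨a, a', ha, rfl⟩ := a
          obtain ⟨b, b', hb, rfl⟩ := b
          refine Subtype.ext ?_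
          show (K0.subgroupOf C0).subtype a' * (K0.subgroupOf C0).subtype b' = _ * _
          rw [← map_mul, ← map_mul, Subgroup.mem_center_iff.1 hb a'] }
      exact @CommGroup.isNilpotent Z cg
    have hle : Z ≤ E0.subgroupOf C0 := nilpotent_le
    rintro _ ⟨k, hk, rfl⟩
    have hkZ : (⟨(k : G₀), K0_le k.2⟩ : C0) ∈ Z := by
      refine ⟨⟨⟨(k : G₀), K0_le k.2⟩, k.2⟩, Subgroup.mem_center_iff.2 fun y => Subtype.ext (Subtype.ext ?_), rfl⟩
      exact (congrArg (Subtype.val : K0 → G₀) (Subgroup.mem_center_iff.1 hk ⟨((y : C0) : G₀), y.2⟩) :)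
    refine center_E0 (hle hkZ) fun g hg => ?_
    exact (congrArg Subtype.val (Subgroup.mem_center_iff.1 hk ⟨g, mem_K0.2 (E0_comm hg)⟩)).symm
  · rw [Subgroup.closure_le]
    rintro y (rfl | rfl)
    · exact ⟨⟨_, mem_K0.2 ⟨Commute.refl _, pair_facts.2.2⟩⟩,
        Subgroup.mem_center_iff.2 fun k => Subtype.ext (mem_K0.1 k.2).1.eq, rfl⟩
    · exact ⟨⟨_, mem_K0.2 ⟨pair_facts.2.2.symm, Commute.refl _⟩⟩,
        Subgroup.mem_center_iff.2 fun k => Subtype.ext (mem_K0.1 k.2).2.eq, rfl⟩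

variable {G : Type*} [Group G] [Finite G] {D : Set G}

/-- Every commuting pair is the image of the standard one under an isomorphism from the presented group. -/
theorem exists_frame_iso (hD : Cfsg.IsThreeTranspositionGroup D) (hprim : Cfsg.IsPrimitiveUnderConj D)
    (h22 : Cfsg.IsOfTypeM22 G D) {d₁ d₂ : G} (h₁ : d₁ ∈ D) (h₂ : d₂ ∈ D) (hne : d₁ ≠ d₂) (hc : Commute d₁ d₂) :
    ∃ T : G₀ ≃* G, T Fi22Class.z = d₁ ∧ T e0 = d₂ := by
  obtain ⟨Φ, hΦ⟩ := Cfsg.Agent.FischerUnique.exists_iso hD hprim h22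
  obtain ⟨a, ha, rfl⟩ := (hΦ ▸ h₁ : d₁ ∈ Φ '' Fi22Class.D)
  obtain ⟨b, hb, rfl⟩ := (hΦ ▸ h₂ : d₂ ∈ Φ '' Fi22Class.D)
  obtain ⟨g, hg⟩ := Fi22Class.mem_D.1 ha
  have hu : g⁻¹ * b * g ∈ Fi22Class.D := by
    obtain ⟨k, hk⟩ := Fi22Class.mem_D.1 hb
    exact Fi22Class.mem_D.2 ⟨g⁻¹ * k, by rw [← hk]; group⟩
  have hune : g⁻¹ * b * g ≠ Fi22Class.z := fun e => hne (congrArg Φ (by rw [← hg, ← e]; group))
  have huc : Commute Fi22Class.z (g⁻¹ * b * g) := by
    have h1 : Commute a b := by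
      refine Φ.injective ?_
      rw [map_mul, map_mul]; exact hc.eq
    rw [← hg] at h1
    have h2 := h1.map (MulAut.conj g⁻¹).toMonoidHom
    simpa [mul_assoc] using h2
  obtain ⟨-, h, hhz, hh⟩ := Fi22Two.nb_conj hu hune huc
  refine ⟨(MulAut.conj (g * h)).trans Φ, ?_, ?_⟩
  · show Φ (g * h * Fi22Class.z * (g * h)⁻¹) = _
    rw [← hg]
    refine congrArg Φ ?_
    calc g * h * Fi22Class.z * (g * h)⁻¹ = g * (h * Fi22Class.z * h⁻¹) * g⁻¹ := by group
      _ = _ := by rw [hhz.eq, mul_inv_cancel_right]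
  · show Φ (g * h * e0 * (g * h)⁻¹) = _
    refine congrArg Φ ?_
    calc g * h * e0 * (g * h)⁻¹ = g * (h * e0 * h⁻¹) * g⁻¹ := by group
      _ = _ := by rw [show h * e0 * h⁻¹ = _ from hh]; group

theorem centralizer_map {A B : Type*} [Group A] [Group B] (e : A ≃* B) (X : Set A) :
    (Subgroup.centralizer X).map e.toMonoidHom = Subgroup.centralizer (e '' X) := by
  ext y
  obtain ⟨w, rfl⟩ := e.surjective y
  simp only [Subgroup.mem_map_equiv, e.symm_apply_apply, Subgroup.mem_centralizer_iff,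
    Set.forall_mem_image, ← map_mul, e.injective.eq_iff]

end Cfsg.Agent.FischerUnique.PairProduct
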