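import Cfsg.Agent.Lib.FischerUnique.Nine
import Cfsg.Agent.Lib.FischerPresented.Fi22Class

/-!
The three relators of Fi22 hold for nine members in the shape of its diagram.
-/

set_option autoImplicit false
set_option maxRecDepth 100000

namespace Cfsg.Agent.FischerUnique

open Cfsg.Agent.CosetCert
open Cfsg.Agent.RigidGraph.He
open Cfsg.Agent.Fischer.Factor

universe u

variable {G : Type u} [Group G] {D : Set G}

/-- The relators are diagram relations or the extra word. -/
def baseChk (base : List (List ℕ)) (emb extra : List ℕ) : Bool :=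
  base.all fun w => wordEq w extra || (List.range emb.length).any fun i => (List.range emb.length).any fun j =>
    Nat.blt (emb.getD i 0) 9 && Nat.blt (emb.getD j 0) 9 && !Nat.beq (emb.getD i 0) (emb.getD j 0) &&
      wordEq w (rep (bif edgeB (emb.getD i 0) (emb.getD j 0) then 3 else 2) [i, j])

theorem wprod_base (hT : Cfsg.IsThreeTranspositionGroup D) {f : ℕ → G} (h : Nine D f)
    {base : List (List ℕ)} {emb extra : List ℕ} (hc : baseChk base emb extra = true)
    (he : wprod (pick f emb) extra = 1) : ∀ w ∈ base, wprod (pick f emb) w = 1 := by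
  intro w hw
  simp only [baseChk, List.all_eq_true, Bool.or_eq_true, List.any_eq_true, List.mem_range,
    Bool.and_eq_true, Nat.blt_eq, Bool.not_eq_true'] at hc
  rcases hc w hw with e | ⟨i, -, j, -, ⟨⟨hi, hj⟩, hij⟩, e⟩
  · rw [eq_of_wordEq e]; exact he
  rw [eq_of_wordEq e, wprod_rep, wprod_cons, wprod_cons, wprod_nil, mul_one]
  have hij' : emb.getD i 0 ≠ emb.getD j 0 := fun e => by
    rw [e] at hij; simp at hij
  have hr := h.rel _ hi _ hj hij'
  show (f (emb.getD i 0) * f (emb.getD j 0)) ^ _ = 1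
  cases he' : edgeB (emb.getD i 0) (emb.getD j 0) with
  | false =>
    rw [cond_false]
    exact (Fischer.commute_iff_sq_eq_one (Fischer.TSet.sq hT.1 (h.mem _ hi))
      (Fischer.TSet.sq hT.1 (h.mem _ hj))).1 (hr.2 he')
  | true =>
    rw [cond_true]
    exact Fischer.TSet.cube hT.1 (h.mem _ hi) (h.mem _ hj) fun hc => by
      rw [hr.1 hc] at he'; exact Bool.noConfusion he'

/-- The homomorphism from a set-up into a finite group of any universe. -/
theorem exists_hom_fin [Finite G] {α : Type} [DecidableEq α] (S : Setup α) (f : ℕ → G)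
    (hinv : ∀ x, f x * f x = 1) (hb : ∀ w ∈ S.base, wprod f w = 1) :
    ∃ ψ : S.G →* G, ∀ x < S.P.k, ψ (S.gen x) = f x := by
  haveI : Small.{0} G := inferInstance
  set E : Shrink.{0} G ≃* G := Shrink.mulEquiv
  obtain ⟨ψ, hψ⟩ := S.exists_hom (fun x => E.symm (f x)) (fun x => by rw [← map_mul, hinv, map_one])
    (fun w hw => by
      have := congrArg E.symm (hb w hw)
      rw [map_one] at this
      rw [← this]
      exact (map_wprod E.symm.toMonoidHom f w).symm)
  exact ⟨E.toMonoidHom.comp ψ, fun x hx => by simp [hψ x hx]⟩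

/-- A relator commutes with the generators of its sub-diagram. -/
theorem commute_relator [Finite G] {α : Type} [DecidableEq α] (S : Setup α) (hT : Cfsg.IsThreeTranspositionGroup D)
    {f : ℕ → G} (h : Nine D f) {emb extra : List ℕ} (hemb : ∀ i, emb.getD i 0 < 9)
    (hc : baseChk S.base emb extra = true) (he : wprod (pick f emb) extra = 1)
    {w : List ℕ} {x : ℕ} (hw : wprod S.gen (w ++ [x] ++ w.reverse ++ [x]) = 1)
    (hlt : ∀ y ∈ w, y < S.P.k) (hx : x < S.P.k) :
    Commute (wprod (pick f emb) w) (pick f emb x) := by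
  have hinv : ∀ y, pick f emb y * pick f emb y = 1 := fun y => Fischer.TSet.sq hT.1 (h.mem _ (hemb y))
  obtain ⟨ψ, hψ⟩ := exists_hom_fin S (pick f emb) hinv (wprod_base hT h hc he)
  have := congrArg ψ hw
  rw [map_one, map_wprod, wprod_congr (g := pick f emb) (fun y hy => hψ y (by
    simp only [List.mem_append, List.mem_singleton, List.mem_reverse] at hy
    rcases hy with ((hy | rfl) | hy) | rfl <;> first | exact hlt _ hy | exact hx))] at this
  rw [wprod_append, wprod_append, wprod_append, wprod_reverse hinv, wprod_cons, wprod_nil, mul_one] at this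
  have e := eq_inv_of_mul_eq_one_left this
  rw [inv_eq_of_mul_eq_one_right (hinv x)] at e
  exact commute_of_conj_eq e

variable [Finite G]

/-- Conjugates inside the neighbourhood of the first member, by their places. -/
theorem word_point (hT : Cfsg.IsThreeTranspositionGroup D) {f : ℕ → G} (h : Nine D f) (P : Placed D f) :
    ∀ (L : List ℕ), (∀ i ∈ L, i < 9 ∧ 2 ≤ i) → ∀ {x : G} {n : ℕ} {k : K4}, x ∈ Nb D (f 0) → k ≠ 0 →
      P.view.toVec x = k • vec n → wprod f L * x * (wprod f L)⁻¹ ∈ Nb D (f 0) ∧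
        ∃ m : K4, m ≠ 0 ∧ P.view.toVec (wprod f L * x * (wprod f L)⁻¹) = m • vec (tvN (L.map cd9) n) := by
  intro L
  induction L with
  | nil => intro _ x n k hx hk e; simp [wprod_nil, tvN, hx]; exact ⟨k, hk, e⟩
  | cons i L ih =>
    intro hL x n k hx hk e
    obtain ⟨hi, h2⟩ := hL i List.mem_cons_self
    obtain ⟨hm, m, hm0, em⟩ := ih (fun j hj => hL j (List.mem_cons_of_mem _ hj)) hx hk e
    have hfi : f i ∈ Nb D (f 0) := h.mem_nb (by norm_num) hi (by omega) (cd9_pt i hi h2).2.2
    obtain ⟨c, hc, ec⟩ := P.view.conj _ hm _ hfi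
    obtain ⟨d, hd, ed⟩ := P.pos i hi h2
    have e2 : wprod f (i :: L) * x * (wprod f (i :: L))⁻¹ =
        f i * (wprod f L * x * (wprod f L)⁻¹) * (f i)⁻¹ := by rw [wprod_cons]; group
    rw [e2]
    refine ⟨?_, c * m, mul_ne_zero hc hm0, ?_⟩
    · have := nb_conj hT (f i) hm
      rwa [Fischer.conj_eq_self_of_commute hfi.2.2.symm] at this
    · rw [ec, ed, em, tv_smul hd, tv_smul_arg, smul_smul, List.map_cons, tvN, vec_rN (by norm_num),
        show K4.ofDigit 1 = 1 from rfl, one_mul, tv]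

/-- The element (b θ)³ of the affine sub-diagram is trivial. -/
theorem theta_rel (hT : Cfsg.IsThreeTranspositionGroup D) (hV : ∀ z ∈ D, Nonempty (View D z))
    {f : ℕ → G} (h : Nine D f) :
    wprod (pick f [1, 2, 3, 4, 5, 7, 8]) (rep 3 [0, 1, 2, 5, 6, 3, 2, 5, 4, 3, 2, 1, 2, 3, 4, 5, 2, 3, 6, 5, 2, 1]) = 1 := by
  obtain ⟨P⟩ := nonempty_placed hV h
  obtain ⟨hS, hp⟩ := P.common_path hT hV h
  set L : List ℕ := [2, 3, 7, 8, 4, 3, 7, 5, 4, 3] with hLdef
  have hL : ∀ i ∈ L, i < 9 ∧ 2 ≤ i := by decide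
  have h2 : f 2 ∈ Nb D (f 0) := h.mem_nb (by norm_num) (by norm_num) (by norm_num) (by decide)
  obtain ⟨k, hk, e⟩ := P.pos 2 (by norm_num) le_rfl
  obtain ⟨hr, m, hm, em⟩ := word_point hT h P L hL h2 hk e
  have hcode : nm (tvN (L.map cd9) (cd9 2)) = 2457 := by decide +kernel
  obtain ⟨-, c, hc, ec⟩ := vec_nm (tvN (L.map cd9) (cd9 2))
  rw [hcode] at ec
  have em' : P.view.toVec (wprod f L * f 2 * (wprod f L)⁻¹) = (m * c⁻¹) • vec 2457 := by
    rw [em, ec, smul_smul, inv_mul_cancel_right₀ hc]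
  have hnc : ¬ Commute (f 1) (wprod f L * f 2 * (wprod f L)⁻¹) := fun hcc =>
    not_2457 hS hp (comSet_scaled P.view hr hcc (mul_ne_zero hm (inv_ne_zero hc)) em')
  have := Fischer.TSet.cube hT.1 (h.mem 1 (by norm_num)) hr.1 hnc
  rw [wprod_rep, wprod_pick]
  refine Eq.trans (congrArg (fun z => z ^ 3) ?_) this
  have inv : ∀ i < 9, (f i)⁻¹ = f i := fun i hi => Fischer.TSet.inv hT.1 (h.mem i hi)
  simp only [hLdef, List.map_cons, List.map_nil, List.getD_cons_succ, List.getD_cons_zero, wprod_cons,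
    wprod_nil, mul_inv_rev, mul_one, one_mul, inv 2 (by norm_num), inv 3 (by norm_num), inv 4 (by norm_num),
    inv 5 (by norm_num), inv 7 (by norm_num), inv 8 (by norm_num), inv_one, mul_assoc]

theorem comm_e7 : ∀ x < 7, wordFixPts CosetData.ChainE7.P 56 SubE7.pts
    (rep 9 [0, 1, 2, 3, 4, 5, 6] ++ [x] ++ (rep 9 [0, 1, 2, 3, 4, 5, 6]).reverse ++ [x]) = true ∧
    wordFixPts CosetData.ChainE7.P 56 SubE7.pts
    (rep 9 [5, 4, 3, 2, 1, 0, 6] ++ [x] ++ (rep 9 [5, 4, 3, 2, 1, 0, 6]).reverse ++ [x]) = true := by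
  decide +kernel

theorem comm_aff : ∀ x < 7, wordFixPts CosetData.ChainAff729.P 729 SubAff.pts
    (rep 10 [2, 1, 0, 2, 3, 4, 2, 5, 6] ++ [x] ++ (rep 10 [2, 1, 0, 2, 3, 4, 2, 5, 6]).reverse ++ [x]) = true := by
  decide +kernel

theorem e7_base : baseChk SubE7.setup.base [0, 1, 2, 3, 4, 5, 7] [] = true ∧
    baseChk SubE7.setup.base [6, 5, 4, 3, 2, 1, 7] [] = true := by decide +kernel

theorem aff_base : baseChk SubAff.setup.base [1, 2, 3, 4, 5, 7, 8]
    (rep 3 [0, 1, 2, 5, 6, 3, 2, 5, 4, 3, 2, 1, 2, 3, 4, 5, 2, 3, 6, 5, 2, 1]) = true := by decide +kernel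

/-- The three relators. -/
def relW : List (List ℕ) :=
  [rep 10 [3, 2, 1, 3, 4, 5, 3, 7, 8], rep 9 [0, 1, 2, 3, 4, 5, 7], rep 9 [1, 2, 3, 4, 5, 6, 7]]

/-- Each relator commutes with all nine. -/
theorem relator_commutes (hT : Cfsg.IsThreeTranspositionGroup D) (hV : ∀ z ∈ D, Nonempty (View D z))
    {f : ℕ → G} (h : Nine D f) : ∀ w ∈ relW, ∀ i < 9, Commute (wprod f w) (f i) := by
  intro w hw
  simp only [relW, List.mem_cons, List.not_mem_nil, or_false] at hw
  have hemb : ∀ (l : List ℕ), (∀ y ∈ l, y < 9) → ∀ i, l.getD i 0 < 9 := fun l hl i => by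
    rw [List.getD_eq_getElem?_getD]
    cases hg : l[i]? with
    | none => simp
    | some y => simpa [hg] using hl y (List.mem_of_getElem? hg)
  rcases hw with rfl | rfl | rfl
  · have key : ∀ x < 7, Commute (wprod f (rep 10 [3, 2, 1, 3, 4, 5, 3, 7, 8]))
        (f ([1, 2, 3, 4, 5, 7, 8].getD x 0)) := fun x hx => by
      have := commute_relator SubAff.setup hT h (hemb _ (by decide)) aff_base (theta_rel hT hV h)
        (SubAff.word_one (comm_aff x hx)) (by decide +kernel) hx
      rw [wprod_pick] at this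
      exact this
    obtain ⟨h0, h6⟩ := fix_tips hT hV h (k := wprod f (rep 10 [3, 2, 1, 3, 4, 5, 3, 7, 8])) (fun i hi => by
      obtain ⟨x, hx, rfl⟩ := (by decide +kernel : ∀ i ∈ [1, 2, 3, 4, 5, 7, 8],
        ∃ x < 7, [1, 2, 3, 4, 5, 7, 8].getD x 0 = i) i hi
      exact key x hx)
    intro i hi
    interval_cases i
    · exact h0
    · exact key 0 (by norm_num)
    · exact key 1 (by norm_num)
    · exact key 2 (by norm_num)
    · exact key 3 (by norm_num)
    · exact key 4 (by norm_num)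
    · exact h6
    · exact key 5 (by norm_num)
    · exact key 6 (by norm_num)
  · have key : ∀ x < 7, Commute (wprod f (rep 9 [0, 1, 2, 3, 4, 5, 7]))
        (f ([0, 1, 2, 3, 4, 5, 7].getD x 0)) := fun x hx => by
      have := commute_relator SubE7.setup hT h (hemb _ (by decide)) e7_base.1 (by simp [wprod_nil])
        (SubE7.word_one (comm_e7 x hx).1) (by decide +kernel) hx
      rw [wprod_pick] at this
      exact this
    obtain ⟨h6, h8⟩ := fix_ends hT hV h (k := wprod f (rep 9 [0, 1, 2, 3, 4, 5, 7])) (fun i hi => by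
      obtain ⟨x, hx, rfl⟩ := (by decide +kernel : ∀ i ∈ [0, 1, 2, 3, 4, 5, 7],
        ∃ x < 7, [0, 1, 2, 3, 4, 5, 7].getD x 0 = i) i hi
      exact key x hx)
    intro i hi
    interval_cases i
    · exact key 0 (by norm_num)
    · exact key 1 (by norm_num)
    · exact key 2 (by norm_num)
    · exact key 3 (by norm_num)
    · exact key 4 (by norm_num)
    · exact key 5 (by norm_num)
    · exact h6
    · exact key 6 (by norm_num)
    · exact h8
  · have key : ∀ x < 7, Commute (wprod f (rep 9 [1, 2, 3, 4, 5, 6, 7]))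
        (f ([6, 5, 4, 3, 2, 1, 7].getD x 0)) := fun x hx => by
      have := commute_relator SubE7.setup hT h (hemb _ (by decide)) e7_base.2 (by simp [wprod_nil])
        (SubE7.word_one (comm_e7 x hx).2) (by decide +kernel) hx
      rw [wprod_pick] at this
      exact this
    obtain ⟨h0, h8⟩ := fix_ends hT hV h.flip (k := wprod f (rep 9 [1, 2, 3, 4, 5, 6, 7])) (fun i hi => by
      obtain ⟨x, hx, e⟩ := (by decide +kernel : ∀ i ∈ [0, 1, 2, 3, 4, 5, 7],
        ∃ x < 7, [6, 5, 4, 3, 2, 1, 7].getD x 0 = flipIx i) i hi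
      show Commute _ (f (flipIx i))
      rw [← e]; exact key x hx)
    intro i hi
    interval_cases i
    · exact h0
    · exact key 5 (by norm_num)
    · exact key 4 (by norm_num)
    · exact key 3 (by norm_num)
    · exact key 2 (by norm_num)
    · exact key 1 (by norm_num)
    · exact key 0 (by norm_num)
    · exact key 6 (by norm_num)
    · exact h8

end Cfsg.Agent.FischerUnique
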