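import Cfsg.Agent.Lib.FischerUnique.Involution
import Cfsg.Agent.Lib.FischerPresented.U62Model
import Cfsg.Agent.Lib.Fischer.ProductFactor

/-!
A conjugation invariant set of 3-transpositions in PSU₆(2) is the set of transvections.
-/

set_option autoImplicit false
set_option maxRecDepth 100000

namespace Cfsg.Agent.FischerUnique

open Cfsg.Agent.CosetCert
open Cfsg.Agent.RigidGraph.He

/-- The model group. -/
abbrev SU : Type := Cfsg.SU 6 K4 2

/-- The model quotient. -/
abbrev PU : Type := Cfsg.PSU 6 K4 2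

/-- The projection. -/
noncomputable def pr : SU →* PU := QuotientGroup.mk' (Subgroup.center SU)

/-- The natural action. -/
noncomputable def act (A : SU) (x : V) : V := FischerPresented.U62.mv A x

theorem act_one (x : V) : act 1 x = x := FischerPresented.U62.mv_one x

theorem act_mul (A B : SU) (x : V) : act (A * B) x = act A (act B x) := FischerPresented.U62.mv_mul A B x

theorem act_smul (A : SU) (k : K4) (x : V) : act A (k • x) = k • act A x :=
  FischerPresented.U62.mv_smul A k x

theorem act_add (A : SU) (x y : V) : act A (x + y) = act A x + act A y := Matrix.mulVec_add _ x y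

theorem act_ext {A B : SU} (h : ∀ x, act A x = act B x) : A = B :=
  Subtype.ext (Subtype.ext (Matrix.ext_iff_mulVec.2 h))

theorem hermForm_eq (x y : V) : Cfsg.hermForm 6 K4 2 x y = hf x y :=
  Finset.sum_congr rfl fun i _ => by rw [cj, sq]

theorem act_iso (A : SU) (x y : V) : hf (act A x) (act A y) = hf x y := by
  rw [← hermForm_eq, ← hermForm_eq]; exact A.2 x y

theorem scalar_of_center {A : SU} (h : A ∈ Subgroup.center SU) :
    ∃ s : K4, s ≠ 0 ∧ ∀ x, act A x = s • x := by
  obtain ⟨s, hs⟩ := FischerPresented.U62.scalar_of_mem_center h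
  have e : ∀ x, act A x = s • x := fun x => by
    show Matrix.mulVec _ x = _
    rw [hs, Matrix.smul_mulVec, Matrix.one_mulVec]
  refine ⟨s, fun h0 => ?_, e⟩
  have h1 : act A (Pi.single 0 1) = 0 := by rw [e, h0, zero_smul]
  have h2 := act_iso A (Pi.single 0 1) (Pi.single 0 1)
  rw [h1, hf_zero_left] at h2
  exact absurd h2.symm (by simp [hf, cj, Pi.single_apply])

theorem pr_eq_one {A : SU} : pr A = 1 ↔ A ∈ Subgroup.center SU := QuotientGroup.eq_one_iff A

/-- The matrix of a transvection. -/
def tMat (v : V) : Matrix (Fin 6) (Fin 6) K4 := 1 + Matrix.vecMulVec v fun j => cj (v j)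

theorem tMat_mulVec (v x : V) : (tMat v).mulVec x = tv v x := by
  rw [tMat, Matrix.add_mulVec, Matrix.one_mulVec, Matrix.vecMulVec_mulVec, tv]
  congr 1
  funext i
  simp only [Pi.smul_apply, MulOpposite.smul_eq_mul_unop, MulOpposite.unop_op, smul_eq_mul, hf, dotProduct]
  rw [Finset.mul_sum, Finset.sum_mul]
  exact Finset.sum_congr rfl fun j _ => by ring

theorem tv_tv {v : V} (hv : hf v v = 0) (x : V) : tv v (tv v x) = x := by
  rw [tv, tv, hf_add_left, hf_smul_left, hv, mul_zero, add_zero, add_assoc, add_self', add_zero]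

theorem tMat_det {v : V} (hv : hf v v = 0) : (tMat v).det = 1 := by
  have h : tMat v * tMat v = 1 := Matrix.ext_iff_mulVec.2 fun x => by
    rw [← Matrix.mulVec_mulVec, tMat_mulVec, tMat_mulVec, tv_tv hv, Matrix.one_mulVec]
  have h1 := congrArg Matrix.det h
  rw [Matrix.det_mul, Matrix.det_one] at h1
  exact (by decide : ∀ d : K4, d * d = 1 → d = 1) _ h1

theorem tv_iso {v : V} (hv : hf v v = 0) (x y : V) : hf (tv v x) (tv v y) = hf x y := by
  have h : StepOK v 1 := by rw [StepOK, hv]; decide
  simpa only [rEquiv_apply, one_mul, tv] using rEquiv_iso h x y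

/-- The transvection in the group. -/
noncomputable def tSU (v : V) : SU :=
  if h : hf v v = 0 then ⟨⟨tMat v, tMat_det h⟩, fun x y => by
    show Cfsg.hermForm 6 K4 2 ((tMat v).mulVec x) ((tMat v).mulVec y) = Cfsg.hermForm 6 K4 2 x y
    rw [hermForm_eq, hermForm_eq, tMat_mulVec, tMat_mulVec, tv_iso h]⟩ else 1

theorem act_tSU {v : V} (hv : hf v v = 0) (x : V) : act (tSU v) x = tv v x := by
  rw [tSU, dif_pos hv]; exact tMat_mulVec v x

theorem tSU_mul_self {v : V} (hv : hf v v = 0) : tSU v * tSU v = 1 :=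
  act_ext fun x => by rw [act_mul, act_tSU hv, act_tSU hv, tv_tv hv, act_one]

theorem tSU_smul {v : V} (hv : hf v v = 0) {k : K4} (hk : k ≠ 0) : tSU (k • v) = tSU v :=
  act_ext fun x => by
    rw [act_tSU (by rw [hf_smul_left, hf_smul_right, hv, mul_zero, mul_zero]), act_tSU hv, tv_smul hk]

theorem tSU_conj {v w : V} (hv : hf v v = 0) (hw : hf w w = 0) :
    tSU w * tSU v * tSU w = tSU (tv w v) := by
  refine act_ext fun x => ?_
  have h : StepOK w 1 := by rw [StepOK, hw]; decide
  have e : ∀ y, rEquiv h y = tv w y := fun y => by rw [rEquiv_apply, one_mul, tv]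
  rw [act_mul, act_mul, act_tSU hw, act_tSU hv, act_tSU hw, act_tSU (by rw [tv_iso hw]; exact hv)]
  have h2 := map_tv (rEquiv_iso h) v (tv w x)
  rwa [e, e, e, tv_tv hw] at h2

/-- The product of transvections in the group. -/
noncomputable def tsSU (W : List V) : SU := (W.map tSU).prod

theorem act_tsSU : ∀ (W : List V), (∀ w ∈ W, hf w w = 0) → ∀ x, act (tsSU W) x = tvs W x := by
  intro W
  induction W with
  | nil => exact fun _ x => by simp [tsSU, act_one, tvs]
  | cons w W ih =>
    intro h x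
    have e : tsSU (w :: W) = tSU w * tsSU W := by simp [tsSU]
    rw [e, act_mul, act_tSU (h w List.mem_cons_self), ih (fun u hu => h u (List.mem_cons_of_mem _ hu)), tvs]

theorem tsSU_reverse : ∀ (W : List V), (∀ w ∈ W, hf w w = 0) → tsSU W * tsSU W.reverse = 1 := by
  intro W
  induction W with
  | nil => exact fun _ => by simp [tsSU]
  | cons w W ih =>
    intro h
    have ih' := ih fun u hu => h u (List.mem_cons_of_mem _ hu)
    simp only [tsSU, List.map_cons, List.prod_cons, List.reverse_cons, List.map_append, List.prod_append,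
      List.map_nil, List.prod_nil, mul_one] at ih' ⊢
    rw [mul_assoc (tSU w), ← mul_assoc (List.map tSU W).prod, ih', one_mul, tSU_mul_self (h w List.mem_cons_self)]

/-- The commutation of transvections. -/
theorem pr_commute {v w : V} (hv : hf v v = 0) (hw : hf w w = 0) (hw0 : w ≠ 0) :
    Commute (pr (tSU v)) (pr (tSU w)) ↔ hf v w = 0 := by
  constructor
  · intro h
    by_contra hne
    have h1 : pr ((tSU v * tSU w) * (tSU v * tSU w)) = 1 := by
      rw [map_mul, map_mul]
      conv_lhs => rw [mul_assoc, ← mul_assoc (pr (tSU w)), ← h.eq]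
      rw [mul_assoc, ← map_mul pr (tSU w), tSU_mul_self hw, map_one, mul_one, ← map_mul, tSU_mul_self hv,
        map_one]
    obtain ⟨s, hs, hsx⟩ := scalar_of_center (pr_eq_one.1 h1)
    have e := hsx w
    set c := hf w v with hc
    have hc0 : c ≠ 0 := fun e => hne (hf_zero_comm.1 e)
    have e1 : tv v w = w + c • v := rfl
    have e2 : tv w (w + c • v) = c • v := by
      rw [tv, hf_add_left, hw, zero_add, hf_smul_left, hf_herm w v, ← hc]
      have : ∀ c : K4, c ≠ 0 → c * cj c = 1 := by decide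
      rw [this c hc0, one_smul, add_right_comm, add_self', zero_add]
    have e0 : tv w w = w := by rw [tv, hw, zero_smul, add_zero]
    have e3 : tv v (c • v) = c • v := by rw [tv, hf_smul_left, hv, mul_zero, zero_smul, add_zero]
    rw [act_mul, act_mul, act_mul, act_tSU hw w, e0, act_tSU hv w, e1, act_tSU hw (w + c • v), e2,
      act_tSU hv, e3] at e
    have : hf (c • v) v = hf (s • w) v := by rw [e]
    rw [hf_smul_left, hv, mul_zero, hf_smul_left] at this
    exact mul_ne_zero hs hc0 this.symm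
  · intro h
    have e : tSU v * tSU w = tSU w * tSU v := act_ext fun x => by
      rw [act_mul, act_mul, act_tSU hv, act_tSU hw, act_tSU hw, act_tSU hv, tv, tv, tv, tv, hf_add_left,
        hf_add_left, hf_smul_left, hf_smul_left, h, hf_zero_comm.1 h, mul_zero, mul_zero, add_zero, add_zero,
        add_right_comm]
    exact (show Commute (tSU v) (tSU w) from e).map pr

theorem pr_inj {v w : V} (hv : hf v v = 0) (hw : hf w w = 0) (hv0 : v ≠ 0) (hw0 : w ≠ 0)
    (h : pr (tSU v) = pr (tSU w)) : ∃ k : K4, k ≠ 0 ∧ v = k • w := by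
  have hvw : hf v w = 0 := (pr_commute hv hw hw0).1 (h ▸ Commute.refl _)
  have h1 : tSU w * tSU v ∈ Subgroup.center SU := pr_eq_one.1 (by
    rw [map_mul, h, ← map_mul, tSU_mul_self hw, map_one])
  obtain ⟨s, hs, hsx⟩ := scalar_of_center h1
  have hs1 : s = 1 := by
    have e := hsx w
    rw [act_mul, act_tSU hv, act_tSU hw, tv, tv, hf_zero_comm.1 hvw, zero_smul, add_zero, hw, zero_smul,
      add_zero] at e
    have h0 : (s - 1) • w = 0 := by rw [sub_smul, one_smul, ← e, sub_self]
    exact sub_eq_zero.1 ((smul_eq_zero.1 h0).resolve_right hw0)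
  obtain ⟨x, hx⟩ : ∃ x, hf x v ≠ 0 := by
    by_contra! h0
    exact hv0 (eq_zero_of_hf fun y => hf_zero_comm.1 (h0 y))
  have e := hsx x
  rw [act_mul, act_tSU hv, act_tSU hw, hs1, one_smul] at e
  have e' := congrArg (tv w) e
  rw [tv_tv hw, tv, tv, add_right_inj] at e'
  refine ⟨(hf x v)⁻¹ * hf x w, fun h0 => ?_, ?_⟩
  · rw [mul_eq_zero, or_iff_right (inv_ne_zero hx)] at h0
    rw [h0, zero_smul] at e'
    exact (smul_eq_zero.1 e').elim hx hv0
  · rw [mul_smul, ← e', smul_smul, inv_mul_cancel₀ hx, one_smul]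

theorem conn_ok : allBelow (fun n => bif isPt n then
    !Nat.beq (fN n 5) 0 || [9, 17, 329, 65].any (fun w => !Nat.beq (fN n w) 0) else true) 4096 = true := by
  decide +kernel

theorem conn_ws : ∀ w ∈ [9, 17, 329, 65], w < 4096 ∧ isPt w = true ∧ Nat.beq (fN w 5) 0 = false := by
  decide +kernel

/-- A conjugation invariant set of 3-transpositions of the model consists of transvections, and of all. -/
theorem eq_transvections {E : Set PU} (hE : Cfsg.IsThreeTranspositionSet E)
    (hconj : ∀ g : PU, ∀ e ∈ E, g * e * g⁻¹ ∈ E) :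
    (∀ e ∈ E, ∃ v : V, v ≠ 0 ∧ hf v v = 0 ∧ e = pr (tSU v)) ∧
      (E.Nonempty → ∀ v : V, v ≠ 0 → hf v v = 0 → pr (tSU v) ∈ E) := by
  have first : ∀ e ∈ E, ∃ v : V, v ≠ 0 ∧ hf v v = 0 ∧ e = pr (tSU v) := by
    intro e he
    obtain ⟨A, hA⟩ := QuotientGroup.mk'_surjective (Subgroup.center SU) e
    change pr A = e at hA
    have hee : e * e = 1 := Fischer.TSet.sq hE he
    have h1 : A * A ∈ Subgroup.center SU := pr_eq_one.1 (by rw [map_mul, hA, hee])
    obtain ⟨s, hs, hsx⟩ := scalar_of_center h1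
    obtain ⟨B, hB⟩ : ∃ B : SU, B = A * A * A := ⟨_, rfl⟩
    have hBe : pr B = e := by rw [hB, map_mul, map_mul, hA, hee, one_mul]
    have hBB : B * B = 1 := act_ext fun x => by
      have h3 : ∀ s : K4, s ≠ 0 → s * s * s = 1 := by decide
      have e1 : B * B = A * A * (A * A) * (A * A) := by rw [hB]; group
      rw [e1, act_mul, act_mul, hsx, hsx, hsx, smul_smul, smul_smul, h3 s hs, one_smul, act_one]
    have hinv : IsInvol (act B) := ⟨act_add B, act_smul B, act_iso B, fun x => by
      rw [← act_mul, hBB, act_one]⟩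
    obtain ⟨x₀, hx₀⟩ : ∃ x, act B x ≠ x := by
      by_contra! h
      have : B = 1 := act_ext fun x => by rw [h, act_one]
      rw [this, map_one] at hBe
      exact absurd (hE.1 e he) (by rw [← hBe, orderOf_one]; norm_num)
    rcases transvection_or_witness hinv hx₀ with ⟨v, hv0, hv, hx⟩ | ⟨W, p, hW, hwit⟩
    · exact ⟨v, hv0, hv, by rw [← hBe]; exact congrArg pr (act_ext fun x => by rw [hx, act_tSU hv])⟩
    exfalso
    have hW' : ∀ w ∈ W, hf w w = 0 := fun w hw => (hW w hw).2
    obtain ⟨h, hh⟩ : ∃ h : SU, h = tsSU W := ⟨_, rfl⟩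
    have hinv' : h⁻¹ = tsSU W.reverse := hh ▸ inv_eq_of_mul_eq_one_right (tsSU_reverse W hW')
    obtain ⟨M, hM⟩ : ∃ M : SU, M = B * (h * B * h⁻¹) := ⟨_, rfl⟩
    have hMx : ∀ x, act M x = prodW (act B) W x := fun x => by
      rw [hM, act_mul, act_mul, act_mul, hinv', hh, act_tsSU W hW',
        act_tsSU _ (fun w hw => hW' w (List.mem_reverse.1 hw)), prodW]
    have hiter : ∀ m x, act (M ^ m) x = (prodW (act B) W)^[m] x := by
      intro m
      induction m with
      | zero => intro x; rw [pow_zero, act_one]; rfl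
      | succ m ih => intro x; rw [pow_succ', act_mul, hMx, ih, Function.iterate_succ_apply']
    have hu : pr (h * B * h⁻¹) ∈ E := by
      rw [map_mul, map_mul, map_inv, hBe]; exact hconj _ e he
    have hprod : pr M = e * pr (h * B * h⁻¹) := by rw [hM, map_mul, hBe]
    rcases hE.2 e he _ hu with h2 | h2
    all_goals
      rw [← hprod, ← map_pow] at h2
      obtain ⟨s, -, hsx⟩ := scalar_of_center (pr_eq_one.1 h2)
    · exact hwit 2 (by norm_num) (by norm_num) s (by rw [← hiter]; exact hsx p)
    · exact hwit 3 (by norm_num) (by norm_num) s (by rw [← hiter]; exact hsx p)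
  refine ⟨first, fun hne => ?_⟩
  -- the set of vectors is closed under moving along non-orthogonal pairs
  have move : ∀ a b : V, hf a a = 0 → hf b b = 0 → b ≠ 0 → hf a b ≠ 0 →
      pr (tSU a) ∈ E → pr (tSU b) ∈ E := by
    intro a b ha hb hb0 hab hmem
    set c := hf a b with hc
    have e1 : tSU b * tSU a * tSU b = tSU (a + c • b) := tSU_conj ha hb
    have hai : hf (a + c • b) (a + c • b) = 0 := by
      rw [show a + c • b = tv b a from rfl, tv_iso hb, ha]
    have e2 : tSU a * tSU (a + c • b) * tSU a = tSU (c • b) := by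
      rw [tSU_conj hai ha]
      congr 1
      rw [tv, hf_add_left, ha, zero_add, hf_smul_left, hf_herm a b, ← hc]
      have : ∀ c : K4, c ≠ 0 → c * cj c = 1 := by decide
      rw [this c hab, one_smul, add_right_comm, add_self', zero_add]
    rw [← tSU_smul hb hab, ← e2, ← e1]
    have inv : ∀ {v : V}, hf v v = 0 → (pr (tSU v))⁻¹ = pr (tSU v) := fun hv =>
      inv_eq_of_mul_eq_one_right (by rw [← map_mul, tSU_mul_self hv, map_one])
    simp only [map_mul]
    have h1 := hconj (pr (tSU b)) _ hmem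
    rw [inv hb] at h1
    have h2 := hconj (pr (tSU a)) _ h1
    rwa [inv ha] at h2
  obtain ⟨e, he⟩ := hne
  obtain ⟨u, hu0, hu, rfl⟩ := first e he
  have sclvec : ∀ {v : V} {n : ℕ} {k : K4}, hf v v = 0 → k ≠ 0 → vec n = k • v →
      tSU (vec n) = tSU v := fun hv hk h => by rw [h, tSU_smul hv hk]
  have h5 : pr (tSU (vec 5)) ∈ E := by
    obtain ⟨n, hn, hp, k, hk, he'⟩ := exists_pt hu0 hu
    obtain ⟨n0, n1⟩ := isPt_spec hn hp
    rw [← sclvec hu hk he'] at he
    obtain ⟨f0, f1⟩ := isPt_spec (show 5 < 4096 by norm_num) (by decide +kernel)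
    have := allBelow_spec conn_ok hn
    simp only [hp, cond_true, Bool.or_eq_true, List.any_eq_true, Bool.not_eq_true'] at this
    rcases this with h | ⟨w, hw, h⟩
    · exact move _ _ n1 f1 f0 (fun e => by rw [orth_iff.2 e] at h; exact Bool.noConfusion h) he
    · obtain ⟨hwl, hwp, hw5⟩ := conn_ws w hw
      obtain ⟨w0, w1⟩ := isPt_spec hwl hwp
      refine move _ _ w1 f1 f0 (fun e => by rw [orth_iff.2 e] at hw5; exact Bool.noConfusion hw5) ?_
      exact move _ _ n1 w1 w0 (fun e => by rw [orth_iff.2 e] at h; exact Bool.noConfusion h) he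
  intro v hv0 hv
  obtain ⟨n, hn, hp, k, hk, he'⟩ := exists_pt hv0 hv
  obtain ⟨n0, n1⟩ := isPt_spec hn hp
  rw [← sclvec hv hk he']
  obtain ⟨f0, f1⟩ := isPt_spec (show 5 < 4096 by norm_num) (by decide +kernel)
  have := allBelow_spec conn_ok hn
  simp only [hp, cond_true, Bool.or_eq_true, List.any_eq_true, Bool.not_eq_true'] at this
  rcases this with h | ⟨w, hw, h⟩
  · exact move _ _ f1 n1 n0 (fun e => by
      rw [orth_iff.2 (hf_zero_comm.1 e)] at h; exact Bool.noConfusion h) h5
  · obtain ⟨hwl, hwp, hw5⟩ := conn_ws w hw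
    obtain ⟨w0, w1⟩ := isPt_spec hwl hwp
    refine move _ _ w1 n1 n0 (fun e => by
      rw [orth_iff.2 (hf_zero_comm.1 e)] at h; exact Bool.noConfusion h) ?_
    exact move _ _ f1 w1 w0 (fun e => by
      rw [orth_iff.2 (hf_zero_comm.1 e)] at hw5; exact Bool.noConfusion hw5) h5

end Cfsg.Agent.FischerUnique
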