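import Cfsg.Agent.Lib.FischerUnique.UnitaryModel
import Cfsg.Agent.Lib.FischerUnique.Facts
import Cfsg.Agent.Lib.Fischer.TypeMFactor

/-!
In a primitive group of type M(22) the neighbours of a transposition are the points of the unitary space,
and the common neighbours of two non-commuting transpositions form a common set there.
-/

set_option autoImplicit false
set_option maxRecDepth 100000

namespace Cfsg.Agent.FischerUnique

open Cfsg.Agent.CosetCert
open Cfsg.Agent.RigidGraph.He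
open Cfsg.Agent.Fischer.Factor

universe u

variable {G : Type u} [Group G] {D : Set G}

/-- A labelling of the neighbours by the isotropic points. -/
structure View (D : Set G) (a : G) where
  toVec : G → V
  isPoint : ∀ x ∈ Nb D a, toVec x ≠ 0 ∧ hf (toVec x) (toVec x) = 0
  comm : ∀ x ∈ Nb D a, ∀ y ∈ Nb D a, Commute x y ↔ hf (toVec x) (toVec y) = 0
  inj : ∀ x ∈ Nb D a, ∀ y ∈ Nb D a, ∀ k : K4, toVec x = k • toVec y → x = y
  surj : ∀ v : V, v ≠ 0 → hf v v = 0 → ∃ x ∈ Nb D a, ∃ k : K4, k ≠ 0 ∧ toVec x = k • v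
  conj : ∀ x ∈ Nb D a, ∀ y ∈ Nb D a, ∃ k : K4, k ≠ 0 ∧ toVec (y * x * y⁻¹) = k • tv (toVec y) (toVec x)

/-- Composition with an isometry. -/
def View.comp {a : G} (W : View D a) (g : V ≃ₗ[K4] V) (hg : IsIso g) : View D a where
  toVec x := g (W.toVec x)
  isPoint x hx := ⟨fun e => (W.isPoint x hx).1 (g.injective (by rw [e, map_zero])), by
    rw [hg]; exact (W.isPoint x hx).2⟩
  comm x hx y hy := by rw [hg]; exact W.comm x hx y hy
  inj x hx y hy k e := W.inj x hx y hy k (g.injective (by rw [e, map_smul]))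
  surj v h0 hv := by
    obtain ⟨x, hx, k, hk, e⟩ := W.surj (g.symm v) (fun e => h0 (by rw [← g.apply_symm_apply v, e, map_zero]))
      (by rw [hg.symm]; exact hv)
    exact ⟨x, hx, k, hk, by rw [e, map_smul, g.apply_symm_apply]⟩
  conj x hx y hy := by
    obtain ⟨k, hk, e⟩ := W.conj x hx y hy
    exact ⟨k, hk, by rw [e, map_smul, map_tv hg]⟩

/-- Field transport of the unitary group. -/
theorem nonempty_psu_model {F : Type} [Field F] [Fintype F] (hF : Fintype.card F = 4) :
    Nonempty (Cfsg.PSU 6 F 2 ≃* PU) := by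
  have e : F ≃+* K4 := FiniteField.ringEquivOfCardEq (by rw [hF, K4.card_K4])
  have hh : ∀ (A : Matrix.SpecialLinearGroup (Fin 6) F) (u : Fin 6 → F),
      (Cfsg.slToMat 6 K4 (Matrix.SpecialLinearGroup.map e.toRingHom A)).mulVec (fun i => e (u i)) =
      fun i => e ((Cfsg.slToMat 6 F A).mulVec u i) := by
    intro A u
    funext i
    show ((Matrix.SpecialLinearGroup.map e.toRingHom A : Matrix.SpecialLinearGroup (Fin 6) K4) :
        Matrix (Fin 6) (Fin 6) K4).mulVec (fun i => e (u i)) i = e ((A : Matrix (Fin 6) (Fin 6) F).mulVec u i)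
    simp [Matrix.mulVec, dotProduct, map_sum]
  have hform : ∀ u v : Fin 6 → F, Cfsg.hermForm 6 K4 2 (fun i => e (u i)) (fun i => e (v i)) =
      e (Cfsg.hermForm 6 F 2 u v) := fun u v => by simp [Cfsg.hermForm, map_sum]
  have hinv : ∀ A : Matrix.SpecialLinearGroup (Fin 6) F,
      Matrix.SpecialLinearGroup.map e.toRingHom A ∈ Cfsg.SU 6 K4 2 ↔ A ∈ Cfsg.SU 6 F 2 := by
    intro A
    constructor
    · intro h u v
      refine e.injective ?_
      rw [← hform, ← hform]
      have h' := h (fun i => e (u i)) (fun i => e (v i))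
      change Cfsg.hermForm 6 K4 2 (Matrix.mulVec _ _) (Matrix.mulVec _ _) = _ at h'
      rw [hh, hh] at h'
      exact h'
    · intro h u v
      have eu : ∀ w : Fin 6 → K4, (fun i => e (e.symm (w i))) = w := fun w => funext fun i => e.apply_symm_apply _
      rw [← eu u, ← eu v]
      show Cfsg.hermForm 6 K4 2 (Matrix.mulVec _ _) (Matrix.mulVec _ _) = _
      rw [hh, hh, hform, hform]
      exact congrArg e (h _ _)
  let f : Cfsg.SU 6 F 2 →* Cfsg.SU 6 K4 2 :=
    ((Matrix.SpecialLinearGroup.map e.toRingHom).comp (Cfsg.SU 6 F 2).subtype).codRestrict _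
      fun A => (hinv _).2 A.2
  have hcomp : ∀ A : Matrix.SpecialLinearGroup (Fin 6) K4,
      Matrix.SpecialLinearGroup.map e.toRingHom (Matrix.SpecialLinearGroup.map e.symm.toRingHom A) = A := fun A => by
    ext i j; simp
  have hb : Function.Bijective f := by
    constructor
    · intro A B h
      have := congrArg (fun X : Cfsg.SU 6 K4 2 =>
        Matrix.SpecialLinearGroup.map e.symm.toRingHom X.1) h
      refine Subtype.ext ?_
      ext i j
      have := congrArg (fun X : Matrix.SpecialLinearGroup (Fin 6) F => (X : Matrix (Fin 6) (Fin 6) F) i j) this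
      simpa [f] using this
    · intro B
      refine ⟨⟨Matrix.SpecialLinearGroup.map e.symm.toRingHom B.1, (hinv _).1 ?_⟩, Subtype.ext (hcomp _)⟩
      rw [hcomp]; exact B.2
  let E := MulEquiv.ofBijective f hb
  have hcen : (Subgroup.center (Cfsg.SU 6 F 2)).map E.toMonoidHom = Subgroup.center (Cfsg.SU 6 K4 2) := by
    ext x
    simp only [Subgroup.mem_map, Subgroup.mem_center_iff]
    constructor
    · rintro ⟨y, hy, rfl⟩ g
      obtain ⟨g, rfl⟩ := E.surjective g
      exact (map_mul E g y).symm.trans ((congrArg E (hy g)).trans (map_mul E y g))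
    · intro hx
      refine ⟨E.symm x, fun g => E.injective ?_, E.apply_symm_apply x⟩
      rw [map_mul, map_mul, E.apply_symm_apply]
      exact hx (E g)
  exact ⟨QuotientGroup.congr _ _ E hcen⟩

variable [Finite G]

/-- A labelling from an isomorphism of the central quotient with the model. -/
theorem nonempty_view (hT : Cfsg.IsThreeTranspositionGroup D) (htr : Trans D) (hfree : TwinFree D)
    {a : G} (ha : a ∈ D) (e : Q D a ≃* PU) : Nonempty (View D a) := by
  classical
  have hgrp := img_group hT htr hfree ha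
  set E : Set PU := e '' img D a with hE
  have hEset : Cfsg.IsThreeTranspositionSet E := by
    refine ⟨?_, ?_⟩
    · rintro _ ⟨x, hx, rfl⟩
      exact (orderOf_injective e.toMonoidHom e.injective x).trans (hgrp.1.1 x hx)
    · rintro _ ⟨x, hx, rfl⟩ _ ⟨y, hy, rfl⟩
      rcases hgrp.1.2 x hx y hy with h | h
      · left; rw [← map_mul, ← map_pow, h, map_one]
      · right; rw [← map_mul, ← map_pow, h, map_one]
  have hEconj : ∀ g : PU, ∀ z ∈ E, g * z * g⁻¹ ∈ E := by
    rintro g _ ⟨x, hx, rfl⟩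
    exact ⟨e.symm g * x * (e.symm g)⁻¹, hgrp.2.1 _ _ hx, by simp⟩
  obtain ⟨hall, hfull⟩ := eq_transvections hEset hEconj
  have hne : E.Nonempty := by
    by_contra h
    rw [Set.not_nonempty_iff_eq_empty, hE, Set.image_eq_empty] at h
    have h1 := hgrp.2.2
    rw [h, Subgroup.closure_empty] at h1
    have h2 : ∀ z : PU, z = 1 := fun z => by
      have hz : e.symm z ∈ (⊤ : Subgroup (Q D a)) := Subgroup.mem_top _
      rw [← h1, Subgroup.mem_bot] at hz
      rw [← e.apply_symm_apply z, hz, map_one]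
    obtain ⟨p0, p1⟩ := isPt_spec (show 5 < 4096 by norm_num) (by decide +kernel)
    obtain ⟨q0, q1⟩ := isPt_spec (show 9 < 4096 by norm_num) (by decide +kernel)
    obtain ⟨k, -, hk⟩ := pr_inj p1 q1 p0 q0 ((h2 _).trans (h2 _).symm)
    have h0 : hf (vec 5) (vec 9) = 0 := by rw [hk, hf_smul_left, q1, mul_zero]
    exact absurd (orth_iff.2 h0) (by decide +kernel)
  set f : G → PU := fun x => if h : x ∈ Subgroup.closure (Nb D a) then e (QuotientGroup.mk ⟨x, h⟩) else 1
  have hf' : ∀ x (h : x ∈ Nb D a), f x = e (QuotientGroup.mk ⟨x, nb_subset h⟩) := fun x h =>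
    dif_pos (nb_subset h)
  have key : ∀ x, ∃ v : V, x ∈ Nb D a → v ≠ 0 ∧ hf v v = 0 ∧ f x = pr (tSU v) := fun x => by
    by_cases h : x ∈ Nb D a
    · obtain ⟨v, h0, h1, h2⟩ := hall (f x) ⟨_, ⟨_, h, rfl⟩, (hf' x h).symm⟩
      exact ⟨v, fun _ => ⟨h0, h1, h2⟩⟩
    · exact ⟨0, fun h' => absurd h' h⟩
  choose w hw using key
  have hcomm : ∀ x ∈ Nb D a, ∀ y ∈ Nb D a, (Commute x y ↔ Commute (f x) (f y)) := fun x hx y hy => by
    have key := mk_commute_iff hT.1 (x := ⟨x, nb_subset hx⟩) (y := ⟨y, nb_subset hy⟩) hx.1 hy.1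
    rw [hf' x hx, hf' y hy]
    exact key.symm.trans ⟨fun h => h.map e.toMonoidHom, fun h => by
      have := h.map e.symm.toMonoidHom
      simpa using this⟩
  have hinj : ∀ x ∈ Nb D a, ∀ y ∈ Nb D a, f x = f y → x = y := fun x hx y hy h => by
    rw [hf' x hx, hf' y hy] at h
    exact congrArg Subtype.val (img_inj hT htr hfree ha
      (x := ⟨x, nb_subset hx⟩) (y := ⟨y, nb_subset hy⟩) hx hy (e.injective h))
  have hcl : ∀ x ∈ Nb D a, ∀ y ∈ Nb D a, y * x * y⁻¹ ∈ Nb D a := fun x hx y hy => by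
    have := nb_conj hT y hx
    rwa [Fischer.conj_eq_self_of_commute hy.2.2.symm] at this
  refine ⟨⟨w, fun x hx => ⟨(hw x hx).1, (hw x hx).2.1⟩, fun x hx y hy => ?_, fun x hx y hy k h => ?_,
    fun v h0 hv => ?_, fun x hx y hy => ?_⟩⟩
  · rw [hcomm x hx y hy, (hw x hx).2.2, (hw y hy).2.2, pr_commute (hw x hx).2.1 (hw y hy).2.1 (hw y hy).1]
  · refine hinj x hx y hy ?_
    have hk : k ≠ 0 := fun e => (hw x hx).1 (by rw [h, e, zero_smul])
    rw [(hw x hx).2.2, (hw y hy).2.2, h, tSU_smul (hw y hy).2.1 hk]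
  · obtain ⟨_, ⟨⟨x, hxc⟩, hx, rfl⟩, he⟩ := hfull hne v h0 hv
    have h2 : f x = pr (tSU v) := (hf' x hx).trans he
    obtain ⟨h0', h1', h2'⟩ := hw x hx
    obtain ⟨k, hk, hk'⟩ := pr_inj h1' hv h0' h0 (h2'.symm.trans h2)
    exact ⟨x, hx, k, hk, hk'⟩
  · obtain ⟨h0x, h1x, h2x⟩ := hw x hx
    obtain ⟨h0y, h1y, h2y⟩ := hw y hy
    obtain ⟨h0z, h1z, h2z⟩ := hw _ (hcl x hx y hy)
    have h3 : f (y * x * y⁻¹) = f y * f x * (f y)⁻¹ := by
      rw [hf' _ (hcl x hx y hy), hf' x hx, hf' y hy, ← map_inv e, ← map_mul, ← map_mul]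
      rfl
    have hti : hf (tv (w y) (w x)) (tv (w y) (w x)) = 0 := by rw [tv_iso h1y]; exact h1x
    rw [h2z, h2y, h2x, inv_eq_of_mul_eq_one_right
      (show pr (tSU (w y)) * pr (tSU (w y)) = 1 by rw [← map_mul, tSU_mul_self h1y, map_one]),
      ← map_mul, ← map_mul, tSU_conj h1x h1y] at h3
    exact pr_inj h1z hti h0z (fun e => h0x (by rw [← tv_tv h1y (w x), e, tv, hf_zero_left, zero_smul, add_zero]))
      h3

/-- Labellings at every member of a group of type M(22). -/
theorem views (hT : Cfsg.IsThreeTranspositionGroup D) (hprim : Cfsg.IsPrimitiveUnderConj D)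
    (ht : Cfsg.IsOfTypeM22 G D) : ∀ a ∈ D, Nonempty (View D a) := by
  intro a ha
  have hfree : TwinFree D := fun d v hd hs => Fischer.prim_sameComm_trivial hT hprim hd hs
  obtain ⟨-, d, hd, c, -, -, ⟨F, iF, iFF, hF, ⟨e⟩⟩, -⟩ := ht
  obtain ⟨ψ⟩ := nonempty_psu_model hF
  obtain ⟨W⟩ := nonempty_view hT hprim.1 hfree hd (e.trans ψ)
  obtain ⟨g, rfl⟩ := hprim.1 d hd a ha
  have hback : ∀ y ∈ Nb D (g * d * g⁻¹), g⁻¹ * y * g ∈ Nb D d := fun y hy => by
    have := nb_conj hT g⁻¹ hy
    rwa [inv_inv, show g⁻¹ * (g * d * g⁻¹) * g = d by group] at this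
  refine ⟨⟨fun x => W.toVec (g⁻¹ * x * g), fun x hx => W.isPoint _ (hback x hx), fun x hx y hy => ?_,
    fun x hx y hy k h => ?_, fun v h0 hv => ?_, fun x hx y hy => ?_⟩⟩
  · rw [← W.comm _ (hback x hx) _ (hback y hy)]
    have h1 := Fischer.commute_conj_iff g (g⁻¹ * x * g) (g⁻¹ * y * g)
    rw [show g * (g⁻¹ * x * g) * g⁻¹ = x by group, show g * (g⁻¹ * y * g) * g⁻¹ = y by group] at h1
    exact h1
  · have := W.inj _ (hback x hx) _ (hback y hy) k h
    simpa using this
  · obtain ⟨x, hx, k, hk, h⟩ := W.surj v h0 hv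
    refine ⟨g * x * g⁻¹, nb_conj hT g hx, k, hk, ?_⟩
    rw [show g⁻¹ * (g * x * g⁻¹) * g = x by group, h]
  · obtain ⟨k, hk, h⟩ := W.conj _ (hback x hx) _ (hback y hy)
    refine ⟨k, hk, ?_⟩
    rw [show g⁻¹ * (y * x * y⁻¹) * g = g⁻¹ * y * g * (g⁻¹ * x * g) * (g⁻¹ * y * g)⁻¹ by group, h]

/-! ### The line through a point -/

/-- Two points with the same partners over a third lie on one line with it. -/
theorem same_line {u x y : V} (hu0 : u ≠ 0) (hu : hf u u = 0) (hx0 : x ≠ 0) (hx : hf x x = 0)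
    (hy0 : y ≠ 0) (hy : hf y y = 0) (hxu : hf x u = 0) (hyu : hf y u = 0) (hyx : hf y x = 0)
    (hxne : ∀ k : K4, x ≠ k • u)
    (hsame : ∀ z, z ≠ 0 → hf z z = 0 → hf z u = 0 → (∀ k : K4, z ≠ k • u) → hf z x = 0 → hf z y = 0) :
    ∃ α β : K4, y = α • u + β • x := by
  by_contra hno
  push Not at hno
  set v : ℕ → V := fun i => [u, x].getD i 0 with hv
  obtain ⟨g₁, hg₁, -, hm₁⟩ := flag_step (k := 0) (by norm_num) hu0 hu IsIso.refl (v := v)
    (fun i hi => absurd hi (Nat.not_lt_zero i)) (fun i hi => absurd hi (Nat.not_lt_zero i))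
    (fun a b c hc hb ha e => hu0 (by
      rw [e, ha one_pos, hb (by norm_num), hc (by norm_num), zero_smul, zero_smul, zero_smul,
        add_zero, add_zero]))
  obtain ⟨g₂, hg₂, hfix₂, hm₂⟩ := flag_step (k := 1) (by norm_num) hx0 hx hg₁ (v := v)
    (fun i hi => by obtain rfl : i = 0 := (by omega); exact hm₁)
    (fun i hi => by obtain rfl : i = 0 := (by omega); exact hxu)
    (fun a b c hc hb _ e => hxne a (by
      rw [hb (by norm_num), hc (by norm_num), zero_smul, zero_smul, add_zero, add_zero] at e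
      exact e))
  obtain ⟨g₃, hg₃, hfix₃, c, hc, ec⟩ := flag_step (k := 2) (by norm_num) hy0 hy hg₂ (v := v)
    (fun i hi => by
      rcases Nat.lt_succ_iff_lt_or_eq.1 hi with h | rfl
      · exact hfix₂ i h
      · exact hm₂)
    (fun i hi => by interval_cases i <;> assumption)
    (fun a b c hc _ _ e => hno a b (by rw [hc (by norm_num), zero_smul, add_zero] at e; exact e))
  obtain ⟨a, ha, ea⟩ := hfix₃ 0 (by norm_num)
  obtain ⟨b, hb, eb⟩ := hfix₃ 1 (by norm_num)
  change g₃ u = _ at ea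
  change g₃ x = _ at eb
  obtain ⟨n, hn, hpt, ho0, ho1, hno2, hind⟩ : ∃ n, n < 4096 ∧ isPt n = true ∧ Nat.beq (fN n 5) 0 = true ∧
      Nat.beq (fN n 80) 0 = true ∧ Nat.beq (fN n 1280) 0 = false ∧ indep n 5 = true :=
    ⟨1541, by decide +kernel⟩
  obtain ⟨n0, n1⟩ := isPt_spec hn hpt
  set z := g₃.symm (vec n) with hz
  have gz : g₃ z = vec n := g₃.apply_symm_apply _
  have z1 : hf z u = 0 := by
    rw [← hg₃, gz, ea, hf_smul_right]
    exact mul_eq_zero_of_right _ (orth_iff.1 ho0)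
  have z2 : hf z x = 0 := by
    rw [← hg₃, gz, eb, hf_smul_right]
    exact mul_eq_zero_of_right _ (orth_iff.1 ho1)
  have z3 : hf z y ≠ 0 := fun h => by
    rw [← hg₃, gz, ec, hf_smul_right, mul_eq_zero] at h
    have h' := h.resolve_left fun e => hc ((cj_eq_zero c).1 e)
    rw [orth_iff.2 (show hf (vec n) (vec 1280) = 0 from h')] at hno2
    exact Bool.noConfusion hno2
  refine z3 (hsame z (fun e => n0 (by rw [← gz, e, map_zero])) (by rw [← hg₃, gz]; exact n1) z1
    (fun k e => of_indep hn hind (k * a) (by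
      have : g₃ z = g₃ (k • u) := congrArg g₃ e
      rw [gz, map_smul, ea, smul_smul] at this
      rw [this]; exact add_self' _)) z2)

omit [Finite G] in
/-- The line through `s` and `x` seen at `a` contains the line through `a` and `x` seen at `s`. -/
theorem line_transfer {a s x y : G} (A : View D a) (W : View D s)
    (hxa : x ∈ Nb D a) (hxs : x ∈ Nb D s) (hya : y ∈ Nb D a) (hys : y ∈ Nb D s) (hsa : s ∈ Nb D a)
    {α β : K4} (h : W.toVec y = α • W.toVec a + β • W.toVec x) (has : a ∈ Nb D s) :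
    ∃ γ δ : K4, δ ≠ 0 ∧ A.toVec y = γ • A.toVec s + δ • A.toVec x := by
  obtain ⟨s0, s1⟩ := A.isPoint s hsa
  obtain ⟨x0, x1⟩ := A.isPoint x hxa
  obtain ⟨y0, y1⟩ := A.isPoint y hya
  have hxs' : hf (A.toVec x) (A.toVec s) = 0 := (A.comm x hxa s hsa).1 hxs.2.2.symm
  have hys' : hf (A.toVec y) (A.toVec s) = 0 := (A.comm y hya s hsa).1 hys.2.2.symm
  have hWxa : hf (W.toVec x) (W.toVec a) = 0 := (W.comm x hxs a has).1 hxa.2.2.symm
  have hxy : Commute y x := (W.comm y hys x hxs).2 (by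
    rw [h, hf_add_left, hf_smul_left, hf_smul_left, (W.isPoint x hxs).2, hf_zero_comm.1 hWxa, mul_zero,
      mul_zero, add_zero])
  have hne : ∀ k : K4, A.toVec x ≠ k • A.toVec s := fun k e => hxs.2.1 (A.inj x hxa s hsa k e)
  obtain ⟨γ, δ, hγ⟩ := same_line s0 s1 x0 x1 y0 y1 hxs' hys' ((A.comm y hya x hxa).1 hxy) hne
    (fun z z0 z1 zs zne zx => by
      obtain ⟨t, ht, m, hm, et⟩ := A.surj z z0 z1
      have cts : Commute t s := (A.comm t ht s hsa).2 (by rw [et, hf_smul_left, zs, mul_zero])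
      have ctx : Commute t x := (A.comm t ht x hxa).2 (by rw [et, hf_smul_left, zx, mul_zero])
      have tsne : t ≠ s := fun e => zne m⁻¹ (by
        rw [← e, et, smul_smul, inv_mul_cancel₀ hm, one_smul])
      have hts : t ∈ Nb D s := ⟨ht.1, tsne, cts.symm⟩
      have hty : Commute t y := (W.comm t hts y hys).2 (by
        rw [h, hf_add_right, hf_smul_right, hf_smul_right, (W.comm t hts a has).1 ht.2.2.symm,
          (W.comm t hts x hxs).1 ctx, mul_zero, mul_zero, add_zero])
      have := (A.comm t ht y hya).1 hty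
      rw [et, hf_smul_left, mul_eq_zero] at this
      exact this.resolve_left hm)
  refine ⟨γ, δ, fun e => hys.2.1 (A.inj y hya s hsa γ ?_), hγ⟩
  rw [hγ, e, zero_smul, add_zero]

/-- The set of common neighbours, as vectors. -/
def comSet {a : G} (A : View D a) (b : G) (v : V) : Prop :=
  ∃ x ∈ Nb D a, Commute b x ∧ ∃ k : K4, k ≠ 0 ∧ v = k • A.toVec x

omit [Finite G] in
theorem comSet_toVec {a b : G} (A : View D a) {x : G} (hx : x ∈ Nb D a) (h : Commute b x) :
    comSet A b (A.toVec x) := ⟨x, hx, h, 1, one_ne_zero, (one_smul _ _).symm⟩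

omit [Finite G] in
theorem of_comSet {a b : G} (A : View D a) {x : G} (hx : x ∈ Nb D a) (h : comSet A b (A.toVec x)) :
    Commute b x := by
  obtain ⟨y, hy, hc, k, -, e⟩ := h
  rwa [A.inj x hx y hy k e]

theorem isCommonSet (hT : Cfsg.IsThreeTranspositionGroup D) (hV : ∀ z ∈ D, Nonempty (View D z))
    {a b : G} (ha : a ∈ D) (hb : b ∈ D) (hab : ¬ Commute a b) (A : View D a) :
    IsCommonSet (comSet A b) where
  sub v := by
    rintro ⟨x, hx, -, k, hk, rfl⟩
    exact ⟨smul_ne_zero hk (A.isPoint x hx).1, by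
      rw [hf_smul_left, hf_smul_right, (A.isPoint x hx).2, mul_zero, mul_zero]⟩
  scale v k hk := by
    rintro ⟨x, hx, hc, m, hm, rfl⟩
    exact ⟨x, hx, hc, k * m, mul_ne_zero hk hm, smul_smul k m _⟩
  close v w := by
    rintro ⟨x, hx, hcx, k, hk, rfl⟩ ⟨y, hy, hcy, m, hm, rfl⟩ hne
    obtain ⟨n, hn, e⟩ := A.conj x hx y hy
    have hz : y * x * y⁻¹ ∈ Nb D a := by
      have := nb_conj hT y hx
      rwa [Fischer.conj_eq_self_of_commute hy.2.2.symm] at this
    refine ⟨_, hz, (hcy.mul_right hcx).mul_right hcy.inv_right, k * n⁻¹,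
      mul_ne_zero hk (inv_ne_zero hn), ?_⟩
    rw [e, smul_smul (k * n⁻¹) n, inv_mul_cancel_right₀ hn, tv, smul_add, smul_smul, add_right_inj, smul_smul]
    congr 1
    have : ∀ m : K4, m ≠ 0 → cj m * m = 1 := by decide
    rw [hf_smul_left, hf_smul_right]
    calc k * (cj m * hf (A.toVec x) (A.toVec y)) * m = k * hf (A.toVec x) (A.toVec y) * (cj m * m) := by ring
      _ = k * hf (A.toVec x) (A.toVec y) := by rw [this m hm, mul_one]
  lineEx v x := by
    rintro ⟨s, hs, hbs, m, hm, rfl⟩ hx hxs hne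
    have x0 : x ≠ 0 := fun e => hne 0 (by rw [e, zero_smul, add_zero])
    obtain ⟨e, he, n, hn, en⟩ := A.surj x x0 hx
    have hes : Commute e s := (A.comm e he s hs).2 (by
      rw [hf_smul_right, mul_eq_zero] at hxs
      rw [en, hf_smul_left, hxs.resolve_left (fun h => hm ((cj_eq_zero m).1 h)), mul_zero])
    have hesne : e ≠ s := by
      intro h
      subst h
      refine hne (m * n)⁻¹ ?_
      rw [en, smul_smul, smul_smul, mul_assoc, inv_mul_cancel₀ (mul_ne_zero hm hn), one_smul]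
      exact add_self' _
    obtain ⟨W⟩ := hV s hs.1
    have has : a ∈ Nb D s := ⟨ha, fun h => hs.2.1 h.symm, hs.2.2.symm⟩
    have hbS : b ∈ Nb D s := ⟨hb, fun h => hab (h ▸ hs.2.2), hbs.symm⟩
    have heS : e ∈ Nb D s := ⟨he.1, hesne, hes.symm⟩
    have hab' : hf (W.toVec a) (W.toVec b) ≠ 0 := fun h => hab ((W.comm a has b hbS).2 h)
    have hea : hf (W.toVec e) (W.toVec a) = 0 := (W.comm e heS a has).1 he.2.2.symm
    set k := hf (W.toVec e) (W.toVec b) * (hf (W.toVec a) (W.toVec b))⁻¹ with hk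
    set Y := W.toVec e + k • W.toVec a with hY
    have hYb : hf Y (W.toVec b) = 0 := by
      rw [hY, hf_add_left, hf_smul_left, hk, inv_mul_cancel_right₀ hab', K4.add_self]
    have hYa : hf Y (W.toVec a) = 0 := by
      rw [hY, hf_add_left, hf_smul_left, hea, (W.isPoint a has).2, mul_zero, add_zero]
    have hYY : hf Y Y = 0 := by
      rw [hY]
      simp only [hf_add_left, hf_add_right, hf_smul_left, hf_smul_right, (W.isPoint e heS).2,
        (W.isPoint a has).2, hea, hf_zero_comm.1 hea, mul_zero, add_zero]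
    have hY0 : Y ≠ 0 := fun h => he.2.1 (W.inj e heS a has k (by
      rw [hY, add_eq_zero_iff_eq_neg] at h
      exact h.trans (funext fun _ => rfl)))
    obtain ⟨y, hy, q, hq, eq⟩ := W.surj Y hY0 hYY
    have hya : Commute y a := (W.comm y hy a has).2 (by rw [eq, hf_smul_left, hYa, mul_zero])
    have hyb : Commute y b := (W.comm y hy b hbS).2 (by rw [eq, hf_smul_left, hYb, mul_zero])
    have hyane : y ≠ a := fun h => hab (h ▸ hyb)
    have hyA : y ∈ Nb D a := ⟨hy.1, hyane, hya.symm⟩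
    obtain ⟨γ, δ, hδ, eA⟩ := line_transfer A W he heS hyA hy hs (α := q * k) (β := q)
      (by rw [eq, hY, smul_add, smul_smul, add_comm]) has
    refine ⟨γ * δ⁻¹ * n⁻¹ * m⁻¹, y, hyA, hyb.symm, (δ * n)⁻¹, inv_ne_zero (mul_ne_zero hδ hn), ?_⟩
    rw [eA, en, smul_add, smul_smul, smul_smul, smul_smul, add_comm (_ • A.toVec s)]
    congr 1
    · rw [smul_smul, mul_assoc, inv_mul_cancel₀ (mul_ne_zero hδ hn), one_smul]
    · congr 1
      field_simp
  lineUniq v x k := by
    rintro ⟨s, hs, hbs, m, hm, rfl⟩ ⟨e, he, hbe, n, hn, rfl⟩ hxs hne hk ⟨y, hy, hby, q, hq, eq⟩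
    have hes : Commute e s := (A.comm e he s hs).2 (by
      rw [hf_smul_left, hf_smul_right, mul_eq_zero] at hxs
      exact (mul_eq_zero.1 (hxs.resolve_left hn)).resolve_left fun h => hm ((cj_eq_zero m).1 h))
    have hesne : e ≠ s := by
      intro h
      subst h
      refine hne (n * m⁻¹) ?_
      rw [smul_smul, inv_mul_cancel_right₀ hm]
      exact add_self' _
    have hys : Commute y s := (A.comm y hy s hs).2 (by
      have h2 : hf (n • A.toVec e + k • (m • A.toVec s)) (A.toVec s) = 0 := by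
        rw [hf_add_left, hf_smul_left, hf_smul_left, hf_smul_left, (A.comm e he s hs).1 hes,
          (A.isPoint s hs).2, mul_zero, mul_zero, mul_zero, add_zero]
      rw [eq, hf_smul_left, mul_eq_zero] at h2
      exact h2.resolve_left hq)
    have hysne : y ≠ s := by
      intro h
      subst h
      refine hne (k + q * m⁻¹) ?_
      rw [add_smul, ← add_assoc, eq, smul_smul, inv_mul_cancel_right₀ hm]
      exact add_self' _
    obtain ⟨W⟩ := hV s hs.1
    have has : a ∈ Nb D s := ⟨ha, fun h => hs.2.1 h.symm, hs.2.2.symm⟩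
    have hbS : b ∈ Nb D s := ⟨hb, fun h => hab (h ▸ hs.2.2), hbs.symm⟩
    have heS : e ∈ Nb D s := ⟨he.1, hesne, hes.symm⟩
    have hyS : y ∈ Nb D s := ⟨hy.1, hysne, hys.symm⟩
    have hsA : s ∈ Nb D a := hs
    have ey : A.toVec y = (q⁻¹ * (k * m)) • A.toVec s + (q⁻¹ * n) • A.toVec e := by
      have := congrArg (fun z => q⁻¹ • z) eq
      simp only [smul_add, smul_smul, inv_mul_cancel₀ hq, one_smul] at this
      rw [← this, add_comm]
    obtain ⟨γ, δ, hδ, eW⟩ := line_transfer W A heS he hyS hy has ey hsA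
    have hab' : hf (W.toVec a) (W.toVec b) ≠ 0 := fun h => hab ((W.comm a has b hbS).2 h)
    have h1 := (W.comm y hyS b hbS).1 hby.symm
    rw [eW, hf_add_left, hf_smul_left, hf_smul_left, (W.comm e heS b hbS).1 hbe.symm, mul_zero,
      add_zero, mul_eq_zero] at h1
    have hγ := h1.resolve_right hab'
    have : y = e := W.inj y hyS e heS δ (by rw [eW, hγ, zero_smul, zero_add])
    subst this
    have h2 : (n + q) • A.toVec y + (k * m) • A.toVec s = 0 := by
      rw [add_smul, ← eq, smul_smul, add_right_comm]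
      exact add_self' _
    rcases eq_or_ne (n + q) 0 with h3 | h3
    · rw [h3, zero_smul, zero_add] at h2
      exact mul_ne_zero hk hm ((smul_eq_zero.1 h2).resolve_right (A.isPoint s hs).1)
    · refine hesne (A.inj y hy s hs ((n + q)⁻¹ * (k * m)) ?_)
      have h4 : (n + q) • A.toVec y = (k * m) • A.toVec s := by
        rw [add_eq_zero_iff_eq_neg] at h2
        exact h2.trans (funext fun _ => rfl)
      rw [mul_smul, ← h4, smul_smul, inv_mul_cancel₀ h3, one_smul]

end Cfsg.Agent.FischerUnique
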